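import Cfsg.Agent.OEightTwo.Data

/-!
Kernel evaluation of the certificates.
-/

set_option autoImplicit false
set_option maxRecDepth 100000
set_option Elab.async false

namespace Cfsg.Lib.OEightTwo

open Cfsg.Lib.ConwayType.Code (qB pB W w135 g1 wact)

/-- The checked hint of a root. -/
def hintOK (e : ℕ × ℕ) : Hint → Bool
  | .odd => eqW [sTwo, e, sTwo, e, sTwo, e, sTwo, e, sTwo, e, sTwo, e] [] && !eqW [sTwo, e, sTwo, e] []
  | .pow j t => (okRoot t || okTwo t) && eqW ((List.range j).flatMap fun _ => [sTwo, e]) [t]
  | .conj w => (w.all fun i => decide (i < 5)) &&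
      eqW ([sTwo, e] ++ w.map fun i => g1.getD i (0, 0)) ((w.map fun i => g1.getD i (0, 0)) ++ [sTwo, eThree])

/-- The singular vectors of the section. -/
def wSing : List ℕ := W.filter fun v => v != 0 && !qB v

/-- The listed root at a position. -/
def rootAt (i : ℕ) : ℕ × ℕ := ((rootsList.getD (i / 175) []).getD (i % 175) ((0, 0), .odd)).1

theorem fB_eq : ((List.range 256).all fun a => (List.range 256).all fun b => fB a b == pB a b) = true := by
  decide +kernel

theorem roots_ok : (rootsList.flatten.all fun r => okRoot r.1 && hintOK r.1 r.2) = true := by decide +kernel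

theorem pos_ok : (decide (w135.length = rootPos.length) && (w135.zip rootPos).all fun p =>
    decide (wSing.length = p.2.length) && (wSing.zip p.2).all fun q =>
      decide (q.2 < 1575) && eqW [(p.1.1, wact g1 p.1.2 q.1)] [rootAt q.2]) = true := by decide +kernel

theorem fixTwo_ok : ((rootsList.flatten.map (·.1)).filter fun r => eqW [r, sTwo] [sTwo, r]) = fixTwo ∧
    distinct fixTwo = true := by decide +kernel

theorem fixThree_ok :
    ((rootsList.flatten.map (·.1)).filter fun r => eqW [r, sTwo, eThree] [sTwo, eThree, r]) = fixThree ∧
    distinct fixThree = true := by decide +kernel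

theorem certTwo_ok : chk false 6 [[], [sTwo]] fixTwo certTwo = true := by decide +kernel

theorem certThree_ok : chk true 3 [[], [sTwo, eThree]] fixThree certThree = true := by decide +kernel

end Cfsg.Lib.OEightTwo
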