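import Cfsg.Agent.ConwayType.Code

/-!
Coded root elements of the orthogonal group of plus type in dimension eight over two elements and the Boolean
checker of the certificate that shows subgroups to be safe.
-/

set_option autoImplicit false

namespace Cfsg.Lib.OEightTwo

open Cfsg.Lib.ConwayType.Code (qB par pB W w135 g1)

/-- The polar form by parity. -/
def fB (a b : ℕ) : Bool := par.testBit (a &&& ((b >>> 4) ||| ((b &&& 15) <<< 4)))

/-- The coded Siegel map of a pair. -/
def rf (t : ℕ × ℕ) (x : ℕ) : ℕ :=
  x ^^^ (bif fB t.1 x then t.2 else 0) ^^^ (bif (fB t.2 x ^^ (qB t.2 && fB t.1 x)) then t.1 else 0)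

/-- A pair giving a Siegel element. -/
def okPair (t : ℕ × ℕ) : Bool := decide (t.1 < 256) && decide (t.2 < 256) && !qB t.1 && !fB t.1 t.2

/-- A pair giving a root element: both vectors singular, spanning a line. -/
def okRoot (t : ℕ × ℕ) : Bool := okPair t && !qB t.2 && t.1 != 0 && t.2 != 0 && t.1 != t.2

/-- A pair giving a product of two commuting root elements with a nonsingular second vector. -/
def okTwo (t : ℕ × ℕ) : Bool := okPair t && qB t.2 && t.1 != 0

/-- The value of a word. -/
def ev (w : List (ℕ × ℕ)) (x : ℕ) : ℕ := w.foldr rf x

/-- The basis. -/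
def basis : List ℕ := [1, 2, 4, 8, 16, 32, 64, 128]

/-- Equality of the values of two words. -/
def eqW (w w' : List (ℕ × ℕ)) : Bool := basis.all fun k => ev w k == ev w' k

/-- The two elements commute. -/
def comm (a b : ℕ × ℕ) : Bool := eqW [a, b] [b, a]

/-- The word lies in the listed group. -/
def inP (P : List (List (ℕ × ℕ))) (w : List (ℕ × ℕ)) : Bool := P.any fun p => eqW w p

/-- The colour of a centralised root. -/
def colour (P : List (List (ℕ × ℕ))) (fl : List (ℕ × ℕ)) (e : ℕ × ℕ) : ℕ × ℕ :=
  (fl.countP fun f => inP P [e, f], fl.countP fun f => comm e f)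

/-- No root is listed twice. -/
def distinct : List (ℕ × ℕ) → Bool
  | [] => true
  | t :: l => (l.all fun f => !eqW [t] [f]) && distinct l

/-- The certificate of an extension by a product `x e`, together with the cells of the lists it holds. -/
inductive Kid where
  /-- The square is a root. -/
  | quad (t : ℕ × ℕ)
  /-- A product with an element of the group is the given safe element. -/
  | leaf (p : ℕ) (t : ℕ × ℕ)
  /-- The extended group has its own certificate, given by a chain of entries. -/
  | node (l : Kid)
  /-- The empty chain. -/
  | done
  /-- A chain of entries: colour, chosen root, chain of extensions, remaining entries. -/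
  | entry (key x : ℕ × ℕ) (ks rest : Kid)
  /-- A chain of extensions. -/
  | link (k rest : Kid)

/-- The chain of a list of extensions. -/
def Kid.ofKids : List Kid → Kid
  | [] => .done
  | k :: l => .link k (ofKids l)

/-- The extensions in a chain. -/
def Kid.kids : Kid → List Kid
  | .link k r => k :: r.kids
  | _ => []

/-- The chain of a list of entries. -/
def Kid.ofEntries : List ((ℕ × ℕ) × (ℕ × ℕ) × List Kid) → Kid
  | [] => .done
  | (a, b, ks) :: l => .entry a b (Kid.ofKids ks) (ofEntries l)

/-- The entries in a chain. -/
def Kid.entries : Kid → List ((ℕ × ℕ) × (ℕ × ℕ) × List Kid)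
  | .entry a b ks r => (a, b, ks.kids) :: r.entries
  | _ => []

/-- The certificate of an extended group by its list of entries. -/
def Kid.sub (l : List ((ℕ × ℕ) × (ℕ × ℕ) × List Kid)) : Kid := .node (Kid.ofEntries l)

/-- A certificate: for each colour a chosen root and the certificates of the extensions. -/
abbrev Cert : Type := List ((ℕ × ℕ) × (ℕ × ℕ) × List Kid)

/-- The checker. The flag allows the products of two root elements as safe elements. -/
def chk (two : Bool) : ℕ → List (List (ℕ × ℕ)) → List (ℕ × ℕ) → Cert → Bool
  | 0, _, _, _ => false
  | n + 1, P, fl, C =>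
    (fl.all fun e => C.any fun c => colour P fl e == c.1) &&
    C.all fun c => okRoot c.2.1 && (fl.contains c.2.1) &&
      (let es := fl.filter fun e => colour P fl e == c.1
       (es.length == c.2.2.length) && (es.zip c.2.2).all fun ek =>
        match ek.2 with
        | .quad t => okRoot t && eqW [c.2.1, ek.1, c.2.1, ek.1] [t]
        | .leaf p t => (okRoot t || (two && okTwo t)) && decide (p < P.length) &&
            eqW (P.getD p [] ++ [c.2.1, ek.1]) [t]
        | .node l => comm c.2.1 ek.1 &&
            chk two n (P ++ P.map fun p => p ++ [c.2.1, ek.1])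
              (fl.filter fun f => eqW [f, c.2.1, ek.1] [c.2.1, ek.1, f]) l.entries
        | .done => false
        | .entry _ _ _ _ => false
        | .link _ _ => false)

end Cfsg.Lib.OEightTwo
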