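import Cfsg.Agent.OEightTwo.Code

/-!
Certificates for the orthogonal group of plus type in dimension eight over two elements.
-/

set_option autoImplicit false
set_option maxRecDepth 100000

namespace Cfsg.Lib.OEightTwo

/-- The certificate of a root with respect to the chosen product of two roots. -/
inductive Hint where
  /-- The product has order divisible by three. -/
  | odd
  /-- The involution power is the given safe element. -/
  | pow (j : ℕ) (t : ℕ × ℕ)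
  /-- The product is carried to the chosen product of three roots. -/
  | conj (w : List ℕ)

/-- The chosen product of two commuting roots. -/
def sTwo : ℕ × ℕ := (1, 34)

/-- The chosen third root. -/
def eThree : ℕ × ℕ := (4, 8)

/-- The roots centralising the product of two. -/
def fixTwo : List (ℕ × ℕ) :=
  [(1, 2), (1, 4), (1, 6), (1, 8), (1, 10), (1, 12), (1, 14), (1, 32), (1, 36), (1, 40), (1, 44), (1, 64), (1, 66), (1, 72), (1, 74), (1, 96), (1, 102), (1, 104), (1, 110), (1, 128), (1, 130), (1, 132), (1, 134), (1, 160), (1, 164), (1, 170), (1, 174), (1, 192), (1, 194), (1, 204), (1, 206), (1, 224), (1, 230), (1, 234), (1, 236), (4, 8), (4, 9), (4, 128), (4, 129), (4, 170), (4, 171), (5, 8), (5, 9), (5, 128), (5, 129), (5, 170), (5, 171), (8, 64), (8, 65), (8, 102), (8, 103), (9, 64), (9, 65), (9, 102), (9, 103), (12, 192), (12, 193), (12, 230), (12, 231), (13, 192), (13, 193), (13, 230), (13, 231), (64, 128),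 (64, 129), (64, 170), (64, 171), (65, 128), (65, 129), (65, 170), (65, 171), (72, 132), (72, 133), (72, 174), (72, 175), (73, 132), (73, 133), (73, 174), (73, 175), (102, 128), (102, 129), (102, 170), (102, 171), (103, 128), (103, 129), (103, 170), (103, 171), (110, 132), (110, 133), (110, 174), (110, 175), (111, 132), (111, 133), (111, 174), (111, 175)]

/-- The certificate for the product of two. -/
def certTwo : Cert := [
((1, 27), (1, 4), [.leaf 0 (4, 9), .leaf 0 (4, 8), .leaf 0 (4, 129), .leaf 0 (4, 128), .leaf 0 (4, 171), .leaf 0 (4, 170), .leaf 0 (5, 9), .leaf 0 (5, 8), .leaf 0 (5, 129), .leaf 0 (5, 128), .leaf 0 (5, 171), .leaf 0 (5, 170), .quad (1, 8), .quad (1, 8), .quad (1, 8), .quad (1, 8), .quad (1, 8), .quad (1, 8), .quad (1, 8), .quad (1, 8), .quad (1, 12), .quad (1, 12), .quad (1, 12), .quad (1, 12), .quad (1, 12), .quad (1, 12), .quad (1, 12), .quad (1, 12), .quad (1, 128), .quad (1, 128), .quad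 (1, 170), .quad (1, 170), .quad (1, 128), .quad (1, 128), .quad (1, 170), .quad (1, 170), .quad (1, 132), .quad (1, 132), .quad (1, 174), .quad (1, 174), .quad (1, 132), .quad (1, 132), .quad (1, 174), .quad (1, 174), .quad (1, 128), .quad (1, 128), .quad (1, 170), .quad (1, 170), .quad (1, 128), .quad (1, 128), .quad (1, 170), .quad (1, 170), .quad (1, 132), .quad (1, 132), .quad (1, 174), .quad (1, 174), .quad (1, 132), .quad (1, 132), .quad (1, 174), .quad (1, 174)]),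
((1, 47), (4, 8), [.leaf 0 (4, 9), .leaf 0 (5, 8), .leaf 0 (5, 9), .quad (1, 8), .quad (1, 8), .quad (1, 8), .quad (1, 8), .quad (1, 4), .quad (1, 4), .quad (1, 4), .quad (1, 4), .quad (1, 12), .quad (1, 12), .quad (1, 12), .quad (1, 12)]),
((2, 59), (1, 4), [.leaf 0 (1, 6), .leaf 0 (1, 2), .leaf 0 (1, 14), .leaf 0 (1, 10), .leaf 0 (1, 36), .leaf 0 (1, 32), .leaf 0 (1, 44), .leaf 0 (1, 40), .sub [
((1, 35), (1, 2), [.leaf 0 (1, 10), .leaf 0 (1, 130), .leaf 2 (1, 234), .leaf 0 (1, 206), .leaf 2 (1, 174)]),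
((3, 35), (1, 8), [.leaf 0 (1, 10), .leaf 0 (1, 12), .leaf 0 (1, 14), .leaf 0 (1, 2), .leaf 0 (1, 4), .leaf 0 (1, 6), .leaf 0 (1, 40), .leaf 0 (1, 44), .leaf 0 (1, 32), .leaf 0 (1, 36), .leaf 0 (1, 72), .leaf 0 (1, 74), .leaf 0 (1, 64), .leaf 0 (1, 66), .leaf 0 (1, 104), .leaf 0 (1, 110), .leaf 0 (1, 96), .leaf 0 (1, 102), .leaf 2 (1, 204), .leaf 1 (1, 174), .leaf 3 (1, 234), .leaf 3 (1, 204), .leaf 2 (1, 234), .leaf 1 (1, 128), .leaf 1 (1, 234), .leaf 3 (1, 174), .leaf 2 (1, 128), .leaf 2 (1, 174), .leaf 1 (1, 204), .leaf 3 (1, 128)])], .sub [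
((1, 35), (1, 2), [.leaf 0 (1, 10), .leaf 0 (1, 134), .leaf 2 (1, 230), .leaf 0 (1, 194), .leaf 2 (1, 170)]),
((3, 35), (1, 8), [.leaf 0 (1, 10), .leaf 0 (1, 12), .leaf 0 (1, 14), .leaf 0 (1, 2), .leaf 0 (1, 4), .leaf 0 (1, 6), .leaf 0 (1, 40), .leaf 0 (1, 44), .leaf 0 (1, 32), .leaf 0 (1, 36), .leaf 0 (1, 72), .leaf 0 (1, 74), .leaf 0 (1, 64), .leaf 0 (1, 66), .leaf 0 (1, 104), .leaf 0 (1, 110), .leaf 0 (1, 96), .leaf 0 (1, 102), .leaf 1 (1, 170), .leaf 3 (1, 230), .leaf 2 (1, 192), .leaf 2 (1, 230), .leaf 3 (1, 192), .leaf 1 (1, 132), .leaf 2 (1, 132), .leaf 1 (1, 230), .leaf 3 (1, 170), .leaf 3 (1, 132), .leaf 1 (1, 192), .leaf 2 (1, 170)])], .sub [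
((1, 35), (1, 2), [.leaf 0 (1, 10), .leaf 0 (1, 130), .leaf 3 (1, 234), .leaf 0 (1, 206), .leaf 3 (1, 174)]),
((3, 35), (1, 8), [.leaf 0 (1, 10), .leaf 0 (1, 12), .leaf 0 (1, 14), .leaf 0 (1, 2), .leaf 0 (1, 4), .leaf 0 (1, 6), .leaf 0 (1, 40), .leaf 0 (1, 44), .leaf 0 (1, 32), .leaf 0 (1, 36), .leaf 0 (1, 72), .leaf 0 (1, 74), .leaf 0 (1, 64), .leaf 0 (1, 66), .leaf 0 (1, 104), .leaf 0 (1, 110), .leaf 0 (1, 96), .leaf 0 (1, 102), .leaf 3 (1, 204), .leaf 1 (1, 174), .leaf 2 (1, 234), .leaf 2 (1, 204), .leaf 3 (1, 234), .leaf 1 (1, 128), .leaf 1 (1, 234), .leaf 2 (1, 174), .leaf 3 (1, 128), .leaf 3 (1, 174), .leaf 1 (1, 204), .leaf 2 (1, 128)])], .sub [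
((1, 35), (1, 2), [.leaf 0 (1, 10), .leaf 0 (1, 134), .leaf 3 (1, 230), .leaf 0 (1, 194), .leaf 3 (1, 170)]),
((3, 35), (1, 8), [.leaf 0 (1, 10), .leaf 0 (1, 12), .leaf 0 (1, 14), .leaf 0 (1, 2), .leaf 0 (1, 4), .leaf 0 (1, 6), .leaf 0 (1, 40), .leaf 0 (1, 44), .leaf 0 (1, 32), .leaf 0 (1, 36), .leaf 0 (1, 72), .leaf 0 (1, 74), .leaf 0 (1, 64), .leaf 0 (1, 66), .leaf 0 (1, 104), .leaf 0 (1, 110), .leaf 0 (1, 96), .leaf 0 (1, 102), .leaf 1 (1, 170), .leaf 2 (1, 230), .leaf 3 (1, 192), .leaf 3 (1, 230), .leaf 2 (1, 192), .leaf 1 (1, 132), .leaf 3 (1, 132), .leaf 1 (1, 230), .leaf 2 (1, 170), .leaf 2 (1, 132), .leaf 1 (1, 192), .leaf 3 (1, 170)])], .leaf 0 (1, 134), .leaf 0 (1, 130), .leaf 0 (1, 164), .leaf 0 (1, 160), .sub [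
((1, 35), (1, 2), [.leaf 0 (1, 14), .leaf 0 (1, 74), .leaf 2 (1, 170), .leaf 0 (1, 130), .leaf 2 (1, 110)]),
((3, 35), (1, 12), [.leaf 0 (1, 14), .leaf 0 (1, 8), .leaf 0 (1, 10), .leaf 0 (1, 4), .leaf 0 (1, 6), .leaf 0 (1, 2), .leaf 0 (1, 44), .leaf 0 (1, 40), .leaf 0 (1, 36), .leaf 0 (1, 32), .leaf 1 (1, 110), .leaf 3 (1, 170), .leaf 2 (1, 128), .leaf 2 (1, 170), .leaf 1 (1, 72), .leaf 3 (1, 128), .leaf 2 (1, 72), .leaf 1 (1, 170), .leaf 3 (1, 110), .leaf 3 (1, 72), .leaf 2 (1, 110), .leaf 1 (1, 128), .leaf 0 (1, 204), .leaf 0 (1, 206), .leaf 0 (1, 192), .leaf 0 (1, 194), .leaf 0 (1, 236), .leaf 0 (1, 234), .leaf 0 (1, 230), .leaf 0 (1, 224)])], .sub [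
((1, 35), (1, 2), [.leaf 0 (1, 14), .leaf 0 (1, 66), .leaf 2 (1, 174), .leaf 0 (1, 134), .leaf 2 (1, 102)]),
((3, 35), (1, 12), [.leaf 0 (1, 14), .leaf 0 (1, 8), .leaf 0 (1, 10), .leaf 0 (1, 4), .leaf 0 (1, 6), .leaf 0 (1, 2), .leaf 0 (1, 44), .leaf 0 (1, 40), .leaf 0 (1, 36), .leaf 0 (1, 32), .leaf 2 (1, 132), .leaf 1 (1, 102), .leaf 3 (1, 174), .leaf 3 (1, 132), .leaf 2 (1, 174), .leaf 1 (1, 64), .leaf 1 (1, 174), .leaf 3 (1, 102), .leaf 2 (1, 64), .leaf 2 (1, 102), .leaf 3 (1, 64), .leaf 1 (1, 132), .leaf 0 (1, 204), .leaf 0 (1, 206), .leaf 0 (1, 192), .leaf 0 (1, 194), .leaf 0 (1, 236), .leaf 0 (1, 234), .leaf 0 (1, 230), .leaf 0 (1, 224)])], .sub [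
((1, 35), (1, 2), [.leaf 0 (1, 14), .leaf 0 (1, 74), .leaf 3 (1, 170), .leaf 0 (1, 130), .leaf 3 (1, 110)]),
((3, 35), (1, 12), [.leaf 0 (1, 14), .leaf 0 (1, 8), .leaf 0 (1, 10), .leaf 0 (1, 4), .leaf 0 (1, 6), .leaf 0 (1, 2), .leaf 0 (1, 44), .leaf 0 (1, 40), .leaf 0 (1, 36), .leaf 0 (1, 32), .leaf 1 (1, 110), .leaf 2 (1, 170), .leaf 3 (1, 128), .leaf 3 (1, 170), .leaf 1 (1, 72), .leaf 2 (1, 128), .leaf 3 (1, 72), .leaf 1 (1, 170), .leaf 2 (1, 110), .leaf 2 (1, 72), .leaf 3 (1, 110), .leaf 1 (1, 128), .leaf 0 (1, 204), .leaf 0 (1, 206), .leaf 0 (1, 192), .leaf 0 (1, 194), .leaf 0 (1, 236), .leaf 0 (1, 234), .leaf 0 (1, 230), .leaf 0 (1, 224)])], .sub [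
((1, 35), (1, 2), [.leaf 0 (1, 14), .leaf 0 (1, 66), .leaf 3 (1, 174), .leaf 0 (1, 134), .leaf 3 (1, 102)]),
((3, 35), (1, 12), [.leaf 0 (1, 14), .leaf 0 (1, 8), .leaf 0 (1, 10), .leaf 0 (1, 4), .leaf 0 (1, 6), .leaf 0 (1, 2), .leaf 0 (1, 44), .leaf 0 (1, 40), .leaf 0 (1, 36), .leaf 0 (1, 32), .leaf 3 (1, 132), .leaf 1 (1, 102), .leaf 2 (1, 174), .leaf 2 (1, 132), .leaf 3 (1, 174), .leaf 1 (1, 64), .leaf 1 (1, 174), .leaf 2 (1, 102), .leaf 3 (1, 64), .leaf 3 (1, 102), .leaf 2 (1, 64), .leaf 1 (1, 132), .leaf 0 (1, 204), .leaf 0 (1, 206), .leaf 0 (1, 192), .leaf 0 (1, 194), .leaf 0 (1, 236), .leaf 0 (1, 234), .leaf 0 (1, 230), .leaf 0 (1, 224)])]])]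

/-- The roots centralising the product of three. -/
def fixThree : List (ℕ × ℕ) :=
  [(1, 2), (1, 4), (1, 6), (1, 8), (1, 10), (1, 12), (1, 14), (1, 32), (1, 36), (1, 40), (1, 44), (4, 8), (4, 9), (4, 128), (4, 129), (4, 170), (4, 171), (5, 8), (5, 9), (5, 130), (5, 131), (5, 160), (5, 161), (8, 64), (8, 65), (8, 102), (8, 103), (9, 66), (9, 67), (9, 96), (9, 97), (12, 192), (12, 193), (12, 230), (12, 231), (13, 194), (13, 195), (13, 224), (13, 225)]

/-- The certificate for the product of three. -/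
def certThree : Cert := [
((1, 15), (1, 4), [.leaf 0 (4, 129), .leaf 0 (4, 128), .leaf 0 (4, 171), .leaf 0 (4, 170), .leaf 0 (5, 131), .leaf 0 (5, 130), .leaf 0 (5, 161), .leaf 0 (5, 160), .quad (1, 8), .quad (1, 8), .quad (1, 8), .quad (1, 8), .quad (1, 8), .quad (1, 8), .quad (1, 8), .quad (1, 8), .quad (1, 12), .quad (1, 12), .quad (1, 12), .quad (1, 12), .quad (1, 12), .quad (1, 12), .quad (1, 12), .quad (1, 12)]),
((1, 23), (1, 2), [.leaf 0 (1, 6), .leaf 0 (1, 10), .leaf 0 (1, 14)]),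
((1, 27), (1, 4), [.leaf 0 (1, 6), .leaf 0 (1, 2), .leaf 0 (1, 14), .leaf 0 (1, 10), .leaf 0 (1, 36), .leaf 0 (1, 32), .leaf 0 (1, 44), .leaf 0 (1, 40), .leaf 0 (4, 9), .leaf 0 (4, 8), .leaf 0 (5, 9), .leaf 0 (5, 8)])]

/-- A part of the listed roots. -/
def rootsPart0 : List ((ℕ × ℕ) × Hint) := [
((1, 2), .pow 1 (1, 32)),
((1, 4), .pow 1 (1, 38)),
((1, 6), .pow 1 (1, 36)),
((1, 8), .pow 1 (1, 42)),
((1, 10), .pow 1 (1, 40)),
((1, 12), .pow 1 (1, 46)),
((1, 14), .pow 1 (1, 44)),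
((1, 32), .pow 1 (1, 2)),
((1, 36), .pow 1 (1, 6)),
((1, 40), .pow 1 (1, 10)),
((1, 44), .pow 1 (1, 14)),
((1, 64), .pow 1 (1, 98)),
((1, 66), .pow 1 (1, 96)),
((1, 72), .pow 1 (1, 106)),
((1, 74), .pow 1 (1, 104)),
((1, 96), .pow 1 (1, 66)),
((1, 102), .pow 1 (1, 68)),
((1, 104), .pow 1 (1, 74)),
((1, 110), .pow 1 (1, 76)),
((1, 128), .pow 1 (1, 162)),
((1, 130), .pow 1 (1, 160)),
((1, 132), .pow 1 (1, 166)),
((1, 134), .pow 1 (1, 164)),
((1, 160), .pow 1 (1, 130)),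
((1, 164), .pow 1 (1, 134)),
((1, 170), .pow 1 (1, 136)),
((1, 174), .pow 1 (1, 140)),
((1, 192), .pow 1 (1, 226)),
((1, 194), .pow 1 (1, 224)),
((1, 204), .pow 1 (1, 238)),
((1, 206), .pow 1 (1, 236)),
((1, 224), .pow 1 (1, 194)),
((1, 230), .pow 1 (1, 196)),
((1, 234), .pow 1 (1, 200)),
((1, 236), .pow 1 (1, 206)),
((2, 4), .pow 2 (1, 4)),
((2, 5), .pow 2 (1, 4)),
((2, 8), .pow 2 (1, 8)),
((2, 9), .pow 2 (1, 8)),
((2, 12), .pow 2 (1, 12)),
((2, 13), .pow 2 (1, 12)),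
((2, 16), .odd),
((2, 20), .odd),
((2, 24), .odd),
((2, 28), .odd),
((2, 64), .pow 2 (1, 64)),
((2, 65), .pow 2 (1, 64)),
((2, 72), .pow 2 (1, 72)),
((2, 73), .pow 2 (1, 72)),
((2, 80), .odd),
((2, 85), .odd),
((2, 88), .odd),
((2, 93), .odd),
((2, 128), .pow 2 (1, 128)),
((2, 129), .pow 2 (1, 128)),
((2, 132), .pow 2 (1, 132)),
((2, 133), .pow 2 (1, 132)),
((2, 144), .odd),
((2, 148), .odd),
((2, 153), .odd),
((2, 157), .odd),
((2, 192), .pow 2 (1, 192)),
((2, 193), .pow 2 (1, 192)),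
((2, 204), .pow 2 (1, 204)),
((2, 205), .pow 2 (1, 204)),
((2, 208), .odd),
((2, 213), .odd),
((2, 217), .odd),
((2, 220), .odd),
((3, 4), .pow 2 (1, 4)),
((3, 5), .pow 2 (1, 4)),
((3, 8), .pow 2 (1, 8)),
((3, 9), .pow 2 (1, 8)),
((3, 12), .pow 2 (1, 12)),
((3, 13), .pow 2 (1, 12)),
((3, 48), .odd),
((3, 52), .odd),
((3, 56), .odd),
((3, 60), .odd),
((3, 64), .pow 2 (1, 64)),
((3, 65), .pow 2 (1, 64)),
((3, 72), .pow 2 (1, 72)),
((3, 73), .pow 2 (1, 72)),
((3, 112), .odd),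
((3, 117), .odd),
((3, 120), .odd),
((3, 125), .odd),
((3, 128), .pow 2 (1, 128)),
((3, 129), .pow 2 (1, 128)),
((3, 132), .pow 2 (1, 132)),
((3, 133), .pow 2 (1, 132)),
((3, 176), .odd),
((3, 180), .odd),
((3, 185), .odd),
((3, 189), .odd),
((3, 192), .pow 2 (1, 192)),
((3, 193), .pow 2 (1, 192)),
((3, 204), .pow 2 (1, 204)),
((3, 205), .pow 2 (1, 204)),
((3, 240), .odd),
((3, 245), .odd),
((3, 249), .odd),
((3, 252), .odd),
((4, 8), .conj []),
((4, 9), .conj [0, 4, 2, 1, 2, 4, 0]),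
((4, 10), .pow 2 (1, 4)),
((4, 11), .pow 2 (1, 4)),
((4, 16), .pow 2 (4, 35)),
((4, 18), .pow 2 (4, 34)),
((4, 24), .pow 2 (4, 35)),
((4, 26), .pow 2 (4, 34)),
((4, 32), .pow 2 (1, 4)),
((4, 33), .pow 2 (1, 4)),
((4, 40), .pow 2 (1, 4)),
((4, 41), .pow 2 (1, 4)),
((4, 48), .pow 2 (4, 34)),
((4, 51), .pow 2 (4, 35)),
((4, 56), .pow 2 (4, 34)),
((4, 59), .pow 2 (4, 35)),
((4, 128), .conj [3, 0, 1, 4, 1, 4, 0, 3]),
((4, 129), .conj [0, 2, 4, 2, 3, 4, 1, 2]),
((4, 130), .pow 2 (1, 4)),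
((4, 131), .pow 2 (1, 4)),
((4, 144), .pow 2 (4, 35)),
((4, 146), .pow 2 (4, 34)),
((4, 153), .pow 2 (4, 35)),
((4, 155), .pow 2 (4, 34)),
((4, 160), .pow 2 (1, 4)),
((4, 161), .pow 2 (1, 4)),
((4, 170), .conj [2, 1, 2, 4, 2, 1, 0, 2]),
((4, 171), .conj [3, 0, 3, 1, 3, 0, 3]),
((4, 176), .pow 2 (4, 34)),
((4, 179), .pow 2 (4, 35)),
((4, 185), .pow 2 (4, 34)),
((4, 186), .pow 2 (4, 35)),
((5, 8), .conj [0, 1, 3, 1, 0]),
((5, 9), .conj [3, 4, 2, 4, 2, 3]),
((5, 10), .pow 2 (1, 4)),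
((5, 11), .pow 2 (1, 4)),
((5, 32), .pow 2 (1, 4)),
((5, 33), .pow 2 (1, 4)),
((5, 40), .pow 2 (1, 4)),
((5, 41), .pow 2 (1, 4)),
((5, 80), .pow 2 (5, 35)),
((5, 82), .pow 2 (5, 34)),
((5, 88), .pow 2 (5, 35)),
((5, 90), .pow 2 (5, 34)),
((5, 112), .pow 2 (5, 34)),
((5, 115), .pow 2 (5, 35)),
((5, 120), .pow 2 (5, 34)),
((5, 123), .pow 2 (5, 35)),
((5, 128), .conj [0, 4, 2, 3, 2, 4, 1]),
((5, 129), .conj [0, 4, 2, 3, 4, 1]),
((5, 130), .pow 2 (1, 4)),
((5, 131), .pow 2 (1, 4)),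
((5, 160), .pow 2 (1, 4)),
((5, 161), .pow 2 (1, 4)),
((5, 170), .conj [2, 1, 4, 1, 2, 1, 0, 1, 0]),
((5, 171), .conj [2, 1, 4, 1, 0, 2]),
((5, 208), .pow 2 (5, 35)),
((5, 210), .pow 2 (5, 34)),
((5, 217), .pow 2 (5, 35)),
((5, 219), .pow 2 (5, 34)),
((5, 240), .pow 2 (5, 34)),
((5, 243), .pow 2 (5, 35)),
((5, 249), .pow 2 (5, 34)),
((5, 250), .pow 2 (5, 35)),
((6, 8), .pow 2 (1, 8)),
((6, 9), .pow 2 (1, 8)),
((6, 10), .pow 2 (1, 12)),
((6, 11), .pow 2 (1, 12)),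
((6, 16), .odd),
((6, 18), .odd),
((6, 24), .odd),
((6, 26), .odd)]

/-- A part of the listed roots. -/
def rootsPart1 : List ((ℕ × ℕ) × Hint) := [
((6, 96), .pow 2 (1, 102)),
((6, 97), .pow 2 (1, 102)),
((6, 104), .pow 2 (1, 110)),
((6, 105), .pow 2 (1, 110)),
((6, 112), .odd),
((6, 115), .odd),
((6, 120), .odd),
((6, 123), .odd),
((6, 128), .pow 2 (1, 128)),
((6, 129), .pow 2 (1, 128)),
((6, 130), .pow 2 (1, 132)),
((6, 131), .pow 2 (1, 132)),
((6, 144), .odd),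
((6, 146), .odd),
((6, 153), .odd),
((6, 155), .odd),
((6, 224), .pow 2 (1, 230)),
((6, 225), .pow 2 (1, 230)),
((6, 234), .pow 2 (1, 234)),
((6, 235), .pow 2 (1, 234)),
((6, 240), .odd),
((6, 243), .odd),
((6, 249), .odd),
((6, 250), .odd),
((7, 8), .pow 2 (1, 8)),
((7, 9), .pow 2 (1, 8)),
((7, 10), .pow 2 (1, 12)),
((7, 11), .pow 2 (1, 12)),
((7, 48), .odd),
((7, 51), .odd),
((7, 56), .odd),
((7, 59), .odd),
((7, 80), .odd),
((7, 82), .odd),
((7, 88), .odd),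
((7, 90), .odd),
((7, 96), .pow 2 (1, 102)),
((7, 97), .pow 2 (1, 102)),
((7, 104), .pow 2 (1, 110)),
((7, 105), .pow 2 (1, 110)),
((7, 128), .pow 2 (1, 128)),
((7, 129), .pow 2 (1, 128)),
((7, 130), .pow 2 (1, 132)),
((7, 131), .pow 2 (1, 132)),
((7, 176), .odd),
((7, 179), .odd),
((7, 185), .odd),
((7, 186), .odd),
((7, 208), .odd),
((7, 210), .odd),
((7, 217), .odd),
((7, 219), .odd),
((7, 224), .pow 2 (1, 230)),
((7, 225), .pow 2 (1, 230)),
((7, 234), .pow 2 (1, 234)),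
((7, 235), .pow 2 (1, 234)),
((8, 16), .pow 2 (8, 35)),
((8, 18), .pow 2 (8, 34)),
((8, 20), .pow 2 (8, 35)),
((8, 22), .pow 2 (8, 34)),
((8, 32), .pow 2 (1, 8)),
((8, 33), .pow 2 (1, 8)),
((8, 36), .pow 2 (1, 8)),
((8, 37), .pow 2 (1, 8)),
((8, 48), .pow 2 (8, 34)),
((8, 51), .pow 2 (8, 35)),
((8, 52), .pow 2 (8, 34)),
((8, 55), .pow 2 (8, 35)),
((8, 64), .conj [1, 0, 2, 4, 3, 4, 3, 2, 0, 1]),
((8, 65), .conj [1, 2, 0, 3, 4, 3, 0, 2, 1]),
((8, 66), .pow 2 (1, 8)),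
((8, 67), .pow 2 (1, 8)),
((8, 80), .pow 2 (8, 35)),
((8, 82), .pow 2 (8, 34)),
((8, 85), .pow 2 (8, 35)),
((8, 87), .pow 2 (8, 34)),
((8, 96), .pow 2 (1, 8)),
((8, 97), .pow 2 (1, 8)),
((8, 102), .conj [1, 2, 0, 2, 1, 0]),
((8, 103), .conj [1, 2, 0, 2, 3, 1, 0]),
((8, 112), .pow 2 (8, 34)),
((8, 115), .pow 2 (8, 35)),
((8, 117), .pow 2 (8, 34)),
((8, 118), .pow 2 (8, 35)),
((9, 32), .pow 2 (1, 8)),
((9, 33), .pow 2 (1, 8)),
((9, 36), .pow 2 (1, 8)),
((9, 37), .pow 2 (1, 8)),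
((9, 64), .conj [4, 0, 1, 4, 1, 2, 4, 3, 1]),
((9, 65), .conj [1, 3, 1, 2, 4, 2, 3, 0, 3]),
((9, 66), .pow 2 (1, 8)),
((9, 67), .pow 2 (1, 8)),
((9, 96), .pow 2 (1, 8)),
((9, 97), .pow 2 (1, 8)),
((9, 102), .conj [1, 4, 3, 2, 4, 0]),
((9, 103), .conj [2, 0, 1, 4, 1, 2]),
((9, 144), .pow 2 (9, 35)),
((9, 146), .pow 2 (9, 34)),
((9, 148), .pow 2 (9, 35)),
((9, 150), .pow 2 (9, 34)),
((9, 176), .pow 2 (9, 34)),
((9, 179), .pow 2 (9, 35)),
((9, 180), .pow 2 (9, 34)),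
((9, 183), .pow 2 (9, 35)),
((9, 208), .pow 2 (9, 35)),
((9, 210), .pow 2 (9, 34)),
((9, 213), .pow 2 (9, 35)),
((9, 215), .pow 2 (9, 34)),
((9, 240), .pow 2 (9, 34)),
((9, 243), .pow 2 (9, 35)),
((9, 245), .pow 2 (9, 34)),
((9, 246), .pow 2 (9, 35)),
((10, 16), .odd),
((10, 18), .odd),
((10, 20), .odd),
((10, 22), .odd),
((10, 64), .pow 2 (1, 64)),
((10, 65), .pow 2 (1, 64)),
((10, 66), .pow 2 (1, 72)),
((10, 67), .pow 2 (1, 72)),
((10, 80), .odd),
((10, 82), .odd),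
((10, 85), .odd),
((10, 87), .odd),
((10, 160), .pow 2 (1, 170)),
((10, 161), .pow 2 (1, 170)),
((10, 164), .pow 2 (1, 174)),
((10, 165), .pow 2 (1, 174)),
((10, 176), .odd),
((10, 179), .odd),
((10, 180), .odd),
((10, 183), .odd),
((10, 224), .pow 2 (1, 234)),
((10, 225), .pow 2 (1, 234)),
((10, 230), .pow 2 (1, 230)),
((10, 231), .pow 2 (1, 230)),
((10, 240), .odd),
((10, 243), .odd),
((10, 245), .odd),
((10, 246), .odd),
((11, 48), .odd),
((11, 51), .odd),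
((11, 52), .odd),
((11, 55), .odd),
((11, 64), .pow 2 (1, 64)),
((11, 65), .pow 2 (1, 64)),
((11, 66), .pow 2 (1, 72)),
((11, 67), .pow 2 (1, 72)),
((11, 112), .odd),
((11, 115), .odd),
((11, 117), .odd),
((11, 118), .odd),
((11, 144), .odd),
((11, 146), .odd),
((11, 148), .odd),
((11, 150), .odd),
((11, 160), .pow 2 (1, 170)),
((11, 161), .pow 2 (1, 170)),
((11, 164), .pow 2 (1, 174)),
((11, 165), .pow 2 (1, 174)),
((11, 208), .odd),
((11, 210), .odd),
((11, 213), .odd),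
((11, 215), .odd),
((11, 224), .pow 2 (1, 234)),
((11, 225), .pow 2 (1, 234)),
((11, 230), .pow 2 (1, 230)),
((11, 231), .pow 2 (1, 230)),
((12, 16), .pow 2 (12, 35)),
((12, 18), .pow 2 (12, 34)),
((12, 20), .pow 2 (12, 35)),
((12, 22), .pow 2 (12, 34)),
((12, 32), .pow 2 (1, 12)),
((12, 33), .pow 2 (1, 12)),
((12, 36), .pow 2 (1, 12))]

/-- A part of the listed roots. -/
def rootsPart2 : List ((ℕ × ℕ) × Hint) := [
((12, 37), .pow 2 (1, 12)),
((12, 48), .pow 2 (12, 34)),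
((12, 51), .pow 2 (12, 35)),
((12, 52), .pow 2 (12, 34)),
((12, 55), .pow 2 (12, 35)),
((12, 192), .conj [1, 0, 4, 3, 4, 3, 0, 2, 1]),
((12, 193), .conj [4, 2, 3, 2, 4, 1, 0, 1, 0]),
((12, 194), .pow 2 (1, 12)),
((12, 195), .pow 2 (1, 12)),
((12, 208), .pow 2 (12, 35)),
((12, 210), .pow 2 (12, 34)),
((12, 213), .pow 2 (12, 35)),
((12, 215), .pow 2 (12, 34)),
((12, 224), .pow 2 (1, 12)),
((12, 225), .pow 2 (1, 12)),
((12, 230), .conj [2, 0, 1, 4, 1, 0, 2]),
((12, 231), .conj [0, 1, 2, 4, 2, 1, 0]),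
((12, 240), .pow 2 (12, 34)),
((12, 243), .pow 2 (12, 35)),
((12, 245), .pow 2 (12, 34)),
((12, 246), .pow 2 (12, 35)),
((13, 32), .pow 2 (1, 12)),
((13, 33), .pow 2 (1, 12)),
((13, 36), .pow 2 (1, 12)),
((13, 37), .pow 2 (1, 12)),
((13, 80), .pow 2 (13, 35)),
((13, 82), .pow 2 (13, 34)),
((13, 85), .pow 2 (13, 35)),
((13, 87), .pow 2 (13, 34)),
((13, 112), .pow 2 (13, 34)),
((13, 115), .pow 2 (13, 35)),
((13, 117), .pow 2 (13, 34)),
((13, 118), .pow 2 (13, 35)),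
((13, 144), .pow 2 (13, 35)),
((13, 146), .pow 2 (13, 34)),
((13, 148), .pow 2 (13, 35)),
((13, 150), .pow 2 (13, 34)),
((13, 176), .pow 2 (13, 34)),
((13, 179), .pow 2 (13, 35)),
((13, 180), .pow 2 (13, 34)),
((13, 183), .pow 2 (13, 35)),
((13, 192), .conj [4, 2, 3, 2, 4, 2, 0, 2]),
((13, 193), .conj [1, 3, 4, 1, 2, 0, 4, 0]),
((13, 194), .pow 2 (1, 12)),
((13, 195), .pow 2 (1, 12)),
((13, 224), .pow 2 (1, 12)),
((13, 225), .pow 2 (1, 12)),
((13, 230), .conj [1, 0, 2, 4, 2, 1, 0]),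
((13, 231), .conj [1, 0, 2, 4, 2, 3, 1, 0]),
((14, 16), .odd),
((14, 18), .odd),
((14, 20), .odd),
((14, 22), .odd),
((14, 96), .pow 2 (1, 110)),
((14, 97), .pow 2 (1, 110)),
((14, 102), .pow 2 (1, 102)),
((14, 103), .pow 2 (1, 102)),
((14, 112), .odd),
((14, 115), .odd),
((14, 117), .odd),
((14, 118), .odd),
((14, 160), .pow 2 (1, 174)),
((14, 161), .pow 2 (1, 174)),
((14, 164), .pow 2 (1, 170)),
((14, 165), .pow 2 (1, 170)),
((14, 176), .odd),
((14, 179), .odd),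
((14, 180), .odd),
((14, 183), .odd),
((14, 192), .pow 2 (1, 192)),
((14, 193), .pow 2 (1, 192)),
((14, 194), .pow 2 (1, 204)),
((14, 195), .pow 2 (1, 204)),
((14, 208), .odd),
((14, 210), .odd),
((14, 213), .odd),
((14, 215), .odd),
((15, 48), .odd),
((15, 51), .odd),
((15, 52), .odd),
((15, 55), .odd),
((15, 80), .odd),
((15, 82), .odd),
((15, 85), .odd),
((15, 87), .odd),
((15, 96), .pow 2 (1, 110)),
((15, 97), .pow 2 (1, 110)),
((15, 102), .pow 2 (1, 102)),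
((15, 103), .pow 2 (1, 102)),
((15, 144), .odd),
((15, 146), .odd),
((15, 148), .odd),
((15, 150), .odd),
((15, 160), .pow 2 (1, 174)),
((15, 161), .pow 2 (1, 174)),
((15, 164), .pow 2 (1, 170)),
((15, 165), .pow 2 (1, 170)),
((15, 192), .pow 2 (1, 192)),
((15, 193), .pow 2 (1, 192)),
((15, 194), .pow 2 (1, 204)),
((15, 195), .pow 2 (1, 204)),
((15, 240), .odd),
((15, 243), .odd),
((15, 245), .odd),
((15, 246), .odd),
((16, 32), .odd),
((16, 36), .odd),
((16, 40), .odd),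
((16, 44), .odd),
((16, 64), .pow 2 (64, 35)),
((16, 66), .odd),
((16, 72), .pow 2 (72, 35)),
((16, 74), .odd),
((16, 96), .odd),
((16, 102), .pow 2 (102, 35)),
((16, 104), .odd),
((16, 110), .pow 2 (110, 35)),
((16, 128), .pow 2 (128, 35)),
((16, 130), .odd),
((16, 132), .pow 2 (132, 35)),
((16, 134), .odd),
((16, 160), .odd),
((16, 164), .odd),
((16, 170), .pow 2 (170, 35)),
((16, 174), .pow 2 (174, 35)),
((16, 192), .pow 2 (192, 35)),
((16, 194), .odd),
((16, 204), .pow 2 (204, 35)),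
((16, 206), .odd),
((16, 224), .odd),
((16, 230), .pow 2 (230, 35)),
((16, 234), .pow 2 (234, 35)),
((16, 236), .odd),
((18, 33), .odd),
((18, 37), .odd),
((18, 41), .odd),
((18, 45), .odd),
((18, 64), .pow 2 (64, 34)),
((18, 66), .odd),
((18, 72), .pow 2 (72, 34)),
((18, 74), .odd),
((18, 97), .odd),
((18, 103), .pow 2 (103, 34)),
((18, 105), .odd),
((18, 111), .pow 2 (111, 34)),
((18, 128), .pow 2 (128, 34)),
((18, 130), .odd),
((18, 132), .pow 2 (132, 34)),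
((18, 134), .odd),
((18, 161), .odd),
((18, 165), .odd),
((18, 171), .pow 2 (171, 34)),
((18, 175), .pow 2 (175, 34)),
((18, 192), .pow 2 (192, 34)),
((18, 194), .odd),
((18, 204), .pow 2 (204, 34)),
((18, 206), .odd),
((18, 225), .odd),
((18, 231), .pow 2 (231, 34)),
((18, 235), .pow 2 (235, 34)),
((18, 237), .odd),
((20, 32), .odd),
((20, 36), .odd),
((20, 40), .odd),
((20, 44), .odd),
((20, 65), .pow 2 (65, 35)),
((20, 67), .odd),
((20, 73), .pow 2 (73, 35)),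
((20, 75), .odd),
((20, 97), .odd),
((20, 103), .pow 2 (103, 35)),
((20, 105), .odd),
((20, 111), .pow 2 (111, 35)),
((20, 128), .pow 2 (128, 35)),
((20, 130), .odd)]

/-- A part of the listed roots. -/
def rootsPart3 : List ((ℕ × ℕ) × Hint) := [
((20, 132), .pow 2 (132, 35)),
((20, 134), .odd),
((20, 160), .odd),
((20, 164), .odd),
((20, 170), .pow 2 (170, 35)),
((20, 174), .pow 2 (174, 35)),
((20, 193), .pow 2 (193, 35)),
((20, 195), .odd),
((20, 205), .pow 2 (205, 35)),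
((20, 207), .odd),
((20, 225), .odd),
((20, 231), .pow 2 (231, 35)),
((20, 235), .pow 2 (235, 35)),
((20, 237), .odd),
((22, 33), .odd),
((22, 37), .odd),
((22, 41), .odd),
((22, 45), .odd),
((22, 65), .pow 2 (65, 34)),
((22, 67), .odd),
((22, 73), .pow 2 (73, 34)),
((22, 75), .odd),
((22, 96), .odd),
((22, 102), .pow 2 (102, 34)),
((22, 104), .odd),
((22, 110), .pow 2 (110, 34)),
((22, 128), .pow 2 (128, 34)),
((22, 130), .odd),
((22, 132), .pow 2 (132, 34)),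
((22, 134), .odd),
((22, 161), .odd),
((22, 165), .odd),
((22, 171), .pow 2 (171, 34)),
((22, 175), .pow 2 (175, 34)),
((22, 193), .pow 2 (193, 34)),
((22, 195), .odd),
((22, 205), .pow 2 (205, 34)),
((22, 207), .odd),
((22, 224), .odd),
((22, 230), .pow 2 (230, 34)),
((22, 234), .pow 2 (234, 34)),
((22, 236), .odd),
((24, 32), .odd),
((24, 36), .odd),
((24, 40), .odd),
((24, 44), .odd),
((24, 64), .pow 2 (64, 35)),
((24, 66), .odd),
((24, 72), .pow 2 (72, 35)),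
((24, 74), .odd),
((24, 96), .odd),
((24, 102), .pow 2 (102, 35)),
((24, 104), .odd),
((24, 110), .pow 2 (110, 35)),
((24, 129), .pow 2 (129, 35)),
((24, 131), .odd),
((24, 133), .pow 2 (133, 35)),
((24, 135), .odd),
((24, 161), .odd),
((24, 165), .odd),
((24, 171), .pow 2 (171, 35)),
((24, 175), .pow 2 (175, 35)),
((24, 193), .pow 2 (193, 35)),
((24, 195), .odd),
((24, 205), .pow 2 (205, 35)),
((24, 207), .odd),
((24, 225), .odd),
((24, 231), .pow 2 (231, 35)),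
((24, 235), .pow 2 (235, 35)),
((24, 237), .odd),
((26, 33), .odd),
((26, 37), .odd),
((26, 41), .odd),
((26, 45), .odd),
((26, 64), .pow 2 (64, 34)),
((26, 66), .odd),
((26, 72), .pow 2 (72, 34)),
((26, 74), .odd),
((26, 97), .odd),
((26, 103), .pow 2 (103, 34)),
((26, 105), .odd),
((26, 111), .pow 2 (111, 34)),
((26, 129), .pow 2 (129, 34)),
((26, 131), .odd),
((26, 133), .pow 2 (133, 34)),
((26, 135), .odd),
((26, 160), .odd),
((26, 164), .odd),
((26, 170), .pow 2 (170, 34)),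
((26, 174), .pow 2 (174, 34)),
((26, 193), .pow 2 (193, 34)),
((26, 195), .odd),
((26, 205), .pow 2 (205, 34)),
((26, 207), .odd),
((26, 224), .odd),
((26, 230), .pow 2 (230, 34)),
((26, 234), .pow 2 (234, 34)),
((26, 236), .odd),
((28, 32), .odd),
((28, 36), .odd),
((28, 40), .odd),
((28, 44), .odd),
((28, 65), .pow 2 (65, 35)),
((28, 67), .odd),
((28, 73), .pow 2 (73, 35)),
((28, 75), .odd),
((28, 97), .odd),
((28, 103), .pow 2 (103, 35)),
((28, 105), .odd),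
((28, 111), .pow 2 (111, 35)),
((28, 129), .pow 2 (129, 35)),
((28, 131), .odd),
((28, 133), .pow 2 (133, 35)),
((28, 135), .odd),
((28, 161), .odd),
((28, 165), .odd),
((28, 171), .pow 2 (171, 35)),
((28, 175), .pow 2 (175, 35)),
((28, 192), .pow 2 (192, 35)),
((28, 194), .odd),
((28, 204), .pow 2 (204, 35)),
((28, 206), .odd),
((28, 224), .odd),
((28, 230), .pow 2 (230, 35)),
((28, 234), .pow 2 (234, 35)),
((28, 236), .odd),
((30, 33), .odd),
((30, 37), .odd),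
((30, 41), .odd),
((30, 45), .odd),
((30, 65), .pow 2 (65, 34)),
((30, 67), .odd),
((30, 73), .pow 2 (73, 34)),
((30, 75), .odd),
((30, 96), .odd),
((30, 102), .pow 2 (102, 34)),
((30, 104), .odd),
((30, 110), .pow 2 (110, 34)),
((30, 129), .pow 2 (129, 34)),
((30, 131), .odd),
((30, 133), .pow 2 (133, 34)),
((30, 135), .odd),
((30, 160), .odd),
((30, 164), .odd),
((30, 170), .pow 2 (170, 34)),
((30, 174), .pow 2 (174, 34)),
((30, 192), .pow 2 (192, 34)),
((30, 194), .odd),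
((30, 204), .pow 2 (204, 34)),
((30, 206), .odd),
((30, 225), .odd),
((30, 231), .pow 2 (231, 34)),
((30, 235), .pow 2 (235, 34)),
((30, 237), .odd),
((32, 64), .pow 2 (1, 64)),
((32, 65), .pow 2 (1, 64)),
((32, 72), .pow 2 (1, 72)),
((32, 73), .pow 2 (1, 72)),
((32, 80), .odd),
((32, 85), .odd),
((32, 88), .odd),
((32, 93), .odd),
((32, 128), .pow 2 (1, 128)),
((32, 129), .pow 2 (1, 128)),
((32, 132), .pow 2 (1, 132)),
((32, 133), .pow 2 (1, 132)),
((32, 144), .odd),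
((32, 148), .odd),
((32, 153), .odd),
((32, 157), .odd),
((32, 192), .pow 2 (1, 192)),
((32, 193), .pow 2 (1, 192)),
((32, 204), .pow 2 (1, 204)),
((32, 205), .pow 2 (1, 204)),
((32, 208), .odd)]

/-- A part of the listed roots. -/
def rootsPart4 : List ((ℕ × ℕ) × Hint) := [
((32, 213), .odd),
((32, 217), .odd),
((32, 220), .odd),
((33, 64), .pow 2 (1, 64)),
((33, 65), .pow 2 (1, 64)),
((33, 72), .pow 2 (1, 72)),
((33, 73), .pow 2 (1, 72)),
((33, 82), .odd),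
((33, 87), .odd),
((33, 90), .odd),
((33, 95), .odd),
((33, 128), .pow 2 (1, 128)),
((33, 129), .pow 2 (1, 128)),
((33, 132), .pow 2 (1, 132)),
((33, 133), .pow 2 (1, 132)),
((33, 146), .odd),
((33, 150), .odd),
((33, 155), .odd),
((33, 159), .odd),
((33, 192), .pow 2 (1, 192)),
((33, 193), .pow 2 (1, 192)),
((33, 204), .pow 2 (1, 204)),
((33, 205), .pow 2 (1, 204)),
((33, 210), .odd),
((33, 215), .odd),
((33, 219), .odd),
((33, 222), .odd),
((36, 66), .pow 2 (1, 102)),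
((36, 67), .pow 2 (1, 102)),
((36, 74), .pow 2 (1, 110)),
((36, 75), .pow 2 (1, 110)),
((36, 82), .odd),
((36, 87), .odd),
((36, 90), .odd),
((36, 95), .odd),
((36, 128), .pow 2 (1, 128)),
((36, 129), .pow 2 (1, 128)),
((36, 132), .pow 2 (1, 132)),
((36, 133), .pow 2 (1, 132)),
((36, 144), .odd),
((36, 148), .odd),
((36, 153), .odd),
((36, 157), .odd),
((36, 194), .pow 2 (1, 230)),
((36, 195), .pow 2 (1, 230)),
((36, 206), .pow 2 (1, 234)),
((36, 207), .pow 2 (1, 234)),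
((36, 210), .odd),
((36, 215), .odd),
((36, 219), .odd),
((36, 222), .odd),
((37, 66), .pow 2 (1, 102)),
((37, 67), .pow 2 (1, 102)),
((37, 74), .pow 2 (1, 110)),
((37, 75), .pow 2 (1, 110)),
((37, 80), .odd),
((37, 85), .odd),
((37, 88), .odd),
((37, 93), .odd),
((37, 128), .pow 2 (1, 128)),
((37, 129), .pow 2 (1, 128)),
((37, 132), .pow 2 (1, 132)),
((37, 133), .pow 2 (1, 132)),
((37, 146), .odd),
((37, 150), .odd),
((37, 155), .odd),
((37, 159), .odd),
((37, 194), .pow 2 (1, 230)),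
((37, 195), .pow 2 (1, 230)),
((37, 206), .pow 2 (1, 234)),
((37, 207), .pow 2 (1, 234)),
((37, 208), .odd),
((37, 213), .odd),
((37, 217), .odd),
((37, 220), .odd),
((40, 64), .pow 2 (1, 64)),
((40, 65), .pow 2 (1, 64)),
((40, 72), .pow 2 (1, 72)),
((40, 73), .pow 2 (1, 72)),
((40, 80), .odd),
((40, 85), .odd),
((40, 88), .odd),
((40, 93), .odd),
((40, 130), .pow 2 (1, 170)),
((40, 131), .pow 2 (1, 170)),
((40, 134), .pow 2 (1, 174)),
((40, 135), .pow 2 (1, 174)),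
((40, 146), .odd),
((40, 150), .odd),
((40, 155), .odd),
((40, 159), .odd),
((40, 194), .pow 2 (1, 234)),
((40, 195), .pow 2 (1, 234)),
((40, 206), .pow 2 (1, 230)),
((40, 207), .pow 2 (1, 230)),
((40, 210), .odd),
((40, 215), .odd),
((40, 219), .odd),
((40, 222), .odd),
((41, 64), .pow 2 (1, 64)),
((41, 65), .pow 2 (1, 64)),
((41, 72), .pow 2 (1, 72)),
((41, 73), .pow 2 (1, 72)),
((41, 82), .odd),
((41, 87), .odd),
((41, 90), .odd),
((41, 95), .odd),
((41, 130), .pow 2 (1, 170)),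
((41, 131), .pow 2 (1, 170)),
((41, 134), .pow 2 (1, 174)),
((41, 135), .pow 2 (1, 174)),
((41, 144), .odd),
((41, 148), .odd),
((41, 153), .odd),
((41, 157), .odd),
((41, 194), .pow 2 (1, 234)),
((41, 195), .pow 2 (1, 234)),
((41, 206), .pow 2 (1, 230)),
((41, 207), .pow 2 (1, 230)),
((41, 208), .odd),
((41, 213), .odd),
((41, 217), .odd),
((41, 220), .odd),
((44, 66), .pow 2 (1, 110)),
((44, 67), .pow 2 (1, 110)),
((44, 74), .pow 2 (1, 102)),
((44, 75), .pow 2 (1, 102)),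
((44, 82), .odd),
((44, 87), .odd),
((44, 90), .odd),
((44, 95), .odd),
((44, 130), .pow 2 (1, 174)),
((44, 131), .pow 2 (1, 174)),
((44, 134), .pow 2 (1, 170)),
((44, 135), .pow 2 (1, 170)),
((44, 146), .odd),
((44, 150), .odd),
((44, 155), .odd),
((44, 159), .odd),
((44, 192), .pow 2 (1, 192)),
((44, 193), .pow 2 (1, 192)),
((44, 204), .pow 2 (1, 204)),
((44, 205), .pow 2 (1, 204)),
((44, 208), .odd),
((44, 213), .odd),
((44, 217), .odd),
((44, 220), .odd),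
((45, 66), .pow 2 (1, 110)),
((45, 67), .pow 2 (1, 110)),
((45, 74), .pow 2 (1, 102)),
((45, 75), .pow 2 (1, 102)),
((45, 80), .odd),
((45, 85), .odd),
((45, 88), .odd),
((45, 93), .odd),
((45, 130), .pow 2 (1, 174)),
((45, 131), .pow 2 (1, 174)),
((45, 134), .pow 2 (1, 170)),
((45, 135), .pow 2 (1, 170)),
((45, 144), .odd),
((45, 148), .odd),
((45, 153), .odd),
((45, 157), .odd),
((45, 192), .pow 2 (1, 192)),
((45, 193), .pow 2 (1, 192)),
((45, 204), .pow 2 (1, 204)),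
((45, 205), .pow 2 (1, 204)),
((45, 210), .odd),
((45, 215), .odd),
((45, 219), .odd),
((45, 222), .odd),
((48, 64), .pow 2 (64, 34)),
((48, 67), .odd),
((48, 72), .pow 2 (72, 34)),
((48, 75), .odd)]

/-- A part of the listed roots. -/
def rootsPart5 : List ((ℕ × ℕ) × Hint) := [
((48, 80), .odd),
((48, 87), .pow 2 (103, 34)),
((48, 88), .odd),
((48, 95), .pow 2 (111, 34)),
((48, 128), .pow 2 (128, 34)),
((48, 131), .odd),
((48, 132), .pow 2 (132, 34)),
((48, 135), .odd),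
((48, 144), .odd),
((48, 148), .odd),
((48, 155), .pow 2 (171, 34)),
((48, 159), .pow 2 (175, 34)),
((48, 192), .pow 2 (192, 34)),
((48, 195), .odd),
((48, 204), .pow 2 (204, 34)),
((48, 207), .odd),
((48, 208), .odd),
((48, 215), .pow 2 (231, 34)),
((48, 219), .pow 2 (235, 34)),
((48, 220), .odd),
((51, 64), .pow 2 (64, 35)),
((51, 67), .odd),
((51, 72), .pow 2 (72, 35)),
((51, 75), .odd),
((51, 82), .odd),
((51, 85), .pow 2 (102, 35)),
((51, 90), .odd),
((51, 93), .pow 2 (110, 35)),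
((51, 128), .pow 2 (128, 35)),
((51, 131), .odd),
((51, 132), .pow 2 (132, 35)),
((51, 135), .odd),
((51, 146), .odd),
((51, 150), .odd),
((51, 153), .pow 2 (170, 35)),
((51, 157), .pow 2 (174, 35)),
((51, 192), .pow 2 (192, 35)),
((51, 195), .odd),
((51, 204), .pow 2 (204, 35)),
((51, 207), .odd),
((51, 210), .odd),
((51, 213), .pow 2 (230, 35)),
((51, 217), .pow 2 (234, 35)),
((51, 222), .odd),
((52, 65), .pow 2 (65, 34)),
((52, 66), .odd),
((52, 73), .pow 2 (73, 34)),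
((52, 74), .odd),
((52, 82), .pow 2 (102, 34)),
((52, 85), .odd),
((52, 90), .pow 2 (110, 34)),
((52, 93), .odd),
((52, 128), .pow 2 (128, 34)),
((52, 131), .odd),
((52, 132), .pow 2 (132, 34)),
((52, 135), .odd),
((52, 144), .odd),
((52, 148), .odd),
((52, 155), .pow 2 (175, 34)),
((52, 159), .pow 2 (171, 34)),
((52, 193), .pow 2 (193, 34)),
((52, 194), .odd),
((52, 205), .pow 2 (205, 34)),
((52, 206), .odd),
((52, 210), .pow 2 (230, 34)),
((52, 213), .odd),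
((52, 217), .odd),
((52, 222), .pow 2 (234, 34)),
((55, 65), .pow 2 (65, 35)),
((55, 66), .odd),
((55, 73), .pow 2 (73, 35)),
((55, 74), .odd),
((55, 80), .pow 2 (103, 35)),
((55, 87), .odd),
((55, 88), .pow 2 (111, 35)),
((55, 95), .odd),
((55, 128), .pow 2 (128, 35)),
((55, 131), .odd),
((55, 132), .pow 2 (132, 35)),
((55, 135), .odd),
((55, 146), .odd),
((55, 150), .odd),
((55, 153), .pow 2 (174, 35)),
((55, 157), .pow 2 (170, 35)),
((55, 193), .pow 2 (193, 35)),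
((55, 194), .odd),
((55, 205), .pow 2 (205, 35)),
((55, 206), .odd),
((55, 208), .pow 2 (231, 35)),
((55, 215), .odd),
((55, 219), .odd),
((55, 220), .pow 2 (235, 35)),
((56, 64), .pow 2 (64, 34)),
((56, 67), .odd),
((56, 72), .pow 2 (72, 34)),
((56, 75), .odd),
((56, 80), .odd),
((56, 87), .pow 2 (111, 34)),
((56, 88), .odd),
((56, 95), .pow 2 (103, 34)),
((56, 129), .pow 2 (129, 34)),
((56, 130), .odd),
((56, 133), .pow 2 (133, 34)),
((56, 134), .odd),
((56, 146), .pow 2 (170, 34)),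
((56, 150), .pow 2 (174, 34)),
((56, 153), .odd),
((56, 157), .odd),
((56, 193), .pow 2 (193, 34)),
((56, 194), .odd),
((56, 205), .pow 2 (205, 34)),
((56, 206), .odd),
((56, 210), .pow 2 (234, 34)),
((56, 213), .odd),
((56, 217), .odd),
((56, 222), .pow 2 (230, 34)),
((59, 64), .pow 2 (64, 35)),
((59, 67), .odd),
((59, 72), .pow 2 (72, 35)),
((59, 75), .odd),
((59, 82), .odd),
((59, 85), .pow 2 (110, 35)),
((59, 90), .odd),
((59, 93), .pow 2 (102, 35)),
((59, 129), .pow 2 (129, 35)),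
((59, 130), .odd),
((59, 133), .pow 2 (133, 35)),
((59, 134), .odd),
((59, 144), .pow 2 (171, 35)),
((59, 148), .pow 2 (175, 35)),
((59, 155), .odd),
((59, 159), .odd),
((59, 193), .pow 2 (193, 35)),
((59, 194), .odd),
((59, 205), .pow 2 (205, 35)),
((59, 206), .odd),
((59, 208), .pow 2 (235, 35)),
((59, 215), .odd),
((59, 219), .odd),
((59, 220), .pow 2 (231, 35)),
((60, 65), .pow 2 (65, 34)),
((60, 66), .odd),
((60, 73), .pow 2 (73, 34)),
((60, 74), .odd),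
((60, 82), .pow 2 (110, 34)),
((60, 85), .odd),
((60, 90), .pow 2 (102, 34)),
((60, 93), .odd),
((60, 129), .pow 2 (129, 34)),
((60, 130), .odd),
((60, 133), .pow 2 (133, 34)),
((60, 134), .odd),
((60, 146), .pow 2 (174, 34)),
((60, 150), .pow 2 (170, 34)),
((60, 153), .odd),
((60, 157), .odd),
((60, 192), .pow 2 (192, 34)),
((60, 195), .odd),
((60, 204), .pow 2 (204, 34)),
((60, 207), .odd),
((60, 208), .odd),
((60, 215), .pow 2 (235, 34)),
((60, 219), .pow 2 (231, 34)),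
((60, 220), .odd),
((63, 65), .pow 2 (65, 35)),
((63, 66), .odd),
((63, 73), .pow 2 (73, 35)),
((63, 74), .odd),
((63, 80), .pow 2 (111, 35)),
((63, 87), .odd),
((63, 88), .pow 2 (103, 35)),
((63, 95), .odd),
((63, 129), .pow 2 (129, 35)),
((63, 130), .odd),
((63, 133), .pow 2 (133, 35))]

/-- A part of the listed roots. -/
def rootsPart6 : List ((ℕ × ℕ) × Hint) := [
((63, 134), .odd),
((63, 144), .pow 2 (175, 35)),
((63, 148), .pow 2 (171, 35)),
((63, 155), .odd),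
((63, 159), .odd),
((63, 192), .pow 2 (192, 35)),
((63, 195), .odd),
((63, 204), .pow 2 (204, 35)),
((63, 207), .odd),
((63, 210), .odd),
((63, 213), .pow 2 (234, 35)),
((63, 217), .pow 2 (230, 35)),
((63, 222), .odd),
((64, 128), .conj [2, 3, 4, 3, 2]),
((64, 129), .conj [0, 2, 4, 3, 4, 3, 2, 0]),
((64, 130), .pow 2 (1, 64)),
((64, 131), .pow 2 (1, 64)),
((64, 144), .pow 2 (64, 35)),
((64, 146), .pow 2 (64, 34)),
((64, 153), .pow 2 (64, 35)),
((64, 155), .pow 2 (64, 34)),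
((64, 160), .pow 2 (1, 64)),
((64, 161), .pow 2 (1, 64)),
((64, 170), .conj [1, 0, 3, 0, 2, 0, 4, 0, 1]),
((64, 171), .conj [1, 3, 4, 1, 2, 4, 2, 0, 4]),
((64, 176), .pow 2 (64, 34)),
((64, 179), .pow 2 (64, 35)),
((64, 185), .pow 2 (64, 34)),
((64, 186), .pow 2 (64, 35)),
((65, 128), .conj [0, 2, 4, 2, 3, 1, 0, 2]),
((65, 129), .conj [1, 3, 2, 1, 2, 4, 3, 2]),
((65, 130), .pow 2 (1, 64)),
((65, 131), .pow 2 (1, 64)),
((65, 148), .pow 2 (65, 35)),
((65, 150), .pow 2 (65, 34)),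
((65, 157), .pow 2 (65, 35)),
((65, 159), .pow 2 (65, 34)),
((65, 160), .pow 2 (1, 64)),
((65, 161), .pow 2 (1, 64)),
((65, 170), .conj [1, 0, 3, 4, 2, 4, 0, 1]),
((65, 171), .conj [1, 0, 3, 2, 4, 2, 0, 2, 1]),
((65, 180), .pow 2 (65, 34)),
((65, 183), .pow 2 (65, 35)),
((65, 189), .pow 2 (65, 34)),
((65, 190), .pow 2 (65, 35)),
((66, 128), .pow 2 (1, 128)),
((66, 129), .pow 2 (1, 128)),
((66, 130), .pow 2 (1, 192)),
((66, 131), .pow 2 (1, 192)),
((66, 144), .odd),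
((66, 146), .odd),
((66, 153), .odd),
((66, 155), .odd),
((66, 164), .pow 2 (1, 230)),
((66, 165), .pow 2 (1, 230)),
((66, 174), .pow 2 (1, 174)),
((66, 175), .pow 2 (1, 174)),
((66, 180), .odd),
((66, 183), .odd),
((66, 189), .odd),
((66, 190), .odd),
((67, 128), .pow 2 (1, 128)),
((67, 129), .pow 2 (1, 128)),
((67, 130), .pow 2 (1, 192)),
((67, 131), .pow 2 (1, 192)),
((67, 148), .odd),
((67, 150), .odd),
((67, 157), .odd),
((67, 159), .odd),
((67, 164), .pow 2 (1, 230)),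
((67, 165), .pow 2 (1, 230)),
((67, 174), .pow 2 (1, 174)),
((67, 175), .pow 2 (1, 174)),
((67, 176), .odd),
((67, 179), .odd),
((67, 185), .odd),
((67, 186), .odd),
((72, 132), .conj [2, 1, 4, 1, 2]),
((72, 133), .conj [1, 0, 2, 4, 2, 0, 1]),
((72, 134), .pow 2 (1, 72)),
((72, 135), .pow 2 (1, 72)),
((72, 148), .pow 2 (72, 35)),
((72, 150), .pow 2 (72, 34)),
((72, 157), .pow 2 (72, 35)),
((72, 159), .pow 2 (72, 34)),
((72, 164), .pow 2 (1, 72)),
((72, 165), .pow 2 (1, 72)),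
((72, 174), .conj [3, 2, 1, 4, 3, 2, 0]),
((72, 175), .conj [0, 4, 3, 4, 1, 0, 1]),
((72, 180), .pow 2 (72, 34)),
((72, 183), .pow 2 (72, 35)),
((72, 189), .pow 2 (72, 34)),
((72, 190), .pow 2 (72, 35)),
((73, 132), .conj [1, 2, 0, 2, 0, 1]),
((73, 133), .conj [1, 0, 3, 2, 0, 2, 1]),
((73, 134), .pow 2 (1, 72)),
((73, 135), .pow 2 (1, 72)),
((73, 144), .pow 2 (73, 35)),
((73, 146), .pow 2 (73, 34)),
((73, 153), .pow 2 (73, 35)),
((73, 155), .pow 2 (73, 34)),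
((73, 164), .pow 2 (1, 72)),
((73, 165), .pow 2 (1, 72)),
((73, 174), .conj [2, 0, 2]),
((73, 175), .conj [1, 0, 1, 0]),
((73, 176), .pow 2 (73, 34)),
((73, 179), .pow 2 (73, 35)),
((73, 185), .pow 2 (73, 34)),
((73, 186), .pow 2 (73, 35)),
((74, 132), .pow 2 (1, 132)),
((74, 133), .pow 2 (1, 132)),
((74, 134), .pow 2 (1, 204)),
((74, 135), .pow 2 (1, 204)),
((74, 148), .odd),
((74, 150), .odd),
((74, 157), .odd),
((74, 159), .odd),
((74, 160), .pow 2 (1, 234)),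
((74, 161), .pow 2 (1, 234)),
((74, 170), .pow 2 (1, 170)),
((74, 171), .pow 2 (1, 170)),
((74, 176), .odd),
((74, 179), .odd),
((74, 185), .odd),
((74, 186), .odd),
((75, 132), .pow 2 (1, 132)),
((75, 133), .pow 2 (1, 132)),
((75, 134), .pow 2 (1, 204)),
((75, 135), .pow 2 (1, 204)),
((75, 144), .odd),
((75, 146), .odd),
((75, 153), .odd),
((75, 155), .odd),
((75, 160), .pow 2 (1, 234)),
((75, 161), .pow 2 (1, 234)),
((75, 170), .pow 2 (1, 170)),
((75, 171), .pow 2 (1, 170)),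
((75, 180), .odd),
((75, 183), .odd),
((75, 189), .odd),
((75, 190), .odd),
((80, 128), .pow 2 (128, 35)),
((80, 130), .odd),
((80, 133), .pow 2 (133, 35)),
((80, 135), .odd),
((80, 144), .pow 2 (192, 35)),
((80, 146), .odd),
((80, 157), .pow 2 (205, 35)),
((80, 159), .odd),
((80, 160), .odd),
((80, 165), .odd),
((80, 170), .pow 2 (170, 35)),
((80, 175), .pow 2 (175, 35)),
((80, 176), .odd),
((80, 183), .pow 2 (231, 35)),
((80, 186), .pow 2 (234, 35)),
((80, 189), .odd),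
((82, 128), .pow 2 (128, 34)),
((82, 130), .odd),
((82, 133), .pow 2 (133, 34)),
((82, 135), .odd),
((82, 144), .odd),
((82, 146), .pow 2 (192, 34)),
((82, 157), .odd),
((82, 159), .pow 2 (205, 34)),
((82, 161), .odd),
((82, 164), .odd),
((82, 171), .pow 2 (171, 34)),
((82, 174), .pow 2 (174, 34)),
((82, 179), .odd),
((82, 180), .pow 2 (230, 34)),
((82, 185), .pow 2 (235, 34)),
((82, 190), .odd),
((85, 128), .pow 2 (128, 35)),
((85, 130), .odd)]

/-- A part of the listed roots. -/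
def rootsPart7 : List ((ℕ × ℕ) × Hint) := [
((85, 133), .pow 2 (133, 35)),
((85, 135), .odd),
((85, 148), .pow 2 (193, 35)),
((85, 150), .odd),
((85, 153), .pow 2 (204, 35)),
((85, 155), .odd),
((85, 160), .odd),
((85, 165), .odd),
((85, 170), .pow 2 (170, 35)),
((85, 175), .pow 2 (175, 35)),
((85, 179), .pow 2 (230, 35)),
((85, 180), .odd),
((85, 185), .odd),
((85, 190), .pow 2 (235, 35)),
((87, 128), .pow 2 (128, 34)),
((87, 130), .odd),
((87, 133), .pow 2 (133, 34)),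
((87, 135), .odd),
((87, 148), .odd),
((87, 150), .pow 2 (193, 34)),
((87, 153), .odd),
((87, 155), .pow 2 (204, 34)),
((87, 161), .odd),
((87, 164), .odd),
((87, 171), .pow 2 (171, 34)),
((87, 174), .pow 2 (174, 34)),
((87, 176), .pow 2 (231, 34)),
((87, 183), .odd),
((87, 186), .odd),
((87, 189), .pow 2 (234, 34)),
((88, 129), .pow 2 (129, 35)),
((88, 131), .odd),
((88, 132), .pow 2 (132, 35)),
((88, 134), .odd),
((88, 148), .pow 2 (204, 35)),
((88, 150), .odd),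
((88, 153), .pow 2 (193, 35)),
((88, 155), .odd),
((88, 161), .odd),
((88, 164), .odd),
((88, 171), .pow 2 (171, 35)),
((88, 174), .pow 2 (174, 35)),
((88, 179), .pow 2 (235, 35)),
((88, 180), .odd),
((88, 185), .odd),
((88, 190), .pow 2 (230, 35)),
((90, 129), .pow 2 (129, 34)),
((90, 131), .odd),
((90, 132), .pow 2 (132, 34)),
((90, 134), .odd),
((90, 148), .odd),
((90, 150), .pow 2 (204, 34)),
((90, 153), .odd),
((90, 155), .pow 2 (193, 34)),
((90, 160), .odd),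
((90, 165), .odd),
((90, 170), .pow 2 (170, 34)),
((90, 175), .pow 2 (175, 34)),
((90, 176), .pow 2 (234, 34)),
((90, 183), .odd),
((90, 186), .odd),
((90, 189), .pow 2 (231, 34)),
((93, 129), .pow 2 (129, 35)),
((93, 131), .odd),
((93, 132), .pow 2 (132, 35)),
((93, 134), .odd),
((93, 144), .pow 2 (205, 35)),
((93, 146), .odd),
((93, 157), .pow 2 (192, 35)),
((93, 159), .odd),
((93, 161), .odd),
((93, 164), .odd),
((93, 171), .pow 2 (171, 35)),
((93, 174), .pow 2 (174, 35)),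
((93, 176), .odd),
((93, 183), .pow 2 (234, 35)),
((93, 186), .pow 2 (231, 35)),
((93, 189), .odd),
((95, 129), .pow 2 (129, 34)),
((95, 131), .odd),
((95, 132), .pow 2 (132, 34)),
((95, 134), .odd),
((95, 144), .odd),
((95, 146), .pow 2 (205, 34)),
((95, 157), .odd),
((95, 159), .pow 2 (192, 34)),
((95, 160), .odd),
((95, 165), .odd),
((95, 170), .pow 2 (170, 34)),
((95, 175), .pow 2 (175, 34)),
((95, 179), .odd),
((95, 180), .pow 2 (235, 34)),
((95, 185), .pow 2 (230, 34)),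
((95, 190), .odd),
((96, 128), .pow 2 (1, 128)),
((96, 129), .pow 2 (1, 128)),
((96, 134), .pow 2 (1, 230)),
((96, 135), .pow 2 (1, 230)),
((96, 144), .odd),
((96, 150), .odd),
((96, 153), .odd),
((96, 159), .odd),
((96, 160), .pow 2 (1, 192)),
((96, 161), .pow 2 (1, 192)),
((96, 174), .pow 2 (1, 174)),
((96, 175), .pow 2 (1, 174)),
((96, 176), .odd),
((96, 183), .odd),
((96, 185), .odd),
((96, 190), .odd),
((97, 128), .pow 2 (1, 128)),
((97, 129), .pow 2 (1, 128)),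
((97, 134), .pow 2 (1, 230)),
((97, 135), .pow 2 (1, 230)),
((97, 146), .odd),
((97, 148), .odd),
((97, 155), .odd),
((97, 157), .odd),
((97, 160), .pow 2 (1, 192)),
((97, 161), .pow 2 (1, 192)),
((97, 174), .pow 2 (1, 174)),
((97, 175), .pow 2 (1, 174)),
((97, 179), .odd),
((97, 180), .odd),
((97, 186), .odd),
((97, 189), .odd),
((102, 128), .conj [4, 2, 3, 2, 4]),
((102, 129), .conj [4, 2, 4, 1, 4, 3, 2, 4]),
((102, 134), .pow 2 (1, 102)),
((102, 135), .pow 2 (1, 102)),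
((102, 144), .pow 2 (102, 35)),
((102, 150), .pow 2 (102, 34)),
((102, 153), .pow 2 (102, 35)),
((102, 159), .pow 2 (102, 34)),
((102, 164), .pow 2 (1, 102)),
((102, 165), .pow 2 (1, 102)),
((102, 170), .conj [1, 2, 0, 4, 2, 1, 0]),
((102, 171), .conj [2, 3, 4, 3, 0, 2]),
((102, 179), .pow 2 (102, 35)),
((102, 180), .pow 2 (102, 34)),
((102, 186), .pow 2 (102, 35)),
((102, 189), .pow 2 (102, 34)),
((103, 128), .conj [0, 3, 0, 4, 1, 0, 3, 0]),
((103, 129), .conj [0, 3, 0, 2, 1, 4, 1, 4]),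
((103, 134), .pow 2 (1, 102)),
((103, 135), .pow 2 (1, 102)),
((103, 146), .pow 2 (103, 34)),
((103, 148), .pow 2 (103, 35)),
((103, 155), .pow 2 (103, 34)),
((103, 157), .pow 2 (103, 35)),
((103, 164), .pow 2 (1, 102)),
((103, 165), .pow 2 (1, 102)),
((103, 170), .conj [2, 0, 4, 2, 1, 2, 4, 2]),
((103, 171), .conj [1, 2, 0, 4, 2, 3, 1, 0]),
((103, 176), .pow 2 (103, 34)),
((103, 183), .pow 2 (103, 35)),
((103, 185), .pow 2 (103, 34)),
((103, 190), .pow 2 (103, 35)),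
((104, 130), .pow 2 (1, 234)),
((104, 131), .pow 2 (1, 234)),
((104, 132), .pow 2 (1, 132)),
((104, 133), .pow 2 (1, 132)),
((104, 146), .odd),
((104, 148), .odd),
((104, 155), .odd),
((104, 157), .odd),
((104, 164), .pow 2 (1, 204)),
((104, 165), .pow 2 (1, 204)),
((104, 170), .pow 2 (1, 170)),
((104, 171), .pow 2 (1, 170)),
((104, 179), .odd),
((104, 180), .odd),
((104, 186), .odd),
((104, 189), .odd),
((105, 130), .pow 2 (1, 234))]

/-- A part of the listed roots. -/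
def rootsPart8 : List ((ℕ × ℕ) × Hint) := [
((105, 131), .pow 2 (1, 234)),
((105, 132), .pow 2 (1, 132)),
((105, 133), .pow 2 (1, 132)),
((105, 144), .odd),
((105, 150), .odd),
((105, 153), .odd),
((105, 159), .odd),
((105, 164), .pow 2 (1, 204)),
((105, 165), .pow 2 (1, 204)),
((105, 170), .pow 2 (1, 170)),
((105, 171), .pow 2 (1, 170)),
((105, 176), .odd),
((105, 183), .odd),
((105, 185), .odd),
((105, 190), .odd),
((110, 130), .pow 2 (1, 110)),
((110, 131), .pow 2 (1, 110)),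
((110, 132), .conj [3, 1, 4, 0, 2, 4, 1, 3]),
((110, 133), .conj [3, 2, 1, 4, 1, 0, 1, 2, 0]),
((110, 146), .pow 2 (110, 34)),
((110, 148), .pow 2 (110, 35)),
((110, 155), .pow 2 (110, 34)),
((110, 157), .pow 2 (110, 35)),
((110, 160), .pow 2 (1, 110)),
((110, 161), .pow 2 (1, 110)),
((110, 174), .conj [1, 0, 1, 4, 2, 3, 4, 1]),
((110, 175), .conj [2, 3, 4, 3, 0, 1, 4, 1, 2]),
((110, 176), .pow 2 (110, 34)),
((110, 183), .pow 2 (110, 35)),
((110, 185), .pow 2 (110, 34)),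
((110, 190), .pow 2 (110, 35)),
((111, 130), .pow 2 (1, 110)),
((111, 131), .pow 2 (1, 110)),
((111, 132), .conj [2, 4, 2, 1, 2, 4, 2]),
((111, 133), .conj [2, 0, 3, 4, 3, 0, 2]),
((111, 144), .pow 2 (111, 35)),
((111, 150), .pow 2 (111, 34)),
((111, 153), .pow 2 (111, 35)),
((111, 159), .pow 2 (111, 34)),
((111, 160), .pow 2 (1, 110)),
((111, 161), .pow 2 (1, 110)),
((111, 174), .conj [0, 4, 2, 3, 4, 0, 1, 0]),
((111, 175), .conj [4, 1, 3, 4, 3, 0, 2, 0, 1]),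
((111, 179), .pow 2 (111, 35)),
((111, 180), .pow 2 (111, 34)),
((111, 186), .pow 2 (111, 35)),
((111, 189), .pow 2 (111, 34)),
((112, 128), .pow 2 (128, 34)),
((112, 131), .odd),
((112, 133), .pow 2 (133, 34)),
((112, 134), .odd),
((112, 144), .odd),
((112, 150), .pow 2 (230, 34)),
((112, 155), .pow 2 (235, 34)),
((112, 157), .odd),
((112, 160), .odd),
((112, 165), .odd),
((112, 171), .pow 2 (171, 34)),
((112, 174), .pow 2 (174, 34)),
((112, 176), .pow 2 (192, 34)),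
((112, 179), .odd),
((112, 189), .pow 2 (205, 34)),
((112, 190), .odd),
((115, 128), .pow 2 (128, 35)),
((115, 131), .odd),
((115, 133), .pow 2 (133, 35)),
((115, 134), .odd),
((115, 146), .odd),
((115, 148), .pow 2 (231, 35)),
((115, 153), .pow 2 (234, 35)),
((115, 159), .odd),
((115, 161), .odd),
((115, 164), .odd),
((115, 170), .pow 2 (170, 35)),
((115, 175), .pow 2 (175, 35)),
((115, 176), .odd),
((115, 179), .pow 2 (192, 35)),
((115, 189), .odd),
((115, 190), .pow 2 (205, 35)),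
((117, 128), .pow 2 (128, 34)),
((117, 131), .odd),
((117, 133), .pow 2 (133, 34)),
((117, 134), .odd),
((117, 146), .pow 2 (231, 34)),
((117, 148), .odd),
((117, 153), .odd),
((117, 159), .pow 2 (234, 34)),
((117, 160), .odd),
((117, 165), .odd),
((117, 171), .pow 2 (171, 34)),
((117, 174), .pow 2 (174, 34)),
((117, 180), .pow 2 (193, 34)),
((117, 183), .odd),
((117, 185), .pow 2 (204, 34)),
((117, 186), .odd),
((118, 128), .pow 2 (128, 35)),
((118, 131), .odd),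
((118, 133), .pow 2 (133, 35)),
((118, 134), .odd),
((118, 144), .pow 2 (230, 35)),
((118, 150), .odd),
((118, 155), .odd),
((118, 157), .pow 2 (235, 35)),
((118, 161), .odd),
((118, 164), .odd),
((118, 170), .pow 2 (170, 35)),
((118, 175), .pow 2 (175, 35)),
((118, 180), .odd),
((118, 183), .pow 2 (193, 35)),
((118, 185), .odd),
((118, 186), .pow 2 (204, 35)),
((120, 129), .pow 2 (129, 34)),
((120, 130), .odd),
((120, 132), .pow 2 (132, 34)),
((120, 135), .odd),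
((120, 146), .pow 2 (234, 34)),
((120, 148), .odd),
((120, 153), .odd),
((120, 159), .pow 2 (231, 34)),
((120, 161), .odd),
((120, 164), .odd),
((120, 170), .pow 2 (170, 34)),
((120, 175), .pow 2 (175, 34)),
((120, 180), .pow 2 (204, 34)),
((120, 183), .odd),
((120, 185), .pow 2 (193, 34)),
((120, 186), .odd),
((123, 129), .pow 2 (129, 35)),
((123, 130), .odd),
((123, 132), .pow 2 (132, 35)),
((123, 135), .odd),
((123, 144), .pow 2 (235, 35)),
((123, 150), .odd),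
((123, 155), .odd),
((123, 157), .pow 2 (230, 35)),
((123, 160), .odd),
((123, 165), .odd),
((123, 171), .pow 2 (171, 35)),
((123, 174), .pow 2 (174, 35)),
((123, 180), .odd),
((123, 183), .pow 2 (204, 35)),
((123, 185), .odd),
((123, 186), .pow 2 (193, 35)),
((125, 129), .pow 2 (129, 34)),
((125, 130), .odd),
((125, 132), .pow 2 (132, 34)),
((125, 135), .odd),
((125, 144), .odd),
((125, 150), .pow 2 (235, 34)),
((125, 155), .pow 2 (230, 34)),
((125, 157), .odd),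
((125, 161), .odd),
((125, 164), .odd),
((125, 170), .pow 2 (170, 34)),
((125, 175), .pow 2 (175, 34)),
((125, 176), .pow 2 (205, 34)),
((125, 179), .odd),
((125, 189), .pow 2 (192, 34)),
((125, 190), .odd),
((126, 129), .pow 2 (129, 35)),
((126, 130), .odd),
((126, 132), .pow 2 (132, 35)),
((126, 135), .odd),
((126, 146), .odd),
((126, 148), .pow 2 (234, 35)),
((126, 153), .pow 2 (231, 35)),
((126, 159), .odd),
((126, 160), .odd),
((126, 165), .odd),
((126, 171), .pow 2 (171, 35)),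
((126, 174), .pow 2 (174, 35)),
((126, 176), .odd),
((126, 179), .pow 2 (205, 35)),
((126, 189), .odd),
((126, 190), .pow 2 (192, 35))]

/-- The listed roots with their hints. -/
def rootsList : List (List ((ℕ × ℕ) × Hint)) := [rootsPart0, rootsPart1, rootsPart2, rootsPart3, rootsPart4, rootsPart5, rootsPart6, rootsPart7, rootsPart8]

/-- The position of each translated standard root. -/
def rootPos : List (List ℕ) := [
[0, 1, 2, 3, 4, 5, 6, 7, 8, 9, 10, 11, 12, 13, 14, 15, 16, 17, 18, 19, 20, 21, 22, 23, 24, 25, 26, 27, 28, 29, 30, 31, 32, 33, 34],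
[64, 67, 42, 66, 43, 39, 62, 38, 65, 68, 36, 60, 49, 47, 56, 58, 53, 46, 50, 57, 52, 48, 55, 59, 45, 54, 51, 40, 61, 0, 63, 35, 41, 44, 37],
[99, 83, 87, 84, 90, 70, 100, 86, 74, 71, 85, 82, 93, 78, 97, 76, 92, 80, 96, 91, 79, 95, 75, 98, 94, 81, 77, 101, 72, 102, 73, 89, 69, 0, 88],
[35, 103, 105, 104, 106, 1, 69, 112, 114, 113, 111, 124, 123, 126, 125, 132, 133, 134, 131, 108, 107, 110, 109, 116, 118, 117, 115, 119, 121, 120, 122, 128, 130, 129, 127],
[150, 162, 155, 159, 158, 138, 147, 136, 160, 161, 36, 142, 144, 165, 153, 139, 151, 163, 143, 140, 146, 166, 152, 141, 164, 154, 145, 135, 148, 70, 149, 1, 156, 157, 137],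
[70, 35, 2, 168, 169, 170, 167, 188, 187, 190, 189, 196, 195, 198, 197, 176, 175, 177, 178, 183, 186, 185, 184, 172, 171, 173, 174, 180, 179, 181, 182, 192, 191, 194, 193],
[36, 201, 199, 200, 202, 69, 2, 219, 222, 221, 220, 223, 224, 225, 226, 211, 213, 214, 212, 207, 208, 210, 209, 227, 229, 230, 228, 215, 217, 218, 216, 203, 205, 206, 204],
[135, 37, 199, 3, 103, 71, 167, 246, 244, 245, 243, 237, 236, 238, 235, 254, 251, 253, 252, 250, 248, 249, 247, 233, 234, 231, 232, 256, 258, 255, 257, 239, 242, 241, 240],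
[72, 286, 285, 264, 265, 278, 277, 267, 274, 260, 282, 3, 38, 263, 266, 268, 273, 259, 281, 168, 136, 283, 284, 269, 271, 261, 280, 200, 104, 275, 276, 270, 272, 262, 279],
[37, 105, 169, 72, 4, 201, 137, 306, 304, 305, 303, 292, 294, 293, 291, 314, 311, 313, 312, 290, 289, 288, 287, 300, 302, 299, 301, 298, 297, 295, 296, 307, 309, 308, 310],
[329, 333, 315, 317, 331, 327, 106, 326, 336, 321, 341, 320, 337, 325, 340, 318, 202, 71, 316, 338, 322, 324, 342, 332, 138, 4, 334, 330, 38, 170, 328, 339, 335, 319, 323],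
[347, 343, 351, 353, 345, 349, 103, 357, 360, 370, 365, 369, 361, 356, 364, 354, 202, 73, 352, 359, 367, 355, 363, 344, 39, 169, 346, 350, 136, 5, 348, 366, 362, 368, 358],
[381, 384, 398, 385, 396, 170, 380, 104, 386, 383, 40, 389, 392, 371, 377, 387, 378, 373, 394, 390, 393, 374, 375, 388, 372, 376, 391, 74, 382, 135, 379, 201, 395, 397, 5],
[74, 39, 6, 200, 105, 138, 167, 425, 426, 424, 423, 417, 418, 416, 415, 404, 403, 405, 406, 420, 421, 422, 419, 401, 402, 399, 400, 409, 410, 407, 408, 411, 412, 413, 414],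
[40, 73, 6, 168, 106, 137, 199, 454, 453, 451, 452, 442, 441, 439, 440, 435, 436, 437, 438, 448, 450, 449, 447, 430, 429, 428, 427, 434, 433, 432, 431, 444, 443, 446, 445],
[171, 107, 41, 469, 468, 467, 470, 455, 456, 472, 471, 465, 466, 482, 481, 461, 462, 477, 478, 231, 399, 343, 287, 457, 458, 473, 474, 463, 464, 479, 480, 459, 460, 476, 475],
[493, 496, 509, 504, 501, 487, 485, 488, 503, 495, 41, 492, 400, 500, 505, 484, 506, 508, 344, 494, 172, 510, 497, 486, 502, 498, 108, 232, 491, 489, 483, 490, 499, 507, 288],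
[514, 107, 513, 511, 345, 512, 233, 523, 525, 527, 528, 535, 533, 531, 538, 519, 517, 515, 521, 526, 529, 524, 530, 172, 42, 289, 401, 520, 518, 516, 522, 536, 534, 537, 532],
[42, 561, 562, 402, 346, 560, 559, 548, 557, 549, 556, 171, 108, 234, 290, 547, 558, 550, 555, 554, 553, 546, 545, 563, 542, 566, 539, 551, 552, 544, 543, 564, 541, 565, 540],
[588, 43, 587, 590, 345, 589, 402, 581, 582, 574, 573, 568, 592, 593, 569, 583, 575, 578, 586, 579, 572, 580, 571, 109, 173, 231, 288, 584, 576, 577, 585, 567, 591, 570, 594],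
[609, 606, 621, 596, 611, 602, 618, 604, 232, 600, 598, 607, 110, 612, 595, 620, 346, 616, 597, 174, 608, 605, 622, 603, 401, 615, 614, 610, 43, 617, 601, 619, 287, 599, 613],
[633, 629, 623, 637, 650, 645, 640, 646, 638, 630, 44, 634, 174, 649, 636, 639, 635, 624, 109, 631, 233, 625, 627, 642, 648, 628, 290, 400, 632, 644, 641, 643, 647, 626, 343],
[658, 44, 657, 655, 289, 656, 234, 672, 671, 664, 663, 677, 667, 669, 675, 653, 659, 661, 651, 674, 665, 673, 666, 344, 399, 173, 110, 652, 662, 660, 654, 676, 670, 678, 668],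
[684, 697, 693, 690, 699, 682, 623, 698, 7, 681, 689, 683, 139, 700, 687, 694, 111, 567, 688, 371, 685, 696, 692, 695, 347, 455, 702, 686, 235, 511, 680, 691, 259, 679, 701],
[718, 724, 705, 714, 595, 707, 722, 711, 708, 140, 723, 712, 651, 112, 717, 7, 706, 713, 721, 704, 726, 716, 260, 720, 539, 725, 348, 719, 710, 715, 372, 703, 236, 709, 483],
[512, 749, 746, 734, 730, 737, 739, 733, 736, 140, 750, 237, 624, 732, 728, 731, 742, 373, 743, 568, 349, 744, 748, 727, 741, 261, 747, 456, 111, 740, 735, 729, 738, 8, 745],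
[765, 754, 771, 652, 762, 756, 769, 758, 540, 752, 238, 760, 596, 766, 112, 774, 350, 767, 484, 773, 751, 763, 262, 761, 770, 8, 753, 757, 768, 374, 764, 139, 772, 759, 755],
[457, 113, 513, 235, 569, 349, 625, 260, 374, 9, 141, 775, 779, 777, 781, 778, 782, 776, 780, 787, 783, 788, 785, 789, 790, 784, 786, 795, 791, 798, 793, 797, 794, 792, 796],
[804, 807, 820, 812, 816, 541, 800, 114, 809, 811, 485, 373, 805, 813, 817, 259, 822, 814, 801, 142, 803, 810, 819, 9, 808, 815, 799, 236, 806, 653, 802, 350, 821, 818, 597],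
[837, 113, 838, 262, 835, 372, 836, 347, 237, 142, 10, 845, 823, 843, 826, 844, 825, 846, 824, 570, 832, 626, 834, 514, 458, 833, 831, 840, 829, 841, 828, 842, 827, 830, 839],
[141, 867, 868, 261, 348, 869, 870, 847, 859, 850, 861, 238, 371, 10, 114, 849, 862, 848, 860, 851, 852, 855, 858, 486, 863, 654, 865, 853, 854, 856, 857, 598, 866, 542, 864],
[886, 883, 427, 884, 315, 115, 885, 879, 455, 512, 881, 892, 873, 872, 894, 876, 877, 888, 889, 875, 890, 887, 878, 891, 871, 893, 874, 882, 569, 880, 626, 203, 239, 351, 75],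
[918, 352, 915, 916, 316, 917, 204, 540, 597, 912, 914, 908, 897, 896, 910, 903, 899, 900, 906, 483, 913, 654, 911, 116, 240, 428, 75, 905, 901, 902, 904, 907, 895, 909, 898],
[931, 934, 429, 932, 115, 317, 933, 942, 919, 922, 940, 456, 927, 929, 511, 938, 935, 925, 924, 936, 923, 926, 937, 625, 928, 570, 930, 939, 920, 941, 921, 353, 76, 241, 204],
[952, 951, 76, 954, 116, 203, 953, 948, 964, 963, 947, 957, 598, 653, 958, 962, 961, 945, 946, 959, 944, 943, 960, 956, 539, 955, 484, 949, 965, 950, 966, 430, 354, 318, 242],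
[990, 353, 987, 988, 316, 989, 205, 983, 985, 514, 567, 980, 969, 968, 982, 972, 977, 976, 971, 986, 457, 984, 624, 430, 77, 117, 239, 973, 978, 975, 974, 981, 970, 979, 967],
[1006, 1003, 429, 1004, 315, 118, 1005, 542, 1002, 1000, 485, 1012, 993, 992, 1014, 1007, 1010, 996, 997, 1009, 995, 998, 1008, 1013, 994, 1011, 991, 595, 1001, 652, 999, 354, 77, 206, 240],
[1032, 1016, 1023, 568, 1037, 1021, 1029, 1018, 241, 1019, 458, 1036, 513, 1034, 351, 1030, 623, 1025, 117, 1015, 1024, 78, 1031, 318, 1017, 1035, 1027, 1028, 1020, 1033, 428, 1038, 1022, 206, 1026],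
[1061, 317, 1059, 1060, 352, 1062, 205, 1042, 1039, 1054, 1052, 596, 1056, 1058, 541, 1043, 1048, 1049, 1044, 1040, 1053, 1041, 1051, 242, 78, 118, 427, 1045, 1047, 1050, 1046, 486, 1055, 651, 1057],
[45, 1070, 1069, 263, 319, 1068, 1067, 703, 1078, 775, 1076, 11, 79, 243, 291, 679, 1077, 799, 1075, 1064, 1066, 599, 571, 1071, 991, 1074, 871, 1063, 1065, 487, 459, 1072, 967, 1073, 895],
[80, 1092, 1091, 264, 292, 1094, 1093, 704, 1084, 776, 1086, 11, 46, 244, 320, 680, 1083, 800, 1085, 1079, 1082, 943, 919, 1088, 543, 1090, 627, 1080, 1081, 1039, 1015, 1087, 515, 1089, 655],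
[823, 1106, 1098, 920, 572, 1102, 1108, 1040, 1099, 321, 1103, 245, 727, 1016, 460, 944, 1107, 80, 1095, 847, 12, 1097, 1105, 488, 1109, 293, 1104, 751, 265, 1110, 1100, 600, 1101, 45, 1096],
[516, 1119, 1123, 1115, 1111, 872, 728, 322, 1122, 1118, 992, 46, 544, 1116, 1113, 266, 1125, 1117, 848, 294, 656, 1121, 1126, 12, 1120, 1112, 752, 246, 628, 968, 824, 79, 1124, 1114, 896],
[81, 1140, 1139, 264, 293, 1142, 1141, 705, 1132, 777, 1134, 243, 322, 13, 47, 801, 1133, 681, 1131, 897, 873, 1127, 1130, 489, 1136, 573, 1138, 993, 969, 1128, 1129, 601, 1137, 461, 1135],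
[517, 294, 657, 545, 48, 629, 244, 1154, 1152, 1157, 1156, 1147, 1143, 1145, 1148, 1041, 706, 802, 945, 1151, 1155, 1153, 1158, 321, 13, 263, 82, 921, 682, 778, 1017, 1150, 1144, 1149, 1146],
[1166, 602, 1160, 1042, 1167, 753, 1174, 946, 849, 245, 490, 320, 1163, 922, 1170, 1018, 1173, 82, 1161, 1165, 47, 1162, 574, 1169, 1171, 291, 462, 1164, 266, 1172, 825, 1168, 729, 14, 1159],
[826, 1177, 1185, 970, 518, 1190, 1180, 1176, 81, 1189, 994, 730, 246, 630, 874, 1184, 319, 1181, 898, 14, 850, 1178, 1186, 1175, 48, 1179, 546, 754, 265, 1182, 1188, 1183, 292, 1187, 658],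
[143, 1202, 1201, 431, 295, 1199, 1200, 1043, 1195, 875, 1198, 247, 375, 207, 49, 947, 1197, 971, 1196, 851, 779, 1192, 1194, 488, 1206, 573, 1204, 755, 683, 1193, 1191, 602, 1203, 459, 1205],
[995, 1214, 1216, 1209, 1222, 601, 707, 574, 1210, 1213, 49, 1221, 1208, 1019, 208, 1215, 144, 731, 1207, 1217, 1211, 923, 432, 1219, 827, 376, 1212, 487, 803, 248, 899, 296, 1218, 1220, 460],
[377, 756, 780, 684, 852, 143, 249, 1223, 1232, 1231, 1225, 1236, 1237, 1227, 1229, 924, 629, 515, 1020, 1235, 1238, 1228, 1230, 900, 544, 658, 996, 208, 297, 50, 433, 1226, 1234, 1233, 1224],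
[50, 630, 657, 250, 298, 516, 543, 972, 732, 876, 828, 434, 378, 207, 144, 948, 804, 1044, 708, 1245, 1246, 1241, 1242, 1247, 1254, 1249, 1252, 1244, 1243, 1240, 1239, 1250, 1251, 1248, 1253],
[145, 1256, 1258, 209, 51, 1257, 1255, 949, 1268, 877, 1267, 247, 377, 434, 296, 1045, 1269, 973, 1270, 853, 781, 1266, 1265, 600, 1261, 571, 1262, 757, 685, 1263, 1264, 490, 1259, 461, 1260],
[829, 1284, 1278, 925, 572, 1272, 1282, 901, 1273, 210, 1283, 248, 733, 1021, 462, 997, 1279, 433, 1275, 709, 378, 1276, 1285, 489, 1280, 295, 1286, 805, 146, 1281, 1274, 599, 1271, 51, 1277],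
[1294, 1296, 998, 758, 1301, 1287, 656, 686, 1289, 145, 1295, 375, 1292, 782, 1300, 854, 546, 249, 902, 1291, 432, 926, 1297, 1299, 517, 298, 1298, 1293, 52, 627, 1288, 1302, 1290, 210, 1022],
[297, 52, 250, 655, 518, 628, 545, 1309, 1310, 1304, 1303, 1313, 1311, 1316, 1318, 950, 1046, 806, 710, 431, 146, 376, 209, 1308, 1307, 1306, 1305, 1312, 1314, 1317, 1315, 974, 878, 830, 734],
[1326, 777, 1332, 575, 1322, 875, 1330, 679, 251, 973, 463, 1320, 659, 1325, 175, 1328, 547, 1333, 403, 704, 1334, 267, 1324, 15, 802, 1321, 1329, 1327, 1046, 1323, 435, 1319, 948, 211, 1331],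
[924, 899, 212, 252, 1022, 997, 436, 703, 491, 801, 603, 680, 519, 778, 631, 15, 176, 268, 404, 1335, 1348, 1347, 1338, 1344, 1339, 1342, 1345, 1343, 1340, 1341, 1346, 1336, 1337, 1350, 1349],
[1359, 1360, 16, 437, 1362, 1361, 405, 900, 1356, 1021, 1357, 923, 1355, 998, 1358, 212, 175, 253, 269, 1351, 727, 752, 1352, 1363, 548, 576, 1366, 1364, 464, 660, 1365, 1354, 1353, 825, 850],
[1375, 1378, 438, 1376, 16, 406, 1377, 632, 1380, 1381, 492, 1368, 751, 728, 1367, 1374, 1371, 974, 947, 1373, 1045, 876, 1372, 1370, 826, 1369, 849, 604, 1382, 520, 1379, 176, 270, 211, 254],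
[1044, 1394, 1388, 1398, 1383, 549, 800, 1395, 577, 405, 1392, 1397, 1386, 213, 971, 268, 1390, 1396, 681, 1389, 1391, 877, 438, 775, 1384, 1393, 17, 706, 661, 950, 251, 1387, 177, 465, 1385],
[1410, 1406, 926, 776, 1400, 1412, 633, 267, 1404, 705, 1414, 17, 1409, 799, 1399, 252, 1020, 682, 521, 437, 1407, 1403, 995, 178, 1405, 1402, 605, 406, 1408, 1413, 493, 214, 901, 1401, 1411],
[1427, 925, 1417, 466, 1423, 729, 1420, 1019, 253, 823, 578, 1425, 662, 1430, 403, 1419, 550, 1415, 177, 902, 1416, 214, 1428, 436, 996, 1426, 1421, 1422, 848, 1429, 270, 1424, 754, 18, 1418],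
[178, 1431, 1433, 1432, 1434, 18, 213, 847, 1442, 1441, 824, 606, 634, 1437, 1438, 949, 1443, 1444, 878, 494, 522, 1435, 1436, 1043, 1446, 1445, 972, 254, 404, 269, 435, 753, 1440, 1439, 730],
[756, 1462, 1453, 1449, 1455, 994, 662, 1461, 83, 969, 1450, 683, 147, 1456, 1447, 1454, 179, 577, 1448, 379, 781, 1460, 1452, 1459, 407, 463, 1458, 854, 255, 548, 896, 1451, 323, 871, 1457],
[1478, 520, 1473, 1466, 970, 1467, 830, 491, 180, 1468, 1463, 1477, 83, 993, 1465, 1474, 148, 805, 1464, 408, 1475, 605, 1472, 634, 256, 732, 872, 1476, 380, 707, 1470, 1471, 324, 1469, 895],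
[147, 1487, 1488, 1489, 1490, 325, 409, 1484, 919, 1042, 1486, 1482, 1480, 853, 782, 492, 1492, 1493, 633, 1479, 1481, 684, 755, 519, 1491, 1494, 606, 180, 84, 381, 257, 1483, 944, 1017, 1485],
[578, 829, 920, 1496, 1501, 1506, 1508, 806, 148, 1505, 1498, 661, 179, 1502, 1497, 943, 84, 1507, 1495, 258, 464, 731, 1018, 708, 382, 1510, 1500, 547, 410, 1509, 1503, 1041, 326, 1504, 1499],
[181, 1518, 1517, 1516, 1515, 324, 381, 873, 1522, 1520, 992, 465, 550, 1513, 1512, 685, 1525, 1523, 852, 575, 660, 1514, 1511, 779, 1524, 1526, 758, 255, 410, 85, 149, 967, 1519, 1521, 898],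
[1529, 522, 1531, 734, 1535, 874, 1539, 632, 256, 968, 828, 1527, 150, 1536, 709, 1534, 382, 1541, 803, 182, 1528, 493, 1532, 603, 409, 1542, 1538, 1530, 85, 1540, 897, 1533, 323, 991, 1537],
[780, 1558, 1548, 1553, 1544, 521, 1015, 1555, 408, 604, 1552, 1546, 1554, 851, 149, 946, 1551, 1550, 326, 1556, 1549, 379, 757, 86, 1557, 1543, 1040, 921, 631, 686, 257, 1545, 494, 182, 1547],
[466, 407, 659, 258, 576, 181, 549, 86, 380, 325, 150, 922, 733, 1016, 827, 945, 804, 1039, 710, 1571, 1567, 1574, 1570, 1572, 1573, 1569, 1568, 1561, 1564, 1560, 1563, 1562, 1565, 1566, 1559],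
[53, 523, 551, 183, 119, 495, 467, 1335, 1479, 1367, 1463, 19, 87, 215, 151, 1319, 1495, 1351, 1447, 1079, 1111, 1223, 1239, 687, 927, 735, 879, 1063, 1095, 1207, 1191, 711, 951, 759, 903],
[1096, 1559, 1023, 579, 1271, 1352, 736, 1511, 184, 1320, 663, 1255, 607, 1064, 54, 688, 635, 975, 120, 1543, 1047, 88, 1080, 152, 1527, 1303, 712, 760, 1368, 1112, 19, 1287, 1336, 216, 999],
[976, 468, 783, 1512, 1065, 1383, 1192, 552, 185, 1415, 1560, 1000, 88, 1113, 1528, 855, 153, 1224, 1544, 121, 1024, 524, 831, 496, 53, 1208, 1097, 1048, 217, 1240, 1431, 807, 20, 1399, 1081],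
[1400, 636, 1480, 1082, 784, 1288, 928, 1304, 1114, 664, 54, 1384, 20, 808, 1066, 952, 1098, 1496, 87, 1432, 186, 1464, 608, 880, 832, 580, 122, 218, 1416, 1272, 904, 1256, 856, 1448, 154],
[1273, 929, 1417, 1561, 737, 1159, 469, 1545, 1143, 89, 953, 152, 1305, 1529, 713, 1513, 553, 185, 1385, 1289, 218, 1401, 905, 689, 525, 119, 881, 1257, 55, 497, 1127, 761, 1175, 21, 1433],
[1193, 609, 1160, 1049, 1434, 762, 1481, 665, 120, 714, 1001, 1386, 977, 1241, 217, 1497, 1025, 1144, 90, 581, 1128, 56, 1209, 186, 637, 1402, 1465, 1449, 690, 1225, 151, 1418, 738, 21, 1176],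
[1450, 1177, 1002, 857, 1290, 1353, 554, 1161, 22, 1369, 833, 1258, 785, 1482, 154, 498, 809, 1050, 121, 1129, 978, 90, 1466, 55, 1145, 1306, 526, 470, 1321, 1498, 183, 1274, 1337, 216, 1026],
[638, 122, 582, 666, 56, 610, 184, 954, 906, 810, 858, 1146, 1226, 1242, 1178, 1562, 1354, 1322, 1514, 930, 786, 882, 834, 89, 215, 22, 153, 1546, 1338, 1370, 1530, 1162, 1210, 1130, 1194],
[1099, 57, 1067, 271, 1179, 327, 1147, 123, 187, 383, 439, 739, 1355, 859, 1435, 691, 1323, 811, 1403, 467, 1211, 496, 1195, 525, 554, 1307, 1291, 931, 1499, 1051, 1547, 883, 1451, 1531, 1003],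
[1339, 1292, 1027, 1483, 526, 787, 1148, 1196, 384, 763, 1515, 1371, 188, 495, 1467, 955, 328, 1100, 1563, 440, 1419, 1212, 907, 1308, 57, 1180, 553, 1387, 272, 1068, 715, 979, 124, 835, 468],
[1052, 1243, 1388, 1083, 1564, 552, 812, 1227, 58, 523, 1115, 932, 329, 1484, 1163, 1340, 273, 692, 1131, 441, 884, 1259, 1372, 1275, 385, 740, 1468, 1004, 123, 860, 498, 1420, 188, 469, 1516],
[386, 716, 836, 274, 124, 788, 764, 1324, 1084, 1404, 1132, 442, 58, 187, 330, 1436, 1116, 1356, 1164, 1244, 1276, 1500, 1532, 956, 551, 908, 497, 1260, 1228, 1452, 1548, 980, 524, 1028, 470],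
[59, 1181, 1149, 271, 328, 1101, 1069, 1437, 741, 1357, 861, 442, 385, 189, 125, 1325, 813, 1405, 693, 1245, 1229, 637, 666, 981, 1469, 909, 1517, 1261, 1277, 608, 579, 957, 1565, 1029, 1485],
[1053, 126, 1005, 441, 885, 327, 933, 272, 386, 190, 59, 1389, 1246, 1373, 1262, 1341, 1278, 1421, 1230, 717, 665, 765, 607, 789, 837, 580, 638, 1150, 1501, 1102, 1549, 1070, 1533, 1453, 1182],
[1117, 635, 1309, 1534, 982, 1374, 742, 1550, 1342, 190, 610, 330, 1133, 1454, 910, 1502, 814, 383, 1213, 1085, 60, 1293, 664, 1030, 694, 125, 581, 1165, 273, 862, 1422, 958, 1390, 440, 1197],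
[790, 126, 838, 274, 718, 384, 766, 329, 439, 60, 189, 1086, 1406, 1134, 1326, 1166, 1358, 1118, 1438, 934, 636, 886, 582, 1054, 1006, 663, 609, 1486, 1294, 1518, 1198, 1566, 1214, 1310, 1470],
[1054, 127, 1005, 932, 331, 883, 443, 687, 737, 527, 471, 1087, 1567, 1487, 1167, 1343, 1279, 1231, 1423, 712, 667, 762, 611, 23, 155, 299, 411, 1327, 1311, 1199, 1439, 1071, 1535, 1183, 1455],
[1215, 711, 1471, 1344, 907, 1072, 499, 1328, 1088, 23, 688, 444, 1295, 1424, 1030, 1440, 639, 412, 1551, 1247, 156, 1503, 738, 956, 555, 128, 761, 1263, 300, 583, 1168, 981, 1184, 332, 1519],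
[612, 528, 413, 668, 127, 301, 472, 1296, 1151, 1119, 1248, 760, 1053, 1006, 714, 1520, 1504, 1359, 1391, 1552, 1375, 1407, 1472, 689, 931, 735, 884, 1264, 1103, 1216, 1135, 156, 333, 24, 445],
[1536, 414, 1488, 1456, 334, 1568, 155, 556, 584, 1360, 1392, 908, 1136, 1120, 982, 759, 1200, 1232, 690, 500, 1408, 640, 1376, 128, 302, 446, 24, 713, 1280, 1312, 736, 955, 1104, 1029, 1152],
[1233, 157, 1201, 1313, 299, 1281, 446, 1505, 1473, 808, 833, 1089, 529, 669, 1185, 958, 1377, 1393, 979, 1553, 783, 1521, 858, 332, 413, 25, 129, 1028, 1409, 1361, 909, 1169, 613, 1073, 473],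
[934, 130, 885, 1052, 331, 1003, 445, 557, 501, 807, 857, 1090, 1489, 1569, 1170, 1249, 1378, 1394, 1265, 641, 784, 585, 834, 300, 414, 25, 158, 1297, 1410, 1362, 1217, 1186, 1537, 1074, 1457],
[1458, 411, 1570, 1538, 334, 1490, 158, 1441, 1345, 530, 614, 980, 1137, 1121, 910, 1250, 810, 831, 1218, 1329, 474, 1425, 670, 444, 26, 129, 301, 1266, 785, 856, 1298, 957, 1153, 1027, 1105],
[1051, 886, 443, 1004, 130, 333, 933, 1138, 1522, 1474, 1122, 809, 558, 502, 855, 1346, 1426, 1282, 1234, 1330, 1314, 1202, 1442, 786, 586, 832, 642, 1154, 1506, 1106, 1554, 26, 412, 157, 302],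
[1475, 904, 1075, 1411, 613, 1283, 813, 219, 929, 1427, 1299, 1379, 528, 415, 1555, 1331, 691, 275, 1155, 879, 1123, 91, 1459, 954, 131, 862, 670, 1251, 740, 387, 1571, 1203, 471, 1171, 303],
[789, 388, 764, 276, 715, 132, 838, 91, 416, 304, 220, 1156, 1347, 1076, 1395, 1172, 1443, 1124, 1363, 1556, 1235, 1460, 1267, 1572, 1476, 1315, 1219, 930, 642, 880, 585, 953, 499, 556, 903],
[1107, 305, 1139, 277, 1187, 92, 1091, 131, 417, 389, 220, 739, 1364, 861, 1444, 692, 1396, 814, 1348, 472, 1220, 614, 1268, 527, 669, 1316, 1236, 927, 1507, 952, 1491, 881, 1523, 1539, 906],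
[1412, 1300, 928, 1492, 641, 790, 1092, 1204, 390, 763, 1524, 1380, 418, 500, 1540, 951, 92, 1108, 1508, 219, 1428, 1284, 905, 1252, 306, 1188, 555, 1332, 278, 1140, 716, 882, 132, 837, 586],
[1541, 1000, 1077, 1413, 501, 1221, 811, 1237, 1429, 1025, 221, 1493, 418, 640, 1381, 693, 1333, 1157, 275, 1525, 93, 1125, 975, 860, 558, 1050, 133, 389, 1509, 1317, 742, 1269, 583, 1173, 304],
[766, 1445, 1174, 1049, 611, 1205, 1494, 222, 1397, 976, 1253, 999, 668, 134, 717, 1026, 1510, 93, 1158, 1365, 1126, 276, 836, 1349, 417, 1542, 530, 1301, 1526, 390, 787, 1285, 473, 1078, 303],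
[1109, 1366, 741, 584, 1286, 1573, 1023, 1461, 557, 1398, 416, 1206, 502, 1141, 306, 694, 133, 977, 639, 859, 1446, 1189, 277, 1302, 1002, 222, 1350, 1557, 1048, 94, 1093, 387, 812, 1254, 1477],
[978, 835, 529, 1382, 1318, 1190, 1478, 278, 765, 1430, 1110, 221, 1047, 1334, 1270, 415, 612, 1414, 1558, 134, 1024, 788, 474, 388, 718, 1222, 1574, 94, 1001, 1142, 1462, 305, 667, 1238, 1094],
[887, 643, 839, 1310, 1442, 1114, 1476, 1293, 1080, 61, 671, 447, 1055, 1195, 1327, 1212, 1574, 391, 719, 1031, 355, 695, 475, 1344, 1557, 419, 503, 911, 95, 1459, 1063, 1425, 1097, 27, 863],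
[62, 531, 559, 587, 615, 356, 420, 696, 935, 983, 840, 1064, 1098, 1261, 1278, 1328, 1508, 1525, 1426, 1079, 1113, 1227, 1244, 1343, 1491, 1542, 1441, 27, 96, 392, 448, 720, 959, 1007, 864],
[1410, 1294, 936, 1082, 791, 644, 1492, 1309, 61, 672, 1112, 1393, 28, 815, 1065, 960, 96, 1507, 1095, 449, 1359, 1211, 1008, 1196, 393, 1526, 767, 1376, 421, 1541, 504, 984, 357, 476, 743],
[1228, 1558, 792, 1081, 532, 1032, 1409, 1573, 95, 1056, 1096, 1243, 62, 560, 1111, 816, 28, 1394, 1066, 394, 1262, 1460, 768, 1475, 422, 1375, 616, 1277, 450, 1360, 912, 744, 358, 888, 588],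
[29, 841, 865, 697, 721, 355, 392, 889, 645, 477, 1033, 1391, 1408, 1127, 1144, 1259, 1493, 1523, 1229, 1378, 1361, 1178, 1161, 1246, 1540, 1510, 1276, 450, 421, 97, 63, 1057, 505, 673, 913],
[1407, 422, 1377, 449, 1362, 29, 1392, 98, 391, 356, 64, 937, 1291, 1009, 1214, 961, 1197, 985, 1308, 1555, 533, 1478, 617, 1572, 1461, 589, 561, 1143, 698, 1128, 722, 1162, 866, 842, 1177],
[1230, 1462, 769, 674, 1176, 1423, 1010, 1571, 419, 1329, 478, 1146, 646, 1245, 63, 962, 506, 817, 357, 1556, 793, 394, 1260, 98, 1477, 1129, 986, 938, 1346, 1275, 448, 1159, 1440, 30, 745],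
[358, 64, 420, 590, 534, 618, 562, 1160, 1130, 1213, 1198, 746, 794, 1034, 890, 1424, 1330, 1509, 1524, 30, 393, 97, 447, 1175, 1145, 1307, 1292, 770, 818, 1058, 914, 1439, 1345, 1539, 1494],
[65, 1100, 1067, 279, 335, 1182, 1149, 1380, 771, 1430, 843, 223, 159, 423, 359, 1331, 699, 1413, 819, 1191, 1208, 504, 475, 963, 1488, 1035, 1570, 1242, 1225, 645, 674, 891, 1455, 1011, 1537],
[939, 360, 987, 224, 915, 336, 1059, 280, 160, 424, 65, 1364, 1207, 1347, 1226, 1446, 1241, 1397, 1192, 747, 476, 795, 646, 867, 723, 673, 503, 1099, 1504, 1150, 1554, 1181, 1471, 1521, 1068],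
[1060, 560, 820, 1083, 1569, 1240, 1398, 1223, 1116, 531, 66, 940, 337, 1487, 1166, 1348, 1133, 700, 281, 916, 361, 772, 618, 1363, 1456, 589, 425, 224, 988, 1193, 1445, 1210, 1538, 844, 159],
[160, 724, 748, 282, 362, 796, 868, 1332, 1084, 1414, 1134, 223, 66, 426, 338, 1379, 1115, 1429, 1165, 1239, 1209, 1503, 1472, 964, 559, 1012, 617, 1194, 1224, 1522, 1553, 892, 532, 1036, 590],
[1102, 67, 1069, 279, 1180, 336, 1147, 361, 426, 161, 225, 845, 1428, 773, 1382, 701, 1333, 821, 1411, 587, 1272, 616, 1255, 533, 562, 1306, 1289, 941, 1506, 1061, 1552, 989, 1519, 1473, 917],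
[67, 1148, 1179, 280, 335, 1070, 1101, 725, 1395, 797, 1349, 362, 425, 162, 226, 869, 1366, 749, 1444, 561, 534, 1305, 1290, 965, 1568, 1037, 1490, 615, 588, 1271, 1256, 1013, 1457, 893, 1535],
[1118, 1287, 672, 1520, 1014, 774, 1365, 1551, 702, 161, 1257, 338, 1131, 1474, 894, 1505, 1396, 424, 477, 1085, 68, 643, 1304, 1038, 1350, 226, 1274, 1164, 281, 1443, 846, 966, 822, 359, 506],
[798, 162, 870, 282, 726, 360, 750, 337, 423, 68, 225, 1086, 1412, 1132, 1334, 1163, 1381, 1117, 1427, 1489, 1288, 1458, 1258, 1567, 1536, 1303, 1273, 942, 644, 990, 478, 1062, 505, 671, 918],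
[841, 720, 395, 695, 363, 31, 866, 1319, 1088, 1071, 1336, 891, 647, 479, 1038, 1203, 1302, 1451, 1550, 1252, 1533, 1500, 1285, 964, 563, 1013, 619, 1370, 1186, 1353, 1169, 227, 307, 339, 191],
[1566, 192, 1517, 1484, 340, 1467, 396, 1335, 1369, 535, 507, 1087, 1062, 940, 1170, 696, 1269, 1236, 865, 1320, 675, 1354, 591, 31, 228, 308, 364, 719, 1318, 1219, 842, 1072, 989, 1185, 915],
[768, 793, 397, 743, 32, 365, 818, 648, 939, 990, 480, 1368, 1103, 1120, 1351, 1534, 1499, 1317, 1220, 1549, 1270, 1235, 1452, 1338, 1154, 1321, 1137, 620, 1061, 564, 916, 191, 341, 228, 309],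
[1518, 1483, 398, 1468, 342, 192, 1565, 1367, 508, 536, 1337, 892, 1138, 1119, 1014, 1251, 1286, 744, 817, 1204, 794, 767, 1301, 963, 1104, 1037, 1153, 1322, 592, 1352, 676, 227, 310, 366, 32],
[1486, 193, 1469, 1564, 340, 1515, 398, 565, 481, 1383, 1417, 1090, 942, 1060, 1167, 1254, 745, 816, 1283, 649, 1400, 621, 1434, 307, 365, 33, 229, 1300, 791, 770, 1205, 1184, 987, 1073, 917],
[537, 893, 746, 1316, 1183, 1433, 1531, 966, 230, 1384, 1267, 1089, 1238, 677, 308, 1502, 1221, 815, 397, 1036, 792, 366, 593, 339, 1011, 1074, 1453, 1548, 1399, 509, 194, 1168, 1418, 33, 769],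
[1470, 1563, 396, 1516, 342, 193, 1485, 566, 1385, 1415, 482, 1012, 1135, 1122, 894, 864, 697, 1237, 1268, 722, 1222, 1315, 839, 965, 1152, 1035, 1105, 622, 1402, 650, 1432, 363, 34, 230, 309],
[510, 538, 194, 594, 310, 364, 678, 698, 941, 988, 840, 1206, 1106, 1136, 1284, 1454, 1501, 1386, 1416, 1547, 1431, 1401, 1532, 1299, 1151, 1253, 1121, 863, 1059, 721, 918, 395, 341, 229, 34],
[1481, 1438, 621, 1058, 1174, 1199, 772, 1314, 887, 1323, 451, 1157, 1033, 1498, 99, 564, 367, 821, 912, 650, 1405, 1464, 195, 1124, 846, 283, 1356, 1232, 699, 163, 1447, 311, 479, 1075, 1281],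
[164, 797, 870, 284, 368, 723, 748, 1339, 1158, 1389, 1076, 196, 99, 452, 312, 1372, 1173, 1422, 1123, 1482, 1448, 1298, 1265, 536, 1034, 593, 888, 1463, 1497, 1215, 1248, 507, 1057, 678, 911],
[535, 313, 677, 594, 369, 508, 196, 1282, 1200, 1108, 1141, 845, 985, 935, 700, 1496, 1390, 1421, 1449, 1313, 1190, 1231, 1091, 163, 453, 285, 100, 1466, 1371, 1340, 1479, 822, 960, 771, 1010],
[1406, 649, 1480, 936, 1297, 798, 1092, 986, 747, 370, 480, 454, 1355, 1009, 1216, 959, 1107, 100, 1495, 1437, 195, 1465, 622, 1247, 1189, 314, 563, 1324, 286, 1142, 724, 1266, 869, 164, 1450],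
[844, 1250, 1528, 983, 538, 1436, 1126, 962, 1325, 454, 1263, 369, 701, 937, 591, 1008, 1077, 101, 1511, 819, 165, 1562, 1217, 676, 1155, 312, 1296, 774, 283, 1172, 1358, 509, 1403, 197, 1545],
[166, 311, 453, 1312, 1279, 1234, 1201, 648, 566, 1125, 1156, 1527, 1561, 750, 725, 1374, 1387, 984, 961, 198, 101, 370, 284, 619, 481, 1078, 1171, 1546, 1512, 795, 868, 1341, 1420, 1007, 938],
[102, 1188, 1139, 285, 314, 1110, 1093, 1419, 773, 1373, 843, 452, 367, 198, 165, 1342, 820, 1388, 702, 914, 889, 1513, 1530, 1295, 565, 1249, 647, 1031, 1056, 1560, 1543, 1218, 620, 1264, 482],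
[1326, 1559, 675, 1055, 1311, 1094, 726, 1544, 102, 1109, 1032, 1435, 451, 1202, 890, 510, 368, 867, 913, 197, 1357, 1514, 592, 1529, 166, 749, 1280, 1404, 286, 796, 1140, 537, 313, 1187, 1233]]

end Cfsg.Lib.OEightTwo
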