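import Cfsg.Agent.OEightTwo.Tensor

/-!
Kernel checks for the dual vector.
-/

set_option autoImplicit false
set_option maxRecDepth 100000

namespace Cfsg.Lib.OEightTwo

open Cfsg.Lib.ConwayType.Code (qB pB)

/-- The pure members of the standard subspace other than the first. -/
def aList : List ℕ := (List.range 256).filter fun x => pureB x && inU x && x != 1

/-- The other two coordinates. -/
def oth (k : Fin 3) : List (Fin 3) := ([0, 1, 2] : List (Fin 3)).filter fun l => l != k

/-- The conditions on a triple. -/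
def okA (a : Fin 3 → ℕ) : Bool :=
  ([0, 1, 2] : List (Fin 3)).all fun k => (oth k).all fun l => a k != a l && !pureB (a k ^^^ a l)

/-- The candidates for the image of an involution of a coordinate. -/
def vList (a : Fin 3 → ℕ) (k : Fin 3) : List ℕ :=
  (List.range 256).filter fun v => pureB v && !inU v && !pB v 1 && pB v (a k) &&
    (oth k).all fun l => !pB v (a l) && pureB (v ^^^ a l)

/-- The dual vector of a triple. -/
def betaOf (a : Fin 3 → ℕ) : ℕ :=
  ((List.range 256).find? fun x => pureB x && pB x 1 &&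
    ([0, 1, 2] : List (Fin 3)).all fun l => !pB x (a l)).getD 0

/-- The checks for a triple. -/
def okBeta (a : Fin 3 → ℕ) : Bool :=
  let β := betaOf a
  pureB β && decide (β < 256) && pB β 1 && (([0, 1, 2] : List (Fin 3)).all fun k =>
    !pB β (a k) && !pureB (β ^^^ a k) && (vList a k).all fun v => !pB β v && qB (v ^^^ 1 ^^^ β))

/-- The checks for a triple and images of involutions. -/
def okFrame (a v : Fin 3 → ℕ) (x : ℕ) : Bool :=
  ([0, 1, 2] : List (Fin 3)).all fun k =>
    (!(!pB x 1 && ([0, 1, 2] : List (Fin 3)).all (fun l => pB x (a l) == (l == k) && !pB x (v l))) ||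
      x == v k || x == v k ^^^ 1) &&
    (!(!qB x && pB x 1 && ([0, 1, 2] : List (Fin 3)).all (fun l => !pB x (a l)) && (oth k).all (fun l => !pB x (v l))) ||
      x == betaOf a || x == betaOf a ^^^ a k)

theorem beta_ok : (aList.all fun a0 => aList.all fun a1 => aList.all fun a2 =>
    !okA ![a0, a1, a2] || (okBeta ![a0, a1, a2] &&
      (vList ![a0, a1, a2] 0).all fun v0 => (vList ![a0, a1, a2] 1).all fun v1 => (vList ![a0, a1, a2] 2).all fun v2 =>
        (List.range 256).all fun x => okFrame ![a0, a1, a2] ![v0, v1, v2] x)) = true := by decide +kernel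

theorem mem_oth {k l : Fin 3} : l ∈ oth k ↔ l ≠ k := by
  revert k l; decide

theorem dual_vector {a v : Fin 3 → ℕ} (ha : ∀ k, a k < 256 ∧ pureB (a k) = true ∧ inU (a k) = true ∧ a k ≠ 1)
    (hpair : ∀ k l, k ≠ l → a k ≠ a l ∧ pureB (a k ^^^ a l) = false)
    (hv : ∀ k, v k < 256 ∧ pureB (v k) = true ∧ inU (v k) = false ∧ pB (v k) 1 = false ∧ pB (v k) (a k) = true ∧
      ∀ l, l ≠ k → pB (v k) (a l) = false ∧ pureB (v k ^^^ a l) = true) :
    ∃ β, β < 256 ∧ pureB β = true ∧ pB β 1 = true ∧ (∀ k, pB β (a k) = false ∧ pureB (β ^^^ a k) = false ∧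
      pB β (v k) = false ∧ qB (v k ^^^ 1 ^^^ β) = true) ∧
      ∀ k, ∀ x < 256, (pB x 1 = false → (∀ l, pB x (a l) = (l == k) ∧ pB x (v l) = false) →
          x = v k ∨ x = v k ^^^ 1) ∧
        (qB x = false → pB x 1 = true → (∀ l, pB x (a l) = false) → (∀ l, l ≠ k → pB x (v l) = false) →
          x = β ∨ x = β ^^^ a k) := by
  have h3 : ∀ c : Fin 3 → ℕ, c = ![c 0, c 1, c 2] := fun c => by funext i; fin_cases i <;> rfl
  have haL : ∀ k, a k ∈ aList := fun k => by
    obtain ⟨h1, h2, h3, h4⟩ := ha k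
    simp [aList, h1, h2, h3, h4]
  have hvL : ∀ k, v k ∈ vList a k := fun k => by
    obtain ⟨h1, h2, h3, h4, h5, h6⟩ := hv k
    simp only [vList, List.mem_filter, List.mem_range, h1, h2, h3, h4, h5, Bool.and_self, Bool.not_false, true_and, Bool.true_and,
      List.all_eq_true]
    intro l hl
    simp [h6 l (mem_oth.1 hl)]
  have hA : okA a = true := by
    simp only [okA, List.all_eq_true]
    intro k _ l hl
    simp [hpair k l (mem_oth.1 hl).symm]
  have h := List.all_eq_true.1 (List.all_eq_true.1 (List.all_eq_true.1 beta_ok _ (haL 0)) _ (haL 1)) _ (haL 2)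
  rw [← h3 a, hA, Bool.not_true, Bool.false_or, Bool.and_eq_true] at h
  obtain ⟨hB, hF⟩ := h
  simp only [okBeta, Bool.and_eq_true, decide_eq_true_eq, List.all_eq_true, Bool.not_eq_true'] at hB
  refine ⟨betaOf a, hB.1.1.2, hB.1.1.1, hB.1.2, fun k => ?_, fun k x hx => ?_⟩
  · obtain ⟨⟨e1, e2⟩, e3⟩ := hB.2 k (by fin_cases k <;> simp)
    exact ⟨e1, e2, (e3 _ (hvL k)).1, (e3 _ (hvL k)).2⟩
  · have h := List.all_eq_true.1 (List.all_eq_true.1 (List.all_eq_true.1 (List.all_eq_true.1 hF _ (hvL 0)) _ (hvL 1))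
      _ (hvL 2)) x (List.mem_range.2 hx)
    rw [← h3 v] at h
    simp only [okFrame, List.all_eq_true, Bool.and_eq_true, Bool.or_eq_true, beq_iff_eq] at h
    obtain ⟨f1, f2⟩ := h k (by fin_cases k <;> simp)
    refine ⟨fun h1 h2 => ?_, fun h1 h2 h3 h4 => ?_⟩
    · rcases f1 with (f1 | f1) | f1
      · exfalso
        simp [h1, fun l => (h2 l).1, fun l => (h2 l).2] at f1
      · exact Or.inl f1
      · exact Or.inr f1
    · rcases f2 with (f2 | f2) | f2
      · exfalso
        simp [h1, h2, h3] at f2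
        obtain ⟨l, hl, hl'⟩ := f2
        rw [h4 l (mem_oth.1 hl)] at hl'
        exact Bool.false_ne_true hl'
      · exact Or.inl f2
      · exact Or.inr f2

end Cfsg.Lib.OEightTwo
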