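import Cfsg.Agent.OEightTwo.Natural

/-!
Coordinates for the extraspecial group.
-/

set_option autoImplicit false
set_option linter.style.haveILetI false
set_option linter.unusedSectionVars false

open Module Subgroup Cfsg.Lib.LargeExtra Cfsg.Lib.LargeExtra.EightSmith
open Cfsg.Lib.ConwayType.Code (qB pB)
open Cfsg.Lib.Classical.OrthH1 (pN)

namespace Cfsg.Lib.OEightTwo

universe u w

variable {G : Type u} {V : Type w} [Group G] [Finite G] [AddCommGroup V]
  [Module (ZMod 2) V] [Finite V] {q : QuadraticForm (ZMod 2) V}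

/-- Coordinates on `Q` adapted to a conjugate of the centre in `Q`. -/
structure Frame (C : Ctx G q) where
  g : G
  P : G → ℕ
  gQ : g * C.z * g⁻¹ ∈ C.Q
  gne : g * C.z * g⁻¹ ≠ C.z
  lt : ∀ x, P x < 256
  P_u : P (g * C.z * g⁻¹) = 1
  P_mul : ∀ x ∈ C.Q, ∀ y ∈ C.Q, P (x * y) = P x ^^^ P y
  P_ker : ∀ x ∈ C.Q, P x = 0 ↔ x = 1 ∨ x = C.z
  P_surj : ∀ n < 256, ∃ x ∈ C.Q, P x = n
  P_sq : ∀ x ∈ C.Q, qB (P x) = false ↔ x * x = 1
  P_comm : ∀ x ∈ C.Q, ∀ y ∈ C.Q, pB (P x) (P y) = false ↔ Commute x y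
  P_conj : ∀ m, Commute m C.z → ∀ x ∈ C.Q, P (m * x * m⁻¹) = act (C.μ m) (P x)
  mem_inter : ∀ x ∈ C.Q, x ∈ C.cQ g ↔ inU (P x) = true
  lift : ∀ r ∈ sylS, ∃ b ∈ C.cQ g, Commute b C.z ∧ C.μ b = r
  cl : ∀ x ∈ C.Q, x ≠ C.z → (C.Cl x ↔ pureB (P x) = true)

theorem exists_stab_prod : ∀ r : RS, (∀ k, r k 0 = 0) → ∀ k, r k = 1 ∨ r k = tau := by
  intro r hr k
  exact (show ∀ σ : Equiv.Perm (Fin 3), σ 0 = 0 → σ = 1 ∨ σ = tau by decide +kernel) (r k) (hr k)

theorem inU_iff : ∀ x : Fin 256, inU x = true ↔ ∀ i : Fin 8, (x : ℕ).testBit i = true → i = 0 ∨ i = 1 ∨ i = 2 ∨ i = 7 := by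
  decide +kernel

theorem inU_count : Fintype.card {x : Fin 256 // inU x = true} = 16 := by decide +kernel

theorem opp_eps : ∀ i : Fin 8, ∀ j : Fin 8, (∀ k, eps i k ≠ eps j k) →
    ∃ r : RS, (fun k => r k (eps 0 k)) = eps i ∧ (fun k => r k (eps 4 k)) = eps j := by decide +kernel

theorem agree_move : ∀ p p' : Fin 3 → Fin 3, (∃ k, p k = p' k) → ∃ r : RS,
    (∃ k, ∀ l, l ≠ k → r l (p l) = 0) ∧ (∃ k, ∀ l, l ≠ k → r l (p' l) = 0) := by
  intro p p' ⟨j, hj⟩
  obtain ⟨l, m, hl, hm, hlm⟩ := (show ∀ j : Fin 3, ∃ l m : Fin 3, l ≠ j ∧ m ≠ j ∧ l ≠ m by decide) j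
  have hc : ∀ a : Fin 3, ∃ σ : Equiv.Perm (Fin 3), σ a = 0 := by decide
  choose c hc using hc
  refine ⟨fun i => c (if i = m then p' i else p i), ⟨m, fun i hi => by simp only [if_neg hi]; exact hc _⟩, ⟨l, fun i hi => ?_⟩⟩
  by_cases him : i = m
  · subst him; simp only [if_true]; exact hc _
  · obtain rfl := (show ∀ i j l m : Fin 3, i ≠ l → i ≠ m → l ≠ j → m ≠ j → l ≠ m → i = j by decide)
      i j l m hi him hl hm hlm
    simp only [if_neg him, ← hj]; exact hc _

theorem Ctx.exists_frame (C : Ctx G q) {g₀ : G} (hgQ₀ : g₀ * C.z * g₀⁻¹ ∈ C.Q) (hne₀ : g₀ * C.z * g₀⁻¹ ≠ C.z) :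
    Nonempty (Frame C) := by
  classical
  obtain ⟨g, hgQ, hne, hfix, hlift, hdual⟩ := C.exists_fixed_pure hgQ₀ hne₀
  set u := g * C.z * g⁻¹ with hu
  set ū := C.π u with hū
  have hu1 : u ≠ 1 := (C.x2' g).ne
  have hū0 : ū ≠ 0 := fun h0 => by
    rcases C.eq_cases hgQ h0 with e | e
    exacts [hu1 e, hne e]
  choose wel hwel hwd using hdual
  have hproj := proj_fixed_eq_zero C.ρ C.dim C.ρ_inj hfix (fun k => C.π (wel k)) hwd
  have hstab : ∀ r, (∀ k, r k 0 = 0) → C.ρ r ū = ū := by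
    intro r hr
    obtain ⟨b, hb, hbz, rfl⟩ := hlift r hr
    rw [hū, C.ρ_π b hbz _ hgQ, ((C.x2' g).central b hb).eq, mul_inv_cancel_right]
  -- pure tensors
  let rp : (Fin 3 → Fin 3) → RS := fun p k => cyc ^ (p k : ℕ)
  let t : (Fin 3 → Fin 3) → V := fun p => C.ρ (rp p) ū
  have hrp : ∀ (r : RS) p, C.ρ r (t p) = t (fun k => r k (p k)) := by
    intro r p
    show C.ρ r (C.ρ (rp p) ū) = C.ρ (rp fun k => r k (p k)) ū
    rw [← LinearEquiv.mul_apply, ← map_mul]
    conv_rhs => rw [← hstab ((rp fun k => r k (p k))⁻¹ * (r * rp p)) (fun k => by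
      show ((cyc ^ ((r k (p k) : Fin 3) : ℕ))⁻¹ * (r k * cyc ^ (p k : ℕ))) 0 = 0
      rw [Equiv.Perm.mul_apply, Equiv.Perm.mul_apply, cyc_facts.1, Equiv.Perm.inv_eq_iff_eq, cyc_facts.1])]
    rw [← LinearEquiv.mul_apply, ← map_mul, mul_inv_cancel_left]
  have ht0 : t (fun _ => 0) = ū := by
    show C.ρ (rp fun _ => 0) ū = ū
    rw [show rp (fun _ => 0) = 1 from funext fun k => rfl, map_one]; rfl
  have hline : ∀ k p, p k = 2 → t p = t (Function.update p k 0) + t (Function.update p k 1) := by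
    intro k p hp
    have h := congrArg (C.ρ (rp (Function.update p k 0))) (hproj k)
    rw [map_zero, proj_apply, map_add, map_add] at h
    simp only [← LinearEquiv.mul_apply, ← map_mul] at h
    have hx : ∀ (i : Fin 3) (r : RS), r = rp (Function.update p k 0) * (Pi.mulSingle k (cyc ^ (i : ℕ)) : RS) →
        C.ρ r ū = t (Function.update p k i) := by
      intro i r hr
      show _ = C.ρ (rp (Function.update p k i)) ū
      rw [hr]
      congr 2
      funext l
      show cyc ^ ((Function.update p k 0 l : Fin 3) : ℕ) * (Pi.mulSingle k (cyc ^ (i : ℕ)) : RS) l =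
        cyc ^ ((Function.update p k i l : Fin 3) : ℕ)
      by_cases hl : l = k
      · subst hl; simp
      · rw [Function.update_of_ne hl, Function.update_of_ne hl, Pi.mulSingle_eq_of_ne hl, mul_one]
    rw [hx 0 _ (by simp), hx 1 _ (by simp [xR]), hx 2 _ (by
      rw [xR, ← Pi.mulSingle_mul]; rfl)] at h
    rw [show t p = t (Function.update p k 2) by rw [← hp, Function.update_eq_self]]
    exact (add_eq_zero_iff'.mp h).symm
  -- the coordinates
  let e : Fin 8 → V := fun i => t (eps i)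
  let φ : ℕ → V := fun x => ∑ i : Fin 8, if x.testBit i then e i else 0
  have hφ0 : φ 0 = 0 := by simp [φ]
  have hφadd : ∀ x y, φ (x ^^^ y) = φ x + φ y := by
    intro x y
    rw [← Finset.sum_add_distrib]
    refine Finset.sum_congr rfl fun i _ => ?_
    rw [Nat.testBit_xor]
    cases x.testBit i <;> cases y.testBit i <;> simp [add_self']
  have hφpow : ∀ i : Fin 8, φ (2 ^ (i : ℕ)) = e i := fun i => by
    show ∑ j : Fin 8, _ = _
    rw [Finset.sum_eq_single i (fun j _ hj => if_neg ?_) (by simp), if_pos Nat.testBit_two_pow_self]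
    rw [Nat.testBit_two_pow]
    simpa [Fin.val_inj] using hj.symm
  have hstep : ∀ k : Fin 3, (∀ p : Fin 3 → Fin 3, (∀ l, l ≤ k → p l ≠ 2) → φ (pureC p) = t p) →
      ∀ p : Fin 3 → Fin 3, (∀ l, l < k → p l ≠ 2) → φ (pureC p) = t p := by
    intro k h p hp
    by_cases h2 : p k = 2
    swap
    · exact h p fun l hl => (lt_or_eq_of_le hl).elim (hp l) (fun e => e ▸ h2)
    rw [pureC_two k p h2, hφadd, hline k p h2, h _ ?_, h _ ?_]
    all_goals
      intro l hl
      by_cases hlk : l = k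
      · subst hlk; simp
      · rw [Function.update_of_ne hlk]; exact hp l (lt_of_le_of_ne hl hlk)
  have hbase : ∀ p : Fin 3 → Fin 3, (∀ l : Fin 3, p l ≠ 2) → φ (pureC p) = t p := by
    intro p hp
    obtain ⟨i, rfl⟩ := eps_surj p hp
    rw [pureC_eps, hφpow]
  have hpure : ∀ p, φ (pureC p) = t p := by
    have h2 := hstep 2 fun p hp => hbase p fun l => hp l (by fin_cases l <;> decide)
    have h1 := hstep 1 fun p hp => h2 p fun l hl => hp l (by revert hl; fin_cases l <;> decide)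
    have h0 := hstep 0 fun p hp => h1 p fun l hl => hp l (by revert hl; fin_cases l <;> decide)
    exact fun p => h0 p fun l hl => absurd hl (by fin_cases l <;> decide)
  have hφlist : ∀ (l : List ℕ) (f : ℕ → ℕ), φ (l.foldr (fun i s => f i ^^^ s) 0) = (l.map fun i => φ (f i)).sum := by
    intro l f
    induction l with
    | nil => exact hφ0
    | cons a l ih => rw [List.foldr_cons, hφadd, ih, List.map_cons, List.sum_cons]
  have hact : ∀ (r : RS) (x : ℕ), φ (act r x) = C.ρ r (φ x) := by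
    intro r x
    have hterm : ∀ i : Fin 8, φ (bif x.testBit (i : ℕ) then pureC (fun k => r k (eps i k)) else 0) =
        C.ρ r (if x.testBit i then e i else 0) := fun i => by
      cases x.testBit (i : ℕ)
      · simp [hφ0]
      · simp [hpure, e, hrp]
    have hs : ∀ F : ℕ → V, ((List.range 8).map F).sum = ∑ i : Fin 8, F i := fun F => by
      rw [← Fin.sum_univ_getElem]
      rfl
    rw [act, hφlist, map_sum, hs]
    exact Finset.sum_congr rfl fun i _ => hterm i
  -- bijectivity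
  let R : Submodule (ZMod 2) V :=
    { carrier := {v | ∃ x < 256, φ x = v}
      zero_mem' := ⟨0, by norm_num, hφ0⟩
      add_mem' := by
        rintro _ _ ⟨a, ha, rfl⟩ ⟨b, hb, rfl⟩
        exact ⟨a ^^^ b, Nat.xor_lt_two_pow (n := 8) ha hb, hφadd a b⟩
      smul_mem' := by
        rintro c _ ⟨a, ha, rfl⟩
        rcases zmod2_cases c with rfl | rfl
        · rw [zero_smul]; exact ⟨0, by norm_num, hφ0⟩
        · rw [one_smul]; exact ⟨a, ha, rfl⟩ }
  have hRtop : R = ⊤ := by
    let U0 : Submodule (ZMod 2) V := Submodule.span (ZMod 2) {ū}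
    let U1 : Submodule (ZMod 2) V := U0 ⊔ U0.map (C.ρ (xR 0)).toLinearMap
    let U2 : Submodule (ZMod 2) V := U1 ⊔ U1.map (C.ρ (xR 1)).toLinearMap
    let U3 : Submodule (ZMod 2) V := U2 ⊔ U2.map (C.ρ (xR 2)).toLinearMap
    have hprop : ∀ (k : Fin 3) (U : Submodule (ZMod 2) V) (S : Fin 3 → Prop),
        (∀ v ∈ U, ∀ l, S l → C.ρ (iR l) v = v ∧ proj C.ρ l v = 0) →
        ∀ v ∈ U ⊔ U.map (C.ρ (xR k)).toLinearMap, ∀ l, S l → l ≠ k → C.ρ (iR l) v = v ∧ proj C.ρ l v = 0 := by
      intro k U S h v hv l hl hlk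
      obtain ⟨a, ha, b, ⟨c, hc, rfl⟩, rfl⟩ := Submodule.mem_sup.mp hv
      refine ⟨?_, ?_⟩
      · rw [map_add, LinearEquiv.coe_coe, i_x_comm C.ρ hlk, (h a ha l hl).1, (h c hc l hl).1]
      · rw [map_add, LinearEquiv.coe_coe, proj_x, (h a ha l hl).2, (h c hc l hl).2, map_zero, add_zero]
    have h0 : ∀ v ∈ U0, ∀ l, True → C.ρ (iR l) v = v ∧ proj C.ρ l v = 0 := by
      intro v hv l _
      obtain ⟨c, rfl⟩ := Submodule.mem_span_singleton.mp hv
      rw [map_smul, map_smul, hfix, hproj, smul_zero]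
      exact ⟨rfl, rfl⟩
    have h1 : ∀ v ∈ U1, ∀ l : Fin 3, l ≠ 0 → C.ρ (iR l) v = v ∧ proj C.ρ l v = 0 :=
      fun v hv l hl => hprop 0 U0 _ h0 v hv l trivial hl
    have h2 : ∀ v ∈ U2, ∀ l : Fin 3, l ≠ 0 → l ≠ 1 → C.ρ (iR l) v = v ∧ proj C.ρ l v = 0 :=
      fun v hv l hl hl' => hprop 1 U1 _ h1 v hv l hl hl'
    have d0 : finrank (ZMod 2) U0 = 1 := finrank_span_singleton hū0
    have d1 : finrank (ZMod 2) U1 = 2 * finrank (ZMod 2) U0 :=
      double C.ρ (fun v hv => (h0 v hv 0 trivial).1) (fun v hv => (h0 v hv 0 trivial).2)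
    have d2 : finrank (ZMod 2) U2 = 2 * finrank (ZMod 2) U1 :=
      double C.ρ (fun v hv => (h1 v hv 1 (by decide)).1) (fun v hv => (h1 v hv 1 (by decide)).2)
    have d3 : finrank (ZMod 2) U3 = 2 * finrank (ZMod 2) U2 :=
      double C.ρ (fun v hv => (h2 v hv 2 (by decide) (by decide)).1)
        (fun v hv => (h2 v hv 2 (by decide) (by decide)).2)
    have hinv : ∀ (r : RS), R.map (C.ρ r).toLinearMap ≤ R := by
      rintro r _ ⟨_, ⟨x, -, rfl⟩, rfl⟩
      exact ⟨act r x, act_lt r x, hact r x⟩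
    have hstep' : ∀ (r : RS) (U : Submodule (ZMod 2) V), U ≤ R → U ⊔ U.map (C.ρ r).toLinearMap ≤ R :=
      fun r U h => sup_le h ((Submodule.map_mono h).trans (hinv r))
    have hU0 : U0 ≤ R := (Submodule.span_singleton_le_iff_mem ū R).mpr
      ⟨1, by norm_num, by rw [show (1 : ℕ) = 2 ^ ((0 : Fin 8) : ℕ) from rfl, hφpow, ← ht0]; exact congrArg t (by decide)⟩
    refine Submodule.eq_top_of_finrank_eq (le_antisymm (Submodule.finrank_le R) ?_)
    have := Submodule.finrank_mono (hstep' (xR 2) _ (hstep' (xR 1) _ (hstep' (xR 0) _ hU0)) : U3 ≤ R)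
    rw [C.dim]
    change finrank (ZMod 2) U3 ≤ _ at this
    omega
  have hbij : Function.Bijective fun x : Fin 256 => φ x := by
    refine (Nat.bijective_iff_surjective_and_card _).mpr ⟨fun v => ?_, ?_⟩
    · obtain ⟨x, hx, rfl⟩ := (hRtop ▸ Submodule.mem_top : v ∈ R)
      exact ⟨⟨x, hx⟩, rfl⟩
    · rw [Module.natCard_eq_pow_finrank (K := ZMod 2) (V := V), C.dim, Nat.card_zmod]; simp
  have hinjφ : ∀ x < 256, ∀ y < 256, φ x = φ y → x = y := fun x hx y hy h =>
    congrArg Fin.val (hbij.injective (a₁ := ⟨x, hx⟩) (a₂ := ⟨y, hy⟩) h)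
  let code : V → Fin 256 := (Equiv.ofBijective _ hbij).symm
  have hcode : ∀ v, φ (code v) = v := fun v => (Equiv.ofBijective _ hbij).apply_symm_apply v
  have hcodeφ : ∀ x < 256, (code (φ x) : ℕ) = x := fun x hx => hinjφ _ (code _).2 x hx (hcode _)
  -- the form
  have hwk : ∀ k : Fin 3, C.π (wel k) = t (Function.update (fun _ => 0) k 1) ∨
      C.π (wel k) = t (Function.update (fun _ => 0) k 2) := by
    intro k
    set x := (code (C.π (wel k)) : ℕ)
    have hx := hcode (C.π (wel k))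
    have hcl : ∀ l, act (iR l) x = bif k == l then x ^^^ 1 else x := by
      intro l
      refine hinjφ _ (act_lt _ _) _ ?_ ?_
      · cases k == l
        · exact (code _).2
        · exact Nat.xor_lt_two_pow (n := 8) (code _).2 (by norm_num)
      · rw [hact, hx, hwd]
        by_cases hkl : l = k
        · subst hkl
          rw [if_pos rfl, beq_self_eq_true, cond_true, hφadd, hx,
            show (1 : ℕ) = 2 ^ ((0 : Fin 8) : ℕ) from rfl, hφpow, ← ht0]
          exact congrArg (_ + t ·) (by decide)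
        · rw [if_neg hkl, beq_false_of_ne (Ne.symm hkl), cond_false, hx]
    have h := List.all_eq_true.1 wdual x (List.mem_range.2 (code _).2)
    rw [List.all_eq_true] at h
    have h' := h k (by fin_cases k <;> simp)
    rw [Bool.or_eq_true, Bool.not_eq_true', ← Bool.not_eq_true, List.all_eq_true] at h'
    rcases h'.resolve_left (fun h' => h' fun l _ => by rw [hcl l]; exact beq_self_eq_true _) with hh
    rw [Bool.or_eq_true, beq_iff_eq, beq_iff_eq] at hh
    have he : ∀ k : Fin 3, pureC (Function.update (fun _ => 0) k 1) = [2, 4, 128].getD k 0 ∧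
        pureC (Function.update (fun _ => 0) k 2) = [3, 5, 129].getD k 0 := by decide +kernel
    rcases hh with e' | e'
    · left; rw [← hpure, (he k).1, e']; exact hx.symm
    · right; rw [← hpure, (he k).2, e']; exact hx.symm
  obtain ⟨hWel, hWcard, -, -⟩ := C.pair_data hgQ hne
  let IW := C.im (C.Q ⊓ C.cQ g) hWel.le
  have hisoW : ∀ a ∈ IW, ∀ b ∈ IW, q.polarBilin a b = 0 := QS.B_of_ts hWel.singular
  have htW : ∀ p : Fin 3 → Fin 3, (∃ k, ∀ l, l ≠ k → p l = 0) → t p ∈ IW := by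
    rintro p ⟨k, hk⟩
    have hp : p = Function.update (fun _ => 0) k (p k) := funext fun l => by
      by_cases h : l = k
      · subst h; simp
      · rw [Function.update_of_ne h]; exact hk l h
    have hu0 : ū ∈ IW := ⟨u, Subgroup.mem_inf.mpr ⟨hgQ, (C.x2' g).mem⟩, rfl⟩
    have h1 : t (Function.update (fun _ => 0) k 1) ∈ IW ∧ t (Function.update (fun _ => 0) k 2) ∈ IW := by
      have hl := hline k (Function.update (fun _ => 0) k 2) (by simp)
      rw [Function.update_idem, Function.update_idem] at hl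
      rw [show Function.update (fun _ : Fin 3 => (0 : Fin 3)) k 0 = fun _ => 0 by simp, ht0] at hl
      have hwI : C.π (wel k) ∈ IW := ⟨wel k, hwel k, rfl⟩
      rcases hwk k with e' | e' <;> rw [e'] at hwI
      · exact ⟨hwI, hl ▸ add_mem hu0 hwI⟩
      · refine ⟨?_, hwI⟩
        have := add_mem hu0 hwI
        rwa [hl, add_add_cancel'] at this
    rw [hp]
    rcases (show p k = 0 ∨ p k = 1 ∨ p k = 2 by omega) with e' | e' | e' <;> rw [e']
    · rw [show Function.update (fun _ : Fin 3 => (0 : Fin 3)) k 0 = fun _ => 0 by simp, ht0]; exact hu0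
    exacts [h1.1, h1.2]
  have hB0 : ∀ p p' : Fin 3 → Fin 3, (∃ k, p k = p' k) → q.polarBilin (t p) (t p') = 0 := by
    intro p p' h
    obtain ⟨r, hr, hr'⟩ := agree_move p p' h
    rw [← (C.ρ_iso r).B, hrp, hrp]
    exact hisoW _ (htW _ hr) _ (htW _ hr')
  have hB04 : q.polarBilin (e 0) (e 4) = 1 := by
    refine (zmod2_cases _).resolve_left fun h0 => hū0 (C.S.eq_zero fun v => ?_)
    rw [← hcode v, ← ht0, show (fun _ => 0 : Fin 3 → Fin 3) = eps 0 by decide, map_sum, LinearMap.sum_apply]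
    refine Finset.sum_eq_zero fun i _ => ?_
    split_ifs
    · by_cases hi : ∀ k, eps (i : ℕ) k ≠ eps 0 k
      · have : i = 4 := by
          have := (eps_opp i 0).mp hi
          rw [show ((0 : Fin 8) : ℕ) = 0 from rfl] at this
          apply Fin.ext
          show (i : ℕ) = 4
          omega
        subst this
        rw [B_comm]; exact h0
      · push Not at hi
        exact hB0 _ _ hi
    · rw [map_zero, LinearMap.zero_apply]
  have hBe : ∀ i j : Fin 8, q.polarBilin (e i) (e j) = if ((i : ℕ) + 4) % 8 = j then 1 else 0 := by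
    intro i j
    split_ifs with h
    · obtain ⟨r, h1, h2⟩ := opp_eps i j ((eps_opp i j).mpr h)
      show q.polarBilin (t (eps i)) (t (eps j)) = 1
      rw [← h1, ← h2, ← hrp, ← hrp, (C.ρ_iso r).B]
      exact hB04
    · rw [← eps_opp] at h
      push Not at h
      exact hB0 _ _ h
  have hqe : ∀ i : Fin 8, q (e i) = 0 := fun i => by
    refine (C.ρ_iso _ ū).trans ((C.π_sq u hgQ).mpr (C.x2' g).zz)
  have hq : ∀ n ≤ 8, ∀ x < 2 ^ n, q (φ x) = if qB x then 1 else 0 := by
    intro n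
    induction n with
    | zero =>
      intro _ x hx
      obtain rfl : x = 0 := by simpa using hx
      rw [hφ0, QuadraticMap.map_zero]; rfl
    | succ n ih =>
      intro hn x hx
      by_cases hx' : x < 2 ^ n
      · exact ih (by omega) x hx'
      set y := x - 2 ^ n
      have hy : y < 2 ^ n := by rw [pow_succ] at hx; omega
      have hxy : x = y ^^^ 2 ^ n := by
        have h := Nat.two_pow_add_eq_or_of_lt hy 1
        rw [mul_one] at h
        apply Nat.eq_of_testBit_eq
        intro i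
        rw [show x = 2 ^ n + y by omega, h, Nat.testBit_or, Nat.testBit_xor, Nat.testBit_two_pow]
        by_cases hi : n = i
        · subst hi; simp [Nat.testBit_lt_two_pow hy]
        · simp [hi]
      have h8 := List.all_eq_true.1 qB_step n (List.mem_range.2 (by omega))
      have h := beq_iff_eq.1 (List.all_eq_true.1 h8 y (List.mem_range.2 hy))
      rw [hxy, hφadd, q_add, ih (by omega) y hy, h, show 2 ^ n = 2 ^ ((⟨n, by omega⟩ : Fin 8) : ℕ) from rfl, hφpow,
        hqe, add_zero, map_sum, LinearMap.sum_apply,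
        Finset.sum_eq_single (⟨(n + 4) % 8, Nat.mod_lt _ (by norm_num)⟩ : Fin 8)]
      · show _ + (q.polarBilin (if y.testBit ((n + 4) % 8) then _ else 0)) _ = _
        cases hb : y.testBit ((n + 4) % 8)
        · simp
        · have hBn := hBe ⟨(n + 4) % 8, Nat.mod_lt _ (by norm_num)⟩ ⟨n, by omega⟩
          rw [if_pos (by show ((n + 4) % 8 + 4) % 8 = n; omega)] at hBn
          simp only [if_true, hBn]
          cases qB y <;> decide
      · intro i _ hi
        split_ifs
        · rw [hBe, if_neg fun e' => hi (Fin.ext (by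
            show (i : ℕ) = (n + 4) % 8
            have := i.2
            change ((i : ℕ) + 4) % 8 = n at e'
            omega))]
        · rw [map_zero, LinearMap.zero_apply]
      · simp
  -- the frame
  let P : G → ℕ := fun x => code (C.π x)
  have hPφ : ∀ x, φ (P x) = C.π x := fun x => hcode _
  have hPlt : ∀ x, P x < 256 := fun x => (code _).2
  have hPmul : ∀ x ∈ C.Q, ∀ y ∈ C.Q, P (x * y) = P x ^^^ P y := fun x hx y hy => by
    refine hinjφ _ (hPlt _) _ (Nat.xor_lt_two_pow (n := 8) (hPlt x) (hPlt y)) ?_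
    rw [hPφ, hφadd, hPφ, hPφ, C.π_mul x hx y hy]
  have hbool : ∀ b : Bool, (if b then (1 : ZMod 2) else 0) = 0 ↔ b = false := by decide
  have hPq : ∀ x, (if qB (P x) then (1 : ZMod 2) else 0) = q (C.π x) := fun x => by
    rw [← hq 8 le_rfl _ (hPlt x), hPφ]
  have hPconj : ∀ m, Commute m C.z → ∀ x ∈ C.Q, P (m * x * m⁻¹) = act (C.μ m) (P x) := fun m hm x hx => by
    refine hinjφ _ (hPlt _) _ (act_lt _ _) ?_
    rw [hPφ, hact, hPφ, C.ρ_π m hm x hx]
  have hPu : P u = 1 := by
    refine hinjφ _ (hPlt _) 1 (by norm_num) ?_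
    rw [hPφ, show (1 : ℕ) = 2 ^ ((0 : Fin 8) : ℕ) from rfl, hφpow, ← hū, ← ht0]
    exact congrArg t (by decide)
  have hUW : ∀ v : V, v ∈ IW ↔ inU (code v : ℕ) = true := by
    let S : Set V := (fun x : Fin 256 => φ x) '' {x | inU x = true}
    have hsub : S ⊆ (IW : Set V) := by
      rintro _ ⟨x, hx, rfl⟩
      refine Submodule.sum_mem _ fun i _ => ?_
      split_ifs with hb
      · refine htW _ ?_
        rcases (inU_iff x).mp hx i hb with rfl | rfl | rfl | rfl <;> decide
      · exact zero_mem _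
    have hcS : S.ncard = 16 := by
      rw [Set.ncard_image_of_injective _ hbij.injective, ← Nat.card_coe_set_eq, Nat.card_eq_fintype_card]
      exact inU_count
    have hle : (IW : Set V).ncard ≤ 16 := by
      rw [← Nat.card_coe_set_eq]
      refine (Module.natCard_eq_pow_finrank (K := ZMod 2) (V := IW)).trans_le ?_
      rw [Nat.card_zmod]
      exact (Nat.pow_le_pow_right two_pos hWel.finrank_le).trans_eq rfl
    have hS : S = IW := Set.eq_of_subset_of_ncard_le hsub (hcS ▸ hle) (Set.toFinite _)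
    intro v
    rw [← SetLike.mem_coe, ← hS]
    constructor
    · rintro ⟨x, hx, rfl⟩
      show inU (code (φ (x : ℕ)) : ℕ) = true
      rw [hcodeφ x x.2]; exact hx
    · exact fun h => ⟨code v, h, hcode v⟩
  refine ⟨{
    g := g, P := P, gQ := hgQ, gne := hne, lt := hPlt, P_u := hPu, P_mul := hPmul, P_ker := ?_,
    P_surj := ?_, P_sq := ?_, P_comm := ?_, P_conj := hPconj, mem_inter := ?_,
    lift := hlift, cl := ?_ }⟩
  · intro x hx
    rw [← C.π_ker x hx, ← hPφ x]
    exact ⟨fun h => by rw [h, hφ0], fun h => hinjφ _ (hPlt _) 0 (by norm_num) (h.trans hφ0.symm)⟩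
  · intro n hn
    obtain ⟨x, hx, e'⟩ := C.π_surj (φ n)
    exact ⟨x, hx, by show (code _ : ℕ) = n; rw [e', hcodeφ n hn]⟩
  · intro x hx
    rw [← hbool, hPq, C.π_sq x hx]
  · intro x hx y hy
    rw [← C.π_comm x hx y hy, ← hbool, pB, pN, ← hPmul x hx y hy]
    have h := q_add (q := q) (C.π x) (C.π y)
    rw [← C.π_mul x hx y hy, ← hPq, ← hPq, ← hPq] at h
    revert h
    generalize q.polarBilin (C.π x) (C.π y) = B
    generalize qB (P (x * y)) = a
    generalize qB (P x) = b
    generalize qB (P y) = c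
    revert a b c B
    decide
  · intro x hx
    show _ ↔ inU (code (C.π x) : ℕ) = true
    rw [← hUW]
    refine ⟨fun h => ⟨x, Subgroup.mem_inf.mpr ⟨hx, h⟩, rfl⟩, fun ⟨a, ha, e'⟩ => ?_⟩
    obtain ⟨haQ, hag⟩ := Subgroup.mem_inf.mp ha
    rcases (C.eq_iff haQ hx).mp e' with rfl | rfl
    · exact hag
    · exact mul_mem (C.pair hgQ hne).m' hag
  · intro x hx hxz
    constructor
    · intro hcl
      obtain ⟨g', rfl⟩ := isConj_iff.mp hcl
      obtain ⟨-, -, -, h8⟩ := C.pair_data hx hxz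
      obtain ⟨h, hh⟩ := exists_conj_sylS h8
      obtain ⟨m, hm, hmh⟩ := C.μ_surj h
      have hfx : ∀ l, act (iR l) (P (m * (g' * C.z * g'⁻¹) * m⁻¹)) = P (m * (g' * C.z * g'⁻¹) * m⁻¹) := by
        intro l
        obtain ⟨b, hb, hbr⟩ := (hh (h⁻¹ * iR l * h)).mpr (by
          rw [show h * (h⁻¹ * iR l * h) * h⁻¹ = iR l by group]; exact iR_mem l)
        have hbz := C.centralizes_of_B b hb
        have e' : iR l = C.μ (m * b * m⁻¹) := by rw [C.μ_conj hm hbz, hbr, hmh]; group
        rw [e', ← hPconj _ ((hm.mul_left hbz).mul_left hm.inv_left) _ (C.conj_mem hm hx)]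
        congr 1
        calc m * b * m⁻¹ * (m * (g' * C.z * g'⁻¹) * m⁻¹) * (m * b * m⁻¹)⁻¹
            = m * (b * (g' * C.z * g'⁻¹) * b⁻¹) * m⁻¹ := by group
          _ = _ := by rw [((C.x2' g').central b (Subgroup.mem_inf.mp hb).1).eq, mul_inv_cancel_right]
      have hmc := C.conj_mem hm hx
      have h256 := List.all_eq_true.1 fixed_code _ (List.mem_range.2 (hPlt (m * (g' * C.z * g'⁻¹) * m⁻¹)))
      have hall : (([0, 1, 2] : List (Fin 3)).all fun l =>
          act (iR l) (P (m * (g' * C.z * g'⁻¹) * m⁻¹)) == P (m * (g' * C.z * g'⁻¹) * m⁻¹)) = true :=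
        List.all_eq_true.2 fun l _ => beq_iff_eq.2 (hfx l)
      rw [hall, Bool.not_true, Bool.false_or, Bool.or_eq_true, beq_iff_eq, beq_iff_eq] at h256
      rcases h256 with h0 | h1
      · exfalso
        have h0' : C.π (m * (g' * C.z * g'⁻¹) * m⁻¹) = 0 := by rw [← hPφ, h0, hφ0]
        rcases C.eq_cases hmc h0' with e' | e'
        · exact C.cl_ne (C.cl_conj (C.cl_conj C.cl_z g') m) e'
        · refine hxz ?_
          calc g' * C.z * g'⁻¹ = m⁻¹ * (m * (g' * C.z * g'⁻¹) * m⁻¹) * m⁻¹⁻¹ := by group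
            _ = m⁻¹ * C.z * m⁻¹⁻¹ := by rw [e']
            _ = C.z := C.z_conj hm.inv_left
      · rw [pureB_iff]
        refine ⟨fun k => (C.μ m)⁻¹ k 0, hinjφ _ (pureC_lt _).1 _ (hPlt _) ?_⟩
        rw [hpure, ← hrp _ (fun _ => 0), ht0, hPφ]
        have e1 : C.π (m * (g' * C.z * g'⁻¹) * m⁻¹) = ū := by
          rw [← hPφ, h1, hū, ← hPφ u, hPu]
        rw [← C.ρ_π m hm _ hx] at e1
        rw [← e1, ← LinearEquiv.mul_apply, ← map_mul, inv_mul_cancel, map_one]
        rfl
    · intro hp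
      obtain ⟨p, hp⟩ := pureB_iff.mp hp
      obtain ⟨m, hm, -, hmx⟩ := C.exists_lift hgQ hx (by rw [← hū]; exact hū0) (h := rp p) (by
        rw [← hū, ← hPφ x, ← hp, hpure])
      exact hmx ▸ C.cl_conj (C.cl_conj C.cl_z g) m

end Cfsg.Lib.OEightTwo
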