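import Cfsg.Agent.OEightTwo.Model

/-!
The centre of a unipotent subgroup: an involution centralised by four fundamental root elements is the highest root
element.
-/

set_option autoImplicit false
set_option maxRecDepth 100000
set_option linter.style.haveILetI false

namespace Cfsg.Lib.OEightTwo

open Cfsg.Lib.ConwayType Cfsg.Lib.ConwayType.Code

/-- Four fundamental roots. -/
def uG : List (ℕ × ℕ) := [(1, 32), (2, 64), (4, 128), (4, 8)]

/-- The levels of the flag. -/
def lev (i : ℕ) : ℕ := [0, 1, 3, 7, 15, 143, 207, 239].getD i 255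

/-- Membership in a level. -/
def inF (i x : ℕ) : Bool := (x ||| lev i) == lev i

/-- The images of the basis determined by the image of the last basis vector. -/
def imgs (v : ℕ) : List ℕ :=
  let a := rf (1, 32) v ^^^ v
  let b := rf (2, 64) a ^^^ a
  let c := rf (4, 128) b ^^^ b
  let d := rf (4, 8) b ^^^ b
  let f := rf (4, 128) d ^^^ d
  let g := rf (2, 64) f ^^^ f
  let h := rf (1, 32) g ^^^ g
  [h, g, f, d, v, a, b, c]

/-- The linear map with given images. -/
def lin (im : List ℕ) (x : ℕ) : ℕ :=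
  (bif x.testBit 0 then im.getD 0 0 else 0) ^^^ (bif x.testBit 1 then im.getD 1 0 else 0) ^^^
  (bif x.testBit 2 then im.getD 2 0 else 0) ^^^ (bif x.testBit 3 then im.getD 3 0 else 0) ^^^
  (bif x.testBit 4 then im.getD 4 0 else 0) ^^^ (bif x.testBit 5 then im.getD 5 0 else 0) ^^^
  (bif x.testBit 6 then im.getD 6 0 else 0) ^^^ (bif x.testBit 7 then im.getD 7 0 else 0)

theorem chain_ok : imgs 16 = basis := by decide +kernel

theorem cand_ok : ((List.range 256).all fun v => qB v ||
    !((uG.all fun g => basis.all fun k => lin (imgs v) (rf g k) == rf g (lin (imgs v) k)) &&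
      (basis.all fun a => basis.all fun b => pB (lin (imgs v) a) (lin (imgs v) b) == pB a b) &&
      (basis.all fun a => qB (lin (imgs v) a) == qB a)) ||
    imgs v == basis || imgs v == basis.map (rf (1, 2))) = true := by decide +kernel

theorem lev_ok : ((List.range 9).all fun i => (List.range 256).all fun x => !inF i x ||
    ((uG.all fun g => inF (i - 1) (rf g x ^^^ x)) && decide (i ≤ 8 ∧ (i = 0 → x = 0)))) = true ∧
    ((List.range 256).all fun x => inF 8 x) = true ∧
    ((List.range 9).all fun i => (List.range i).all fun j => (lev i ||| lev j) == lev i) = true ∧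
    (uG.all okPair) = true := by decide +kernel

theorem inF_iff {i x : ℕ} : inF i x = true ↔ x ||| lev i = lev i := beq_iff_eq

theorem inF_xor {i a b : ℕ} (ha : inF i a = true) (hb : inF i b = true) : inF i (a ^^^ b) = true := by
  rw [inF_iff] at ha hb ⊢
  refine Nat.eq_of_testBit_eq fun k => ?_
  have h1 := congrArg (·.testBit k) ha
  have h2 := congrArg (·.testBit k) hb
  simp only [Nat.testBit_or, Nat.testBit_xor] at h1 h2 ⊢
  revert h1 h2
  cases a.testBit k <;> cases b.testBit k <;> simp

theorem inF_mono {i j x : ℕ} (hj : j ≤ i) (hi : i ≤ 8) (h : inF j x = true) : inF i x = true := by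
  rcases eq_or_lt_of_le hj with rfl | hlt
  · exact h
  have h' := beq_iff_eq.1 (List.all_eq_true.1 (List.all_eq_true.1 lev_ok.2.2.1 i (List.mem_range.2 (by omega))) j
    (List.mem_range.2 hlt))
  rw [inF_iff] at h ⊢
  calc x ||| lev i = x ||| (lev j ||| lev i) := by rw [Nat.or_comm (lev j), h']
    _ = lev i := by rw [← Nat.or_assoc, h, Nat.or_comm, h']

/-- The element lowers every level by at least the given amount. -/
def Lowers (m : ℕ) (g : L) : Prop :=
  ∀ i, i ≤ 8 → ∀ x < 256, inF i x = true → inF (i - m) (cd (g : O8) x ^^^ x) = true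

theorem lowers_one : Lowers 1 1 := fun i _ x hx _ => by
  rw [show ((1 : L) : O8) = 1 from rfl, cd_one hx, Nat.xor_self, inF_iff, Nat.zero_or]

theorem Lowers.mul {g h : L} (hg : Lowers 1 g) (hh : Lowers 1 h) : Lowers 1 (g * h) := by
  intro i hi x hx hF
  set y := cd (h : O8) x with hy
  have h1 := hh i hi x hx hF
  have hyF : inF i y = true := by
    have := inF_xor (inF_mono (Nat.sub_le i 1) hi h1) hF
    rwa [Nat.xor_assoc, Nat.xor_self, Nat.xor_zero] at this
  have h2 := hg i hi y (cd_lt _ _) hyF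
  rw [Subgroup.coe_mul, cd_mul, ← hy]
  have := inF_xor h2 h1
  rwa [← hy, show cd (g : O8) y ^^^ y ^^^ (y ^^^ x) = cd (g : O8) y ^^^ x by
    rw [Nat.xor_assoc, ← Nat.xor_assoc y, Nat.xor_self, Nat.zero_xor]] at this

theorem Lowers.double {g : L} {m : ℕ} (hg : Lowers m g) : Lowers (2 * m) (g * g) := by
  intro i hi x hx hF
  set d := cd (g : O8) x ^^^ x with hd
  have h1 := hg i hi x hx hF
  have h2 := hg (i - m) (by omega) d (xor_lt (cd_lt _ _) hx) h1
  rw [Subgroup.coe_mul, cd_mul, show i - 2 * m = i - m - m by omega]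
  rw [show cd (g : O8) (cd (g : O8) x) ^^^ x = cd (g : O8) d ^^^ d from ?_]
  · exact h2
  · rw [hd, cd_xor]
    simp only [Nat.xor_assoc]
    congr 1
    rw [← Nat.xor_assoc (cd (g : O8) x), Nat.xor_self, Nat.zero_xor]

theorem lowers_eight {g : L} (hg : Lowers 8 g) : g = 1 := by
  refine cd_L_ext fun x hx => ?_
  have h := hg 8 le_rfl x hx (List.all_eq_true.1 lev_ok.2.1 x (List.mem_range.2 hx))
  rw [show ((1 : L) : O8) = 1 from rfl, cd_one hx]
  rw [inF_iff] at h
  exact xor_eq_zero'.1 (by simpa [lev] using h)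

theorem unipotent_isPGroup :
    IsPGroup 2 (Subgroup.closure {g : L | ∃ t ∈ uG, g = gn t}) := by
  intro g
  have hall : ∀ g ∈ Subgroup.closure {g : L | ∃ t ∈ uG, g = gn t}, Lowers 1 g := by
    intro g hg
    induction hg using Subgroup.closure_induction with
    | mem y hy =>
      obtain ⟨t, ht, rfl⟩ := hy
      intro i hi x hx hF
      have h := List.all_eq_true.1 (List.all_eq_true.1 lev_ok.1 i (List.mem_range.2 (by omega))) x (List.mem_range.2 hx)
      rw [hF, Bool.not_true, Bool.false_or, Bool.and_eq_true, List.all_eq_true] at h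
      rw [cd_gn (List.all_eq_true.1 lev_ok.2.2.2 t ht) hx]
      exact h.1 t ht
    | one => exact lowers_one
    | mul a b _ _ iha ihb => exact iha.mul ihb
    | inv a _ iha =>
      have hp : ∀ n : ℕ, Lowers 1 (a ^ n) := fun n => by
        induction n with
        | zero => rw [pow_zero]; exact lowers_one
        | succ n ihn => rw [pow_succ]; exact ihn.mul iha
      have : a⁻¹ = a ^ (orderOf a - 1) := by
        refine inv_eq_of_mul_eq_one_right ?_
        rw [← pow_succ', Nat.sub_add_cancel (orderOf_pos a), pow_orderOf_eq_one]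
      exact this ▸ hp _
  refine ⟨3, Subtype.ext ?_⟩
  have h : Lowers 8 (((g : L) * g) * ((g : L) * g) * (((g : L) * g) * ((g : L) * g))) :=
    (((hall g g.2).double).double).double
  have e := lowers_eight h
  show (g : L) ^ 8 = 1
  rw [show (8 : ℕ) = 2 * 2 * 2 from rfl, pow_mul, pow_mul, sq, sq, sq]
  simpa [mul_assoc] using e

theorem central_cases {g : L} (hg : ∀ t ∈ uG, Commute g (gn t)) : g = 1 ∨ g = gn (1, 2) := by
  set f := cd (g : O8) with hf
  have hlt : ∀ x, f x < 256 := fun x => cd_lt _ _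
  have hc : ∀ t ∈ uG, ∀ x < 256, f (rf t x) = rf t (f x) := fun t ht x hx => by
    have hok := List.all_eq_true.1 lev_ok.2.2.2 t ht
    rw [hf, ← cd_gn hok hx, ← cd_mul, ← Subgroup.coe_mul, (hg t ht).eq, Subgroup.coe_mul, cd_mul,
      cd_gn hok (cd_lt _ _)]
  have hstep : ∀ t ∈ uG, ∀ x < 256, f (rf t x ^^^ x) = rf t (f x) ^^^ f x := fun t ht x hx => by
    rw [hf, cd_xor, ← hf, hc t ht x hx]
  have e5 : f 32 = rf (1, 32) (f 16) ^^^ f 16 := hstep (1, 32) (by decide) 16 (by norm_num)
  have e6 : f 64 = rf (2, 64) (f 32) ^^^ f 32 := hstep (2, 64) (by decide) 32 (by norm_num)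
  have e7 : f 128 = rf (4, 128) (f 64) ^^^ f 64 := hstep (4, 128) (by decide) 64 (by norm_num)
  have e3 : f 8 = rf (4, 8) (f 64) ^^^ f 64 := hstep (4, 8) (by decide) 64 (by norm_num)
  have e2 : f 4 = rf (4, 128) (f 8) ^^^ f 8 := hstep (4, 128) (by decide) 8 (by norm_num)
  have e1 : f 2 = rf (2, 64) (f 4) ^^^ f 4 := hstep (2, 64) (by decide) 4 (by norm_num)
  have e0 : f 1 = rf (1, 32) (f 2) ^^^ f 2 := hstep (1, 32) (by decide) 2 (by norm_num)
  have him : imgs (f 16) = basis.map f := by
    simp only [imgs, basis, List.map_cons, List.map_nil, ← e5, ← e6, ← e7, ← e3, ← e2, ← e1, ← e0]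
  have hlin : ∀ x < 256, lin (imgs (f 16)) x = f x := fun x hx => by
    conv_rhs => rw [← bits8 x hx]
    simp only [hf, cd_xor, cd_bif]
    rw [← hf, lin, him]
    rfl
  have hb : ∀ k ∈ basis, k < 256 := by decide
  have h := List.all_eq_true.1 cand_ok (f 16) (List.mem_range.2 (hlt _))
  rw [show qB (f 16) = false from (cd_q _ (by norm_num)).trans (by decide)] at h
  have h1 : ((uG.all fun t => basis.all fun k => lin (imgs (f 16)) (rf t k) == rf t (lin (imgs (f 16)) k)) &&
      (basis.all fun a => basis.all fun b => pB (lin (imgs (f 16)) a) (lin (imgs (f 16)) b) == pB a b) &&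
      (basis.all fun a => qB (lin (imgs (f 16)) a) == qB a)) = true := by
    simp only [Bool.and_eq_true, List.all_eq_true, beq_iff_eq]
    refine ⟨⟨fun t ht k hk => ?_, fun a ha b hb' => ?_⟩, fun a ha => ?_⟩
    · have hlt' : rf t k < 256 := by
        rw [← cd_gn (List.all_eq_true.1 lev_ok.2.2.2 t ht) (hb k hk)]; exact cd_lt _ _
      rw [hlin _ hlt', hlin _ (hb k hk), hc t ht k (hb k hk)]
    · rw [hlin _ (hb a ha), hlin _ (hb b hb')]; exact cd_p _ (hb a ha) (hb b hb')
    · rw [hlin _ (hb a ha)]; exact cd_q _ (hb a ha)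
  rw [h1, Bool.not_true, Bool.or_false, Bool.false_or, Bool.or_eq_true, beq_iff_eq, beq_iff_eq, him] at h
  rcases h with h | h
  · left
    refine Subtype.ext (cd_basis fun k hk => ?_)
    rw [show ((1 : L) : O8) = 1 from rfl, cd_one (hb k hk)]
    exact (List.map_inj_left (g := id)).1 (h.trans (List.map_id _).symm) k hk
  · right
    refine Subtype.ext (cd_basis fun k hk => ?_)
    rw [cd_gn (by decide) (hb k hk)]
    exact List.map_inj_left.1 h k hk

end Cfsg.Lib.OEightTwo
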