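import Cfsg.Agent.OEightTwo.Safe
import Cfsg.Agent.OEightTwo.Sylow

/-!
A finite group containing the orthogonal group of plus type in dimension eight over two elements with the centraliser
of a central involution, without further fusion into that centraliser, is the orthogonal group.
-/

set_option autoImplicit false
set_option linter.style.haveILetI false

open Subgroup

namespace Cfsg.Lib.OEightTwo

universe u

variable {G : Type u} [Group G] {φ : L →* G}

theorem nodup_of_distinct : ∀ {fl : List (ℕ × ℕ)}, (∀ f ∈ fl, okPair f = true) → distinct fl = true →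
    (fl.map gn).Nodup
  | [], _, _ => List.nodup_nil
  | t :: l, hok, h => by
    rw [distinct, Bool.and_eq_true, List.all_eq_true] at h
    rw [List.map_cons, List.nodup_cons]
    refine ⟨fun hm => ?_, nodup_of_distinct (fun f hf => hok f (List.mem_cons_of_mem t hf)) h.2⟩
    obtain ⟨f, hf, e⟩ := List.mem_map.1 hm
    have h' := h.1 f hf
    rw [Bool.not_eq_true', ← Bool.not_eq_true, eqW_iff (vw_one (hok t List.mem_cons_self))
      (vw_one (hok f (List.mem_cons_of_mem t hf))), wel_one, wel_one] at h'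
    exact h' e.symm

theorem listed_ok {r : (ℕ × ℕ) × Hint} (h : r ∈ rootsList.flatten) :
    okRoot r.1 = true ∧ okPair r.1 = true ∧ hintOK r.1 r.2 = true := by
  have h' := Bool.and_eq_true_iff.1 (List.all_eq_true.1 roots_ok r h)
  exact ⟨h'.1, (okRoot_iff.1 h'.1).1, h'.2⟩

theorem zpowers_two {H : Type*} [Group H] {z w : H} (hz : z * z = 1) : w ∈ zpowers z ↔ w = 1 ∨ w = z := by
  refine ⟨fun h => ?_, ?_⟩
  · obtain ⟨i, rfl⟩ := mem_zpowers_iff.mp h
    rcases Int.even_or_odd' i with ⟨j, rfl | rfl⟩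
    · left; rw [zpow_mul, zpow_two, hz, one_zpow]
    · right; rw [zpow_add, zpow_mul, zpow_two, hz, one_zpow, one_mul, zpow_one]
  · rintro (rfl | rfl)
    · exact one_mem _
    · exact mem_zpowers _

/-- The node of a single involution. -/
theorem baseNode {w : List (ℕ × ℕ)} (hw : Vw w) (hsq : wel w * wel w = 1) {fl : List (ℕ × ℕ)}
    (hfl : ((rootsList.flatten.map (·.1)).filter fun r => eqW ([r] ++ w) (w ++ [r])) = fl)
    (hd : distinct fl = true) : Node (zpowers (wel w)) [[], w] fl := by
  have hok : ∀ f ∈ fl, okPair f = true := fun f hf => by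
    rw [← hfl] at hf
    obtain ⟨r, hr, rfl⟩ := List.mem_map.1 (List.mem_filter.1 hf).1
    exact (listed_ok hr).2.1
  refine ⟨fun v hv => ?_, fun g => ?_, fun g hg => ?_, hok, nodup_of_distinct hok hd, fun g => ?_⟩
  · simp only [List.mem_cons, List.not_mem_nil, or_false] at hv
    rcases hv with rfl | rfl
    exacts [vw_nil, hw]
  · rw [zpowers_two hsq]
    simp [wel_nil]
  · rcases (zpowers_two hsq).1 hg with rfl | rfl
    exacts [one_mul 1, hsq]
  · constructor
    · rintro ⟨hr, hc⟩
      obtain ⟨r, hr', hok', rfl⟩ := hr.listed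
      refine ⟨r.1, ?_, rfl⟩
      rw [← hfl, List.mem_filter]
      refine ⟨List.mem_map_of_mem hr', ?_⟩
      rw [eqW_iff ((vw_one hok').append hw) (hw.append (vw_one hok')), wel_append, wel_append, wel_one]
      exact (hc _ (mem_zpowers _)).eq
    · rintro ⟨f, hf, rfl⟩
      have hf' := hf
      rw [← hfl, List.mem_filter] at hf'
      obtain ⟨r, hr, rfl⟩ := List.mem_map.1 hf'.1
      refine ⟨⟨r.1, (listed_ok hr).1, rfl⟩, fun p hp => ?_⟩
      rcases (zpowers_two hsq).1 hp with rfl | rfl
      · exact Commute.one_right _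
      · have h := hf'.2
        rwa [eqW_iff ((vw_one (hok _ hf)).append hw) (hw.append (vw_one (hok _ hf))), wel_append, wel_append,
          wel_one] at h

theorem eThree_ok : okPair sTwo = true ∧ okPair eThree = true ∧
    eqW [sTwo, eThree, sTwo, eThree] [] = true := by decide +kernel

theorem Emb.two_safe [Finite G] (E : Emb φ) (g : L) (hg : IsTwo g) (Q : Subgroup L) (hQ : g ∈ Q) : Safe φ Q := by
  have hw : Vw [sTwo] := vw_one eThree_ok.1
  have hsafe := E.chk_safe (two := false) (fun h => absurd h Bool.false_ne_true) 6 _ _ _ certTwo_ok _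
    (baseNode hw (by rw [wel_one]; exact gn_sq _) fixTwo_ok.1 fixTwo_ok.2)
  obtain ⟨h, rfl⟩ := hg.exists_conj
  refine hsafe.of_conj h fun q hq => ?_
  rcases (zpowers_two (by rw [wel_one]; exact gn_sq _)).1 hq with rfl | rfl
  · rw [mul_one, mul_inv_cancel]; exact one_mem _
  · rwa [wel_one]

theorem Emb.three_safe [Finite G] (E : Emb φ) : Safe φ (zpowers (wel [sTwo, eThree])) := by
  obtain ⟨h1, h2, h3⟩ := eThree_ok
  refine E.chk_safe (two := true) (fun _ => E.two_safe) 3 _ _ _ certThree_ok _
    (baseNode (vw_two h1 h2) ?_ fixThree_ok.1 fixThree_ok.2)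
  have := (eqW_iff ((vw_two h1 h2).append (vw_two h1 h2)) vw_nil).1 h3
  rwa [wel_append, wel_nil] at this

theorem g1_pair : ∀ i < 5, okPair (Cfsg.Lib.ConwayType.Code.g1.getD i (0, 0)) = true := by decide +kernel

/-- Every conjugate of a root lies in the model. -/
theorem Emb.class_mem [Finite G] (E : Emb φ) {d : G} (hd : IsConj (φ z0) d) : d ∈ φ.range := by
  by_contra hdM
  have hs : okPair sTwo = true := eThree_ok.1
  obtain ⟨e, n, he, -, -, -, ⟨k, hk⟩, hy⟩ := E.step (IsPGroup.of_bot (p := 2)) hd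
    (fun p hp => by rw [mem_bot.1 hp, map_one]; exact Commute.one_right d) hdM (gn_sq sTwo)
    (fun p hp => by rw [mem_bot.1 hp]; exact Commute.one_right _)
    (E.two_safe _ ⟨sTwo, by decide, rfl⟩ _ (mem_sup_right (mem_zpowers _)))
  obtain ⟨r, hr, hrp, rfl⟩ := he.listed
  have hh := (listed_ok hr).2.2
  set y := gn sTwo * gn r.1 with hydef
  have hwe : wel [sTwo, r.1] = y := wel_two _ _
  have h2 : Vw [sTwo, r.1] := vw_two hs hrp
  rcases hhint : r.2 with _ | ⟨j, t⟩ | w <;> rw [hhint] at hh <;>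
    simp only [hintOK, Bool.and_eq_true, Bool.not_eq_true'] at hh
  · have h6 : y ^ 6 = 1 := by
      have := (eqW_iff (w := [sTwo, r.1] ++ [sTwo, r.1] ++ [sTwo, r.1] ++ [sTwo, r.1] ++ [sTwo, r.1] ++ [sTwo, r.1])
        (((((h2.append h2).append h2).append h2).append h2).append h2) vw_nil).1 hh.1
      simp only [wel_append, hwe, wel_nil] at this
      rw [← this]
      simp only [pow_succ, pow_zero, one_mul, mul_assoc]
    have h2' : y ^ 2 = 1 := by
      refine orderOf_dvd_iff_pow_eq_one.1 ?_
      have hd1 := orderOf_dvd_of_pow_eq_one hk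
      have hd2 : orderOf y ∣ 2 * 3 := orderOf_dvd_of_pow_eq_one h6
      exact Nat.Coprime.dvd_of_dvd_mul_right (Nat.Coprime.coprime_dvd_left hd1
        (Nat.Coprime.pow_left k (by norm_num : Nat.Coprime 2 3))) hd2
    have h' := hh.2
    rw [← Bool.not_eq_true] at h'
    refine h' ((eqW_iff (w := [sTwo, r.1] ++ [sTwo, r.1]) (h2.append h2) vw_nil).2 ?_)
    rw [wel_append, hwe, wel_nil, ← sq]
    exact h2'
  · obtain ⟨ht, hj⟩ := hh
    rw [Bool.or_eq_true] at ht
    have hto : okPair t = true := ht.elim (fun h => (okRoot_iff.1 h).1) fun h => (okTwo_iff.1 h).1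
    have hfl : ∀ j : ℕ, Vw ((List.range j).flatMap fun _ => [sTwo, r.1]) ∧
        wel ((List.range j).flatMap fun _ => [sTwo, r.1]) = y ^ j := by
      intro j
      induction j with
      | zero => exact ⟨vw_nil, by simp [wel_nil]⟩
      | succ j ih =>
        rw [List.range_succ, List.flatMap_append, List.flatMap_singleton]
        exact ⟨ih.1.append h2, by rw [wel_append, ih.2, hwe, pow_succ]⟩
    have := (eqW_iff (hfl j).1 (vw_one hto)).1 hj
    rw [(hfl j).2, wel_one] at this
    refine hy _ (pow_mem (mem_zpowers y) j) ?_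
    rw [this]
    rcases ht with h | h
    · exact E.safe_root ⟨t, h, rfl⟩ (mem_sup_right (mem_zpowers _))
    · exact E.two_safe _ ⟨t, h, rfl⟩ _ (mem_sup_right (mem_zpowers _))
  · obtain ⟨hw, heq⟩ := hh
    simp only [List.all_eq_true, decide_eq_true_eq] at hw
    set g := w.map fun i => Cfsg.Lib.ConwayType.Code.g1.getD i (0, 0)
    have hg : Vw g := fun t ht => by
      obtain ⟨i, hi, rfl⟩ := List.mem_map.1 ht
      exact g1_pair i (hw i hi)
    have h3 : Vw [sTwo, eThree] := vw_two hs eThree_ok.2.1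
    have h := (eqW_iff (h2.append hg) (hg.append h3)).1 heq
    rw [wel_append, wel_append, hwe] at h
    refine hy y (mem_zpowers y) (E.three_safe.of_conj (wel g) fun q hq => ?_)
    have hconj : wel g * wel [sTwo, eThree] * (wel g)⁻¹ = y := by rw [← h]; group
    have hsq3 : wel [sTwo, eThree] * wel [sTwo, eThree] = 1 := by
      have := (eqW_iff (h3.append h3) vw_nil).1 eThree_ok.2.2
      rwa [wel_append, wel_nil] at this
    rcases (zpowers_two hsq3).1 hq with rfl | rfl
    · rw [mul_one, mul_inv_cancel]; exact one_mem _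
    · rw [hconj]; exact mem_sup_right (mem_zpowers _)

theorem range_eq_top [Finite G] (E : Emb φ) : φ.range = ⊤ := by
  refine eq_top_iff.2 fun g _ => E.back z0_rt ?_
  exact E.class_mem (isConj_iff.2 ⟨g, rfl⟩)

/-- A two-subgroup centralises a conjugate of an element whose centraliser has odd index. -/
theorem exists_conj_commute {H : Type*} [Group H] [Finite H] {z : H} (hz : Odd (centralizer ({z} : Set H)).index)
    {K : Subgroup H} (hK : IsPGroup 2 K) : ∃ g : H, ∀ k ∈ K, Commute (g * z * g⁻¹) k := by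
  have : Fact (Nat.Prime 2) := ⟨Nat.prime_two⟩
  obtain ⟨x, hx⟩ := hK.nonempty_fixed_point_of_prime_not_dvd_card (H ⧸ centralizer ({z} : Set H))
    (by rw [← Subgroup.index_eq_card]; exact fun h => Nat.not_even_iff_odd.2 hz (even_iff_two_dvd.2 h))
  obtain ⟨g, rfl⟩ := QuotientGroup.mk_surjective x
  refine ⟨g, fun k hk => ?_⟩
  have h := hx ⟨k, hk⟩
  change ((k * g : H) : H ⧸ centralizer ({z} : Set H)) = g at h
  rw [QuotientGroup.eq, mem_centralizer_singleton_iff] at h
  have h' : g⁻¹ * k * g * z = z * (g⁻¹ * k * g) := by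
    have e : ((k * g)⁻¹ * g) = (g⁻¹ * k * g)⁻¹ := by group
    rw [e] at h
    exact (Commute.inv_left_iff.1 h : Commute _ z).eq
  show g * z * g⁻¹ * k = k * (g * z * g⁻¹)
  calc g * z * g⁻¹ * k = g * (z * (g⁻¹ * k * g)) * g⁻¹ := by group
    _ = g * (g⁻¹ * k * g * z) * g⁻¹ := by rw [h']
    _ = _ := by group

/-- The orthogonal group containing the centraliser of a central involution without outside fusion is everything. -/
theorem eq_top [Finite G] (hinj : Function.Injective φ) (t : G) (ht : t * t = 1) (ht1 : t ≠ 1)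
    (hC : centralizer ({t} : Set G) ≤ φ.range)
    (hcard : Nat.card (centralizer ({t} : Set G)) = 110592)
    (hF : ∀ g : G, Commute (g * t * g⁻¹) t → ∃ h ∈ φ.range, h * t * h⁻¹ = g * t * g⁻¹) : φ.range = ⊤ := by
  obtain ⟨z, hz⟩ := hC (mem_centralizer_singleton_iff.2 rfl : t ∈ centralizer ({t} : Set G))
  -- the index of the centraliser is odd
  have hcz : Nat.card (centralizer ({z} : Set L)) = 110592 := by
    rw [← hcard, ← Subgroup.card_map_of_injective hinj]
    congr 2
    ext g
    constructor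
    · rintro ⟨x, hx, rfl⟩
      rw [mem_centralizer_singleton_iff, ← hz, ← map_mul, ← map_mul]
      exact congrArg φ (mem_centralizer_singleton_iff.1 hx)
    · intro hg
      obtain ⟨x, rfl⟩ := hC hg
      refine ⟨x, mem_centralizer_singleton_iff.2 (hinj ?_), rfl⟩
      rw [map_mul, map_mul, hz]
      exact mem_centralizer_singleton_iff.1 hg
  have hodd : Odd (centralizer ({z} : Set L)).index := by
    have h := Subgroup.index_mul_card (centralizer ({z} : Set L))
    have hL : Nat.card L = 174182400 := by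
      have e := Cfsg.Lib.ConwayType.card_omega
      rw [← Cfsg.Lib.ConwayType.qf_coe] at e
      exact e
    rw [hcz, hL] at h
    have : (centralizer ({z} : Set L)).index = 1575 := by omega
    rw [this]; decide
  -- the central element is a root
  obtain ⟨g, hg⟩ := exists_conj_commute hodd unipotent_isPGroup
  have hgz : g * z * g⁻¹ = z0 := by
    rcases central_cases fun t ht => hg _ (Subgroup.subset_closure ⟨t, ht, rfl⟩) with h | h
    · exfalso
      rw [conj_eq_one_iff] at h
      exact ht1 (by rw [← hz, h, map_one])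
    · exact h
  have hzrt : IsRt z := by
    have := z0_rt.conj g⁻¹
    rwa [← hgz, show g⁻¹ * (g * z * g⁻¹) * g⁻¹⁻¹ = z by group] at this
  have hcl : IsConj (φ z0) t := by
    rw [← hz, ← hgz, map_mul, map_mul, map_inv]
    exact (isConj_iff.2 ⟨φ g, rfl⟩ : IsConj (φ z) _).symm
  refine range_eq_top ⟨hinj, fun r hr x hx => ?_, fun w hw => ?_, fun K hK => ?_⟩
  · obtain ⟨a, rfl⟩ := hr.exists_conj
    have hxm : (φ (a * g))⁻¹ * x * φ (a * g) ∈ centralizer ({t} : Set G) := by
      rw [mem_centralizer_singleton_iff] at hx ⊢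
      have e : φ (a * gn (1, 2) * a⁻¹) = φ (a * g) * t * (φ (a * g))⁻¹ := by
        rw [show gn (1, 2) = z0 from rfl, ← hgz, ← hz]; simp only [map_mul, map_inv]; group
      rw [e] at hx
      calc (φ (a * g))⁻¹ * x * φ (a * g) * t = (φ (a * g))⁻¹ * (x * (φ (a * g) * t * (φ (a * g))⁻¹)) * φ (a * g) := by
            group
        _ = _ := by rw [hx]; group
    obtain ⟨y, hy⟩ := hC hxm
    exact ⟨a * g * y * (a * g)⁻¹, by rw [map_mul, map_mul, map_inv, hy]; group⟩
  · obtain ⟨c, hc⟩ := isConj_iff.1 (hcl.symm.trans hw)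
    have hw2 : w * w = 1 := hinj (by
      rw [map_mul, map_one, ← hc, show c * t * c⁻¹ * (c * t * c⁻¹) = c * (t * t) * c⁻¹ by group, ht, mul_one,
        mul_inv_cancel])
    obtain ⟨a, ha⟩ := exists_conj_commute hodd (K := zpowers w) (isPGroup_of_sq fun x hx => by
      rcases (zpowers_two hw2).1 hx with rfl | rfl
      exacts [one_mul 1, hw2])
    have hcomm := (ha w (mem_zpowers w)).map φ
    have hcw : Commute ((φ a)⁻¹ * c * t * ((φ a)⁻¹ * c)⁻¹) t := by
      have e : (φ a)⁻¹ * c * t * ((φ a)⁻¹ * c)⁻¹ = (φ a)⁻¹ * φ w * φ a := by rw [← hc]; group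
      rw [e]
      have h' := hcomm.symm.map (MulAut.conj (φ a)⁻¹).toMonoidHom
      simpa [MulAut.conj_apply, map_mul, hz, mul_assoc] using h'
    obtain ⟨_, ⟨h, rfl⟩, hh⟩ := hF _ hcw
    have hwz : w = a * h * z * (a * h)⁻¹ := hinj (by
      simp only [map_mul, map_inv, hz]
      rw [show φ a * φ h * t * (φ a * φ h)⁻¹ = φ a * (φ h * t * (φ h)⁻¹) * (φ a)⁻¹ by group, hh, ← hc]
      group)
    rw [hwz]
    exact hzrt.conj _
  · obtain ⟨a, ha⟩ := exists_conj_commute hodd hK
    exact ⟨a * z * a⁻¹, hzrt.conj a, ha⟩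

end Cfsg.Lib.OEightTwo
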