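import Cfsg.Agent.OEightTwo.Pairs

/-!
A conjugate of the central involution outside the extraspecial group lies in the extraspecial group of a conjugate
inside it.
-/

set_option autoImplicit false
set_option linter.style.haveILetI false
set_option linter.unusedSectionVars false

open Module Subgroup Cfsg.Lib.LargeExtra Cfsg.Lib.LargeExtra.EightSmith
open scoped commutatorElement

namespace Cfsg.Lib.OEightTwo

universe u w

theorem exists_le_sylS {T : Subgroup RS} (hT : IsPGroup 2 T) : ∃ h : RS, ∀ r ∈ T, h * r * h⁻¹ ∈ sylS := by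
  haveI : Fact (Nat.Prime 2) := ⟨Nat.prime_two⟩
  obtain ⟨P, hP⟩ := hT.exists_le_sylow
  have hc : Nat.card P = 8 := by
    refine le_antisymm (card_le_eight P.isPGroup') ?_
    exact Nat.le_of_dvd Nat.card_pos (P.pow_dvd_card_of_pow_dvd_card (n := 3) (by rw [card_RS]; norm_num))
  obtain ⟨h, hh⟩ := exists_conj_sylS (T := (P : Subgroup RS)) hc
  exact ⟨h, fun r hr => (hh r).mp (hP hr)⟩

theorem sylS_sq {r : RS} (h : r ∈ sylS) : r * r = 1 := by
  funext k
  exact (show ∀ σ : Equiv.Perm (Fin 3), σ 0 = 0 → σ * σ = 1 by decide +kernel) (r k) (h k)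

theorem sylS_comm {r s : RS} (hr : r ∈ sylS) (hs : s ∈ sylS) : Commute r s := by
  funext k
  exact (show ∀ σ τ : Equiv.Perm (Fin 3), σ 0 = 0 → τ 0 = 0 → σ * τ = τ * σ by decide +kernel) (r k) (s k) (hr k) (hs k)

theorem two_group_sq {T : Subgroup RS} (hT : IsPGroup 2 T) : ∀ r ∈ T, r * r = 1 := by
  obtain ⟨h, hh⟩ := exists_le_sylS hT
  intro r hr
  have := sylS_sq (hh r hr)
  rwa [show h * r * h⁻¹ * (h * r * h⁻¹) = h * (r * r) * h⁻¹ by group, conj_eq_one_iff] at this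

theorem two_group_comm {T : Subgroup RS} (hT : IsPGroup 2 T) : ∀ r ∈ T, ∀ s ∈ T, Commute r s := by
  obtain ⟨h, hh⟩ := exists_le_sylS hT
  exact fun r hr s hs => (Commute.conj_iff h).mp (sylS_comm (hh r hr) (hh s hs))

theorem rel_xR (k : Fin 3) : xR k * xR k * xR k = 1 ∧ iR k * xR k * iR k = xR k * xR k ∧
    xR k = iR k * (xR k * iR k * (xR k)⁻¹) * 1 ∧ xR k ≠ 1 := by
  refine ⟨?_, ?_, ?_, ?_⟩ <;> revert k <;> decide +kernel

theorem comm_xR {k l : Fin 3} (h : k ≠ l) :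
    Commute (xR k) (xR l) ∧ Commute (iR k) (xR l) ∧ Commute (iR k) (iR l) :=
  ⟨Pi.mulSingle_commute h _ _, Pi.mulSingle_commute h _ _, Pi.mulSingle_commute h _ _⟩

/-- Commuting quadratic action of the standard Sylow subgroup contradicts the faithful action on a space of
dimension eight. -/
theorem no_quadratic {V : Type w} [AddCommGroup V] [Module (ZMod 2) V] [Finite V] {q : QuadraticForm (ZMod 2) V}
    (S : QS q) (hdim : finrank (ZMod 2) V = 8) (ρ : RS →* V ≃ₗ[ZMod 2] V) (hiso : ∀ r, Iso q (ρ r))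
    (hinj : Function.Injective ρ) (U : Submodule (ZMod 2) V) (hU : ∀ v ∈ U, q v = 0)
    (hk : ∀ k v, ρ (iR k) v + v ∈ U) (hfix : ∀ k, ∀ v ∈ U, ρ (iR k) v = v) : False := by
  have hx3 : ∀ k v, ρ (xR k) (ρ (xR k) (ρ (xR k) v)) = v := fun k v => by
    rw [← LinearEquiv.mul_apply, ← LinearEquiv.mul_apply, ← map_mul, ← map_mul, (rel_xR k).1, map_one]; rfl
  have hI : ∀ k l : Fin 3, k ≠ l → ∀ v, ρ (xR k) (ρ (iR l) v + v) = ρ (iR l) v + v := by
    intro k l hkl v
    set y := ρ (iR l) v + v with hy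
    have hxy : ρ (xR k) y = ρ (iR l) (ρ (xR k) v) + ρ (xR k) v := by
      rw [hy, map_add, ← LinearEquiv.mul_apply, ← map_mul, ← ((comm_xR (Ne.symm hkl)).2.1).eq, map_mul,
        LinearEquiv.mul_apply]
    have h1 : ρ (iR k) (ρ (xR k) y) = ρ (xR k) y := hfix k _ (hxy ▸ hk l _)
    have h2 : ρ (iR k) y = y := hfix k _ (hk l v)
    have h3 : ρ (iR k * xR k * iR k) y = ρ (xR k) y := by
      rw [map_mul, map_mul, LinearEquiv.mul_apply, LinearEquiv.mul_apply, h2, h1]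
    rw [(rel_xR k).2.1, map_mul, LinearEquiv.mul_apply] at h3
    exact (ρ (xR k)).injective h3
  let M : Fin 3 → Submodule (ZMod 2) V := fun l => img (ρ (xR l))
  have hMfix : ∀ k l : Fin 3, k ≠ l → ∀ y ∈ M l, ρ (xR k) y = y := by
    intro k l hkl y hy
    obtain ⟨v, rfl⟩ := mem_img.mp hy
    have hc : ∀ a : V, ρ (xR k) (ρ (xR l) a) = ρ (xR l) (ρ (xR k) a) := fun a => by
      rw [← LinearEquiv.mul_apply, ← LinearEquiv.mul_apply, ← map_mul, ← map_mul, ((comm_xR hkl).1).eq]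
    set w := ρ ((xR l)⁻¹) v
    set z := ρ (xR l * iR l * (xR l)⁻¹) v
    have hz : z = ρ (xR l) (ρ (iR l) w) := by
      simp only [z, w, map_mul, LinearEquiv.mul_apply]
    have hv : v = ρ (xR l) w := by
      simp only [w, ← LinearEquiv.mul_apply, ← map_mul, mul_inv_cancel, map_one]; rfl
    have hexp : ρ (xR l) v = ρ (iR l) z := by
      conv_lhs => rw [(rel_xR l).2.2.1, mul_one, map_mul, LinearEquiv.mul_apply]
    rw [hexp, show ρ (iR l) z + v = (ρ (iR l) z + z) + (ρ (xR l) (ρ (iR l) w + w)) by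
      rw [map_add, ← hz, ← hv, add_assoc, add_add_cancel'], map_add, hI k l hkl z, hc, hI k l hkl w]
  have hfpf : ∀ k, ∀ y ∈ M k, ρ (xR k) y = y → y = 0 := by
    intro k y hy h
    obtain ⟨v, rfl⟩ := mem_img.mp hy
    rw [map_add, add_comm] at h
    have h2 : ρ (xR k) (ρ (xR k) v) = v := by
      exact add_left_cancel h
    have h3 := hx3 k v
    rw [h2] at h3
    rw [h3, add_self']
  have hinv : ∀ k, ∀ y ∈ M k, ρ (xR k) y ∈ M k := by
    intro k y hy
    obtain ⟨v, rfl⟩ := mem_img.mp hy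
    exact mem_img.mpr ⟨ρ (xR k) v, by rw [map_add]⟩
  have hM0 : ∀ k, M k ≠ ⊥ := by
    intro k e
    refine (rel_xR k).2.2.2 (hinj ?_)
    rw [map_one]
    refine LinearEquiv.ext fun v => add_eq_zero_iff'.mp ?_
    have hm : ρ (xR k) v + v ∈ M k := shift_mem _ v
    rw [e, Submodule.mem_bot] at hm
    exact hm
  have hpow : ∀ k, ρ (xR k) ^ 3 = 1 := fun k => by
    rw [pow_succ, pow_two, ← map_mul, ← map_mul, (rel_xR k).1, map_one]
  haveI : Fact (Nat.Prime 3) := ⟨Nat.prime_three⟩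
  have heven : ∀ k, 2 ≤ finrank (ZMod 2) (M k) ∧ Even (finrank (ZMod 2) (M k)) := by
    intro k
    have h := two_dvd_of_three (fpf_card (p := 3) (hpow k) (hinv k) (hfpf k))
    have h1 : finrank (ZMod 2) (M k) ≠ 0 := fun e => hM0 k (Submodule.finrank_eq_zero.mp e)
    refine ⟨?_, h⟩
    obtain ⟨a, ha⟩ := h
    omega
  have hsum : finrank (ZMod 2) (M 0) + finrank (ZMod 2) (M 1) + finrank (ZMod 2) (M 2) ≤ 8 := by
    let f : (M 0 × M 1) × M 2 →ₗ[ZMod 2] V := LinearMap.coprod ((M 0).subtype.coprod (M 1).subtype) (M 2).subtype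
    have hf : Function.Injective f := by
      refine LinearMap.ker_eq_bot.mp (LinearMap.ker_eq_bot'.mpr ?_)
      rintro ⟨⟨⟨a, ha⟩, ⟨b, hb⟩⟩, ⟨c, hc⟩⟩ h
      have h' : a + b + c = 0 := h
      have ha0 : a = 0 := by
        refine hfpf 0 a ha ?_
        have e := congrArg (ρ (xR 0)) h'
        rw [map_zero, map_add, map_add, hMfix 0 1 (by decide) b hb, hMfix 0 2 (by decide) c hc, ← h',
          add_left_inj, add_left_inj] at e
        exact e
      have hb0 : b = 0 := by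
        refine hfpf 1 b hb ?_
        have e := congrArg (ρ (xR 1)) h'
        rw [map_zero, map_add, map_add, hMfix 1 0 (by decide) a ha, hMfix 1 2 (by decide) c hc, ← h',
          add_left_inj, add_right_inj] at e
        exact e
      subst ha0 hb0
      have hc0 : c = 0 := by simpa using h'
      subst hc0
      rfl
    have := LinearMap.finrank_le_finrank_of_injective hf
    rwa [finrank_prod, finrank_prod, hdim] at this
  obtain ⟨k, hk2⟩ : ∃ k, finrank (ZMod 2) (M k) = 2 := by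
    by_contra hno
    push Not at hno
    obtain ⟨a0, h0⟩ := (heven 0).2
    obtain ⟨a1, h1⟩ := (heven 1).2
    obtain ⟨a2, h2⟩ := (heven 2).2
    have := hno 0; have := hno 1; have := hno 2
    have := (heven 0).1; have := (heven 1).1; have := (heven 2).1
    omega
  have hperp : S.perp (M k) = fixs (ρ (xR k)) := S.perp_img (hiso _)
  have hplane : ∀ y ∈ M k, y ≠ 0 → q y = 1 := by
    intro y hy hy0
    refine (zmod2_cases _).resolve_left fun hq => hy0 ?_
    have hyx : ρ (xR k) y ∈ M k := hinv k y hy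
    have hxy0 : q (ρ (xR k) y) = 0 := (hiso _ y).trans hq
    have hsum' : ρ (xR k) (ρ (xR k) y) = y + ρ (xR k) y := by
      refine add_eq_zero_iff'.mp (hfpf k _ (add_mem (hinv k _ hyx) (add_mem hy hyx)) ?_)
      rw [map_add, map_add, hx3]
      abel
    have hB : q.polarBilin y (ρ (xR k) y) = 0 := by
      have h := q_add (q := q) y (ρ (xR k) y)
      rw [← hsum', hiso _ (ρ (xR k) y), hxy0, hq, zero_add, zero_add] at h
      exact h.symm
    refine S.eq_zero fun v => ?_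
    have hspan : ∀ a ∈ M k, a = 0 ∨ a = y ∨ a = ρ (xR k) y ∨ a = y + ρ (xR k) y := by
      intro a ha
      have hne : ρ (xR k) y ≠ y := fun e => hy0 (hfpf k y hy e)
      classical
      have hfin : Nat.card (M k) = 4 := by
        rw [Module.natCard_eq_pow_finrank (K := ZMod 2), Nat.card_zmod, hk2]; rfl
      have h4 : ({0, y, ρ (xR k) y, y + ρ (xR k) y} : Set V).ncard = 4 := by
        rw [Set.ncard_insert_of_notMem, Set.ncard_insert_of_notMem, Set.ncard_pair]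
        · intro e
          exact hy0 (right_eq_add.mp e)
        · simp only [Set.mem_insert_iff, Set.mem_singleton_iff, not_or]
          refine ⟨hne.symm, fun e => ?_⟩
          have := left_eq_add.mp e
          exact hy0 ((ρ (xR k)).map_eq_zero_iff.mp this)
        · simp only [Set.mem_insert_iff, Set.mem_singleton_iff, not_or]
          exact ⟨hy0.symm, fun e => hy0 ((ρ (xR k)).map_eq_zero_iff.mp e.symm),
            fun e => hne (add_eq_zero_iff'.mp e.symm).symm⟩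
      have hsub : ({0, y, ρ (xR k) y, y + ρ (xR k) y} : Set V) ⊆ (M k : Set V) := by
        rintro b (rfl | rfl | rfl | rfl)
        exacts [zero_mem _, hy, hyx, add_mem hy hyx]
      have heq := Set.eq_of_subset_of_ncard_le hsub (by rw [h4]; exact hfin.le) (Set.toFinite _)
      exact heq.ge ha
    have hyM : ∀ a ∈ M k, q.polarBilin a y = 0 := by
      intro a ha
      rcases hspan a ha with rfl | rfl | rfl | rfl
      · simp
      · exact B_self _
      · rw [B_comm]; exact hB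
      · rw [map_add, LinearMap.add_apply, B_self, B_comm (ρ (xR k) y), hB, add_zero]
    have htop : M k ⊔ fixs (ρ (xR k)) = ⊤ := by
      refine Submodule.eq_top_of_finrank_eq ?_
      have h := Submodule.finrank_sup_add_finrank_inf_eq (M k) (fixs (ρ (xR k)))
      rw [show M k ⊓ fixs (ρ (xR k)) = ⊥ from (Submodule.eq_bot_iff _).mpr fun a ha =>
        hfpf k a ha.1 (mem_fixs.mp ha.2), finrank_bot, add_zero, finrank_fixs_img] at h
      exact h
    obtain ⟨a, ha, b, hb, rfl⟩ := Submodule.mem_sup.mp (htop.ge (Submodule.mem_top : v ∈ ⊤))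
    rw [map_add, LinearMap.add_apply, hyM a ha, B_comm b, S.mem_perp.mp (hperp ▸ hb) y hy, add_zero]
  have hix : ∀ v, ρ (iR k) (ρ (xR k) v) = ρ (xR k) (ρ (xR k) (ρ (iR k) v)) := fun v => by
    rw [← LinearEquiv.mul_apply, ← LinearEquiv.mul_apply, ← LinearEquiv.mul_apply, ← map_mul, ← map_mul,
      ← map_mul, ← (rel_xR k).2.1]
    congr 2
    rw [mul_assoc (iR k * xR k), sylS_sq (iR_mem k), mul_one]
  have hifix : ∀ y ∈ M k, ρ (iR k) y = y := by
    intro y hy
    have hiy : ρ (iR k) y ∈ M k := by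
      obtain ⟨v, rfl⟩ := mem_img.mp hy
      refine mem_img.mpr ⟨ρ (xR k) (ρ (iR k) v) + ρ (iR k) v, ?_⟩
      rw [map_add, map_add, hix, add_assoc, add_add_cancel']
    refine add_eq_zero_iff'.mp (by_contra fun h => ?_)
    exact zero_ne_one ((hU _ (hk k y)).symm.trans (hplane _ (add_mem hiy hy) h))
  obtain ⟨y, hy, hy0⟩ := Submodule.exists_mem_ne_zero_of_ne_bot (hM0 k)
  refine hy0 (hfpf k y hy ((ρ (xR k)).injective ?_))
  have h := hix y
  rw [hifix _ (hinv k y hy), hifix y hy] at h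
  exact h.symm

namespace Ctx

variable {G : Type u} {V : Type w} [Group G] [Finite G] [AddCommGroup V]
  [Module (ZMod 2) V] [Finite V] {q : QuadraticForm (ZMod 2) V} (C : Ctx G q)

local notation "𝐁" => QuadraticMap.polarBilin q

theorem mem_symm {g g' : G} (h : g' * C.z * g'⁻¹ ∈ C.cQ g) (hne : g' * C.z * g'⁻¹ ≠ g * C.z * g⁻¹) :
    g * C.z * g⁻¹ ∈ C.cQ g' := by
  rw [mem_cQ] at h ⊢
  have := mem_conj_of_mem (g := g⁻¹ * g') C.x2 C.cent C.norm (by rw [C.card]; norm_num)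
    (by simpa [mul_assoc] using h) (fun e => hne ?_)
  · simpa [mul_assoc] using this
  · calc g' * C.z * g'⁻¹ = g * (g⁻¹ * g' * C.z * (g⁻¹ * g')⁻¹) * g⁻¹ := by group
      _ = g * C.z * g⁻¹ := by rw [e]

/-- A commuting conjugate outside `Q` without a conjugate in both extraspecial groups. -/
structure Out (g : G) : Prop where
  comm : Commute (g * C.z * g⁻¹) C.z
  notQ : g * C.z * g⁻¹ ∉ C.Q
  notQ' : C.z ∉ C.cQ g
  pure : ∀ x, C.Cl x → x ∈ C.Q → x ∈ C.cQ g → False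

variable {C}

theorem Out.symm {g : G} (h : C.Out g) : C.Out g⁻¹ := by
  refine ⟨?_, fun e => h.notQ' (C.mem_cQ.mpr (by simpa using e)), fun e => h.notQ ?_, fun x hx hQ hc => ?_⟩
  · have := (h.comm.map (MulAut.conj g⁻¹).toMonoidHom).symm
    simpa [mul_assoc] using this
  · simpa using C.mem_cQ.mp e
  · refine h.pure _ (C.cl_conj hx g) ?_ (C.mem_cQ.mpr ?_)
    · simpa using C.mem_cQ.mp hc
    · simpa [mul_assoc] using hQ

variable (C)

/-- The centralizer in `Q` of a conjugate. -/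
def cenQ (g : G) : Subgroup G := C.Q ⊓ centralizer ({g * C.z * g⁻¹} : Set G)

theorem mem_cenQ {g x : G} : x ∈ C.cenQ g ↔ x ∈ C.Q ∧ Commute x (g * C.z * g⁻¹) := by
  rw [cenQ, Subgroup.mem_inf, mem_centralizer_singleton_iff]; rfl

theorem inter_le (g : G) : C.Q ⊓ C.cQ g ≤ C.cenQ g := fun x hx =>
  C.mem_cenQ.mpr ⟨(Subgroup.mem_inf.mp hx).1, (C.x2' g).central x (Subgroup.mem_inf.mp hx).2⟩

variable {C} {g : G} (H : C.Out g)
include H

theorem Out.isEl : C.IsEl (C.cenQ g) := by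
  let A' := (C.cenQ g).map (MulAut.conj g⁻¹).toMonoidHom
  have hA' : ∀ a' ∈ A', Commute a' C.z := fun a' ha' => by
    rw [mem_map_conj, inv_inv] at ha'
    have := ((C.mem_cenQ.mp ha').2.map (MulAut.conj g⁻¹).toMonoidHom)
    simpa [mul_assoc] using this
  have hP : IsPGroup 2 A' := (C.x2.isP.to_le inf_le_left).map _
  have hR := C.imR_isP hA' hP
  have hmem : ∀ a ∈ C.cenQ g, g⁻¹ * a * g ∈ A' := fun a ha => by
    rw [mem_map_conj]; simpa [mul_assoc] using ha
  refine ⟨inf_le_left, fun a ha => ?_, fun a ha b hb => ?_⟩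
  · refine (C.x2.sq a (C.mem_cenQ.mp ha).1).resolve_right fun e => H.notQ' (e ▸ C.mem_cQ.mpr ?_)
    have hc := hA' _ (hmem a ha)
    rw [show g⁻¹ * (a * a) * g = g⁻¹ * a * g * (g⁻¹ * a * g) by group,
      ← C.μ_ker _ (hc.mul_left hc), C.μ_mul _ _ hc hc]
    exact two_group_sq hR _ ⟨_, hmem a ha, rfl⟩
  · refine commutatorElement_eq_one_iff_commute.mp
      ((C.x2.comm a (C.mem_cenQ.mp ha).1 b (C.mem_cenQ.mp hb).1).resolve_right fun e => H.notQ' (e ▸ C.mem_cQ.mpr ?_))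
    have hca := hA' _ (hmem a ha)
    have hcb := hA' _ (hmem b hb)
    rw [show g⁻¹ * ⁅a, b⁆ * g = g⁻¹ * a * g * (g⁻¹ * b * g) * (g⁻¹ * a * g)⁻¹ * (g⁻¹ * b * g)⁻¹ by
        rw [commutatorElement_def]; group,
      ← C.μ_ker _ (((hca.mul_left hcb).mul_left hca.inv_left).mul_left hcb.inv_left),
      C.μ_mul _ _ ((hca.mul_left hcb).mul_left hca.inv_left) hcb.inv_left, C.μ_conj hca hcb, C.μ_inv hcb,
      (two_group_comm hR _ ⟨_, hmem a ha, rfl⟩ _ ⟨_, hmem b hb, rfl⟩).eq]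
    group

theorem Out.card_le : Nat.card (C.cenQ g) ≤ 8 * Nat.card (C.Q ⊓ C.cQ g : Subgroup G) := by
  let A' := (C.cenQ g).map (MulAut.conj g⁻¹).toMonoidHom
  have hA' : ∀ a' ∈ A', Commute a' C.z := fun a' ha' => by
    rw [mem_map_conj, inv_inv] at ha'
    have := ((C.mem_cenQ.mp ha').2.map (MulAut.conj g⁻¹).toMonoidHom)
    simpa [mul_assoc] using this
  have h8 := card_le_eight (C.imR_isP hA' ((C.x2.isP.to_le inf_le_left).map _))
  have h := C.card_le_imR hA'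
  rw [Subgroup.card_map_of_injective (MulAut.conj g⁻¹).injective] at h
  have hle : (A' ⊓ C.Q).map (MulAut.conj g).toMonoidHom ≤ C.Q ⊓ C.cQ g := by
    intro x hx
    obtain ⟨h1, h2⟩ := Subgroup.mem_inf.mp (mem_map_conj.mp hx)
    rw [mem_map_conj, inv_inv] at h1
    refine Subgroup.mem_inf.mpr ⟨?_, C.mem_cQ.mpr h2⟩
    simpa [mul_assoc] using (C.mem_cenQ.mp h1).1
  have h' := Subgroup.card_le_of_le hle
  rw [Subgroup.card_map_of_injective (MulAut.conj g).injective] at h'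
  exact h.trans (Nat.mul_le_mul h8 h')

theorem Out.no_comm {e : G} (he : e ∈ C.Q)
    (h : g * C.z * g⁻¹ * e * (g * C.z * g⁻¹)⁻¹ * e⁻¹ ∈ C.cQ g) :
    g * C.z * g⁻¹ * e * (g * C.z * g⁻¹)⁻¹ * e⁻¹ = 1 := by
  set v := g * C.z * g⁻¹ with hv
  set k := v * e * v⁻¹ * e⁻¹ with hk
  have hvv : v * v = 1 := (C.x2' g).zz
  have hkQ : k ∈ C.Q := mul_mem (C.conj_mem H.comm he) (inv_mem he)
  by_contra hk1
  have heq : g⁻¹ * (e * v * e⁻¹) * g = C.z * (g⁻¹ * k * g) := by
    rw [show C.z * (g⁻¹ * k * g) = g⁻¹ * (v * k) * g by rw [hv]; group, hk,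
      show v * (v * e * v⁻¹ * e⁻¹) = v * v * e * v⁻¹ * e⁻¹ by group, hvv, one_mul, inv_eq_of_mul_eq_one_left hvv]
  set t := g⁻¹ * (e * v * e⁻¹) * g with ht
  have htcl : C.Cl t := by
    have := C.cl_conj (C.cl_conj (C.cl_conj C.cl_z g) e) g⁻¹
    rwa [inv_inv] at this
  have htQ : t ∈ C.Q := heq ▸ mul_mem C.x2.mem (C.mem_cQ.mp h)
  have ht0 : C.π t ≠ 0 := by
    intro h0
    rcases C.eq_cases htQ h0 with e' | e'
    · exact C.cl_ne htcl e'
    · rw [heq, mul_eq_left, ← conj_eq_one_iff (a := g)] at e'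
      exact hk1 (by simpa [mul_assoc] using e')
  obtain ⟨y, -, hy⟩ := C.q_conj_mem htQ ht0
  refine H.pure k ?_ hkQ h
  have := C.cl_conj (C.cl_conj htcl y) g
  rwa [hy, heq, ← mul_assoc C.z C.z, C.x2.zz, one_mul,
    show g * (g⁻¹ * k * g) * g⁻¹ = k by group] at this

theorem Out.π_comm' {x : G} (hx : x ∈ C.Q) :
    C.π (g * C.z * g⁻¹ * x * (g * C.z * g⁻¹)⁻¹ * x⁻¹) = C.ρ (C.μ (g * C.z * g⁻¹)) (C.π x) + C.π x := by
  rw [C.π_mul _ (C.conj_mem H.comm hx) _ (inv_mem hx), C.π_inv hx, ← C.ρ_π _ H.comm x hx]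

theorem Out.T_sq : C.ρ (C.μ (g * C.z * g⁻¹)) * C.ρ (C.μ (g * C.z * g⁻¹)) = 1 := by
  rw [← map_mul, ← C.μ_mul _ _ H.comm H.comm, (C.x2' g).zz, C.μ_one, map_one]

theorem Out.conj_fix {x : G} (hx : x ∈ C.Q) (hf : C.π x ∈ fixs (C.ρ (C.μ (g * C.z * g⁻¹)))) :
    x ∈ C.cenQ g ∨ g * C.z * g⁻¹ * x * (g * C.z * g⁻¹)⁻¹ = C.z * x := by
  rw [mem_fixs, C.ρ_π _ H.comm x hx] at hf
  rcases (C.eq_iff hx (C.conj_mem H.comm hx)).mp hf.symm with e | e
  · exact Or.inl (C.mem_cenQ.mpr ⟨hx, (mul_inv_eq_iff_eq_mul.mp e).symm⟩)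
  · exact Or.inr e

theorem Out.z_mem : C.z ∈ C.cenQ g := C.mem_cenQ.mpr ⟨C.x2.mem, H.comm.symm⟩

theorem Out.im_le : C.im (C.cenQ g) H.isEl.le ≤ fixs (C.ρ (C.μ (g * C.z * g⁻¹))) := by
  rintro _ ⟨a, ha, rfl⟩
  rw [mem_fixs, C.ρ_π _ H.comm a (H.isEl.le ha), (C.mem_cenQ.mp ha).2.symm.eq, mul_inv_cancel_right]

theorem Out.exists_zb : ∃ zb : Bool → G, (∀ b, zb b ∈ C.cenQ g) ∧
    (∀ b, ∀ x ∈ C.Q, C.π (zb b * x) = C.π x) ∧ Function.Injective zb := by
  refine ⟨fun b => bif b then C.z else 1, fun b => ?_, fun b x hx => ?_, fun b b' h => ?_⟩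
  · cases b
    exacts [one_mem _, H.z_mem]
  · cases b
    · exact congrArg C.π (one_mul x)
    · exact C.π_zmul hx
  · cases b <;> cases b'
    exacts [rfl, absurd h.symm C.x2.ne, absurd h C.x2.ne, rfl]

/-- No element of `Q` is inverted into the centre. -/
theorem Out.no_z {e : G} (he : e ∈ C.Q) : g * C.z * g⁻¹ * e * (g * C.z * g⁻¹)⁻¹ ≠ C.z * e := by
  intro hez
  classical
  set T := C.ρ (C.μ (g * C.z * g⁻¹)) with hT
  have hiso : Iso q T := C.ρ_iso _
  set F := fixs T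
  set I := img T
  -- the fixed space is bounded by the centralizer
  have hcardF : Nat.card F ≤ Nat.card (C.cenQ g) := by
    choose l hlQ hlπ using fun v : F => C.π_surj (v : V)
    have hl : ∀ v : F, l v ∈ C.cenQ g ∨ l v * e ∈ C.cenQ g := fun v => by
      rcases H.conj_fix (hlQ v) (by rw [hlπ]; exact v.2) with h | h
      · exact Or.inl h
      refine Or.inr (C.mem_cenQ.mpr ⟨mul_mem (hlQ v) he, (mul_inv_eq_iff_eq_mul.mp ?_).symm⟩)
      calc g * C.z * g⁻¹ * (l v * e) * (g * C.z * g⁻¹)⁻¹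
          = (g * C.z * g⁻¹ * l v * (g * C.z * g⁻¹)⁻¹) * (g * C.z * g⁻¹ * e * (g * C.z * g⁻¹)⁻¹) := by group
        _ = C.z * (l v * C.z) * e := by rw [h, hez]; group
        _ = l v * e := by rw [(C.x2.central _ (hlQ v)).eq, ← mul_assoc, C.x2.zz, one_mul]
    obtain ⟨zb, hzb, hπb, hb⟩ := H.exists_zb
    let f : F × Bool → C.cenQ g × Bool := fun p =>
      if h : l p.1 ∈ C.cenQ g then (⟨zb p.2 * l p.1, mul_mem (hzb _) h⟩, true)
      else (⟨zb p.2 * (l p.1 * e), mul_mem (hzb _) ((hl p.1).resolve_left h)⟩, false)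
    have hf : Function.Injective f := by
      rintro ⟨v, b⟩ ⟨v', b'⟩ h
      simp only [f] at h
      split_ifs at h with h1 h2 h2
      all_goals
        have h' := congrArg (fun p => ((p.1 : C.cenQ g) : G)) h
        have hfl := congrArg Prod.snd h
        simp only at h'
      any_goals exact Bool.noConfusion hfl
      · have hv : v = v' := Subtype.ext (by
          rw [← hlπ v, ← hlπ v', ← hπb b _ (hlQ v), h', hπb b' _ (hlQ v')])
        subst hv
        exact Prod.ext rfl (hb (mul_right_cancel h'))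
      · have hv : v = v' := Subtype.ext (by
          have := congrArg C.π h'
          rw [hπb b _ (mul_mem (hlQ v) he), hπb b' _ (mul_mem (hlQ v') he), C.π_mul _ (hlQ v) _ he,
            C.π_mul _ (hlQ v') _ he, hlπ, hlπ] at this
          exact add_right_cancel this)
        subst hv
        exact Prod.ext rfl (hb (mul_right_cancel h'))
    have := Nat.card_le_card_of_injective f hf
    rw [Nat.card_prod, Nat.card_prod] at this
    exact Nat.le_of_mul_le_mul_right this Nat.card_pos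
  let P := C.im (C.Q ⊓ C.cQ g) inf_le_left
  have hPF : P ≤ F := by
    rintro _ ⟨a, ha, rfl⟩
    exact H.im_le ⟨a, C.inter_le g ha, rfl⟩
  have hIF : I ≤ F := img_le_fixs H.T_sq
  have hPI : P ⊓ I = ⊥ := by
    rw [Submodule.eq_bot_iff]
    rintro p ⟨⟨k, hk, rfl⟩, hI⟩
    obtain ⟨v, hv⟩ := mem_img.mp hI
    obtain ⟨x, hx, rfl⟩ := C.π_surj v
    obtain ⟨hkQ, hkQ'⟩ := Subgroup.mem_inf.mp hk
    set c := g * C.z * g⁻¹ * x * (g * C.z * g⁻¹)⁻¹ * x⁻¹ with hc
    have hcQ : c ∈ C.Q := mul_mem (C.conj_mem H.comm hx) (inv_mem hx)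
    have hck : C.π k = C.π c := by rw [H.π_comm' hx]; exact hv.symm
    rcases (C.eq_iff hkQ hcQ).mp hck with e' | e'
    · rw [← e', show c = 1 from H.no_comm hx (by rw [← hc, e']; exact hkQ'), C.π_one]
    · have hex : g * C.z * g⁻¹ * (e * x) * (g * C.z * g⁻¹)⁻¹ * (e * x)⁻¹ = k := by
        have hce : Commute e c := by
          refine ((C.B_eq he hcQ).mp ?_)
          rw [← hck, B_comm]
          refine C.S.mem_perp.mp ?_ _ hI
          rw [C.S.perp_img hiso, mem_fixs, hT, C.ρ_π _ H.comm e he, hez, C.π_zmul he]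
        calc g * C.z * g⁻¹ * (e * x) * (g * C.z * g⁻¹)⁻¹ * (e * x)⁻¹
            = (g * C.z * g⁻¹ * e * (g * C.z * g⁻¹)⁻¹) * c * e⁻¹ := by rw [hc]; group
          _ = C.z * (e * c) * e⁻¹ := by rw [hez]; group
          _ = C.z * c := by rw [hce.eq]; group
          _ = k := by rw [e', ← mul_assoc, C.x2.zz, one_mul]
      rw [← hex, H.no_comm (mul_mem he hx) (hex ▸ hkQ'), C.π_one]
  have hWP : Nat.card (C.Q ⊓ C.cQ g : Subgroup G) ≤ Nat.card P := by
    refine Nat.card_le_card_of_injective (fun a => ⟨C.π a, a, a.2, rfl⟩) fun a b h => ?_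
    rcases (C.eq_iff (Subgroup.mem_inf.mp a.2).1 (Subgroup.mem_inf.mp b.2).1).mp (congrArg Subtype.val h) with
      e' | e'
    · exact Subtype.ext e'.symm
    · refine absurd ?_ H.notQ'
      have := mul_mem (Subgroup.mem_inf.mp b.2).2 (inv_mem (Subgroup.mem_inf.mp a.2).2)
      rwa [e', mul_inv_cancel_right] at this
  have hcF := Module.natCard_eq_pow_finrank (K := ZMod 2) (V := F)
  have hcP := Module.natCard_eq_pow_finrank (K := ZMod 2) (V := P)
  rw [Nat.card_zmod] at hcF hcP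
  have hdF : finrank (ZMod 2) F ≤ 5 := by
    have := hcardF.trans H.isEl.card_le
    rw [hcF] at this
    exact (Nat.pow_le_pow_iff_right (by norm_num : 1 < 2)).mp (this.trans_eq (by norm_num : 32 = 2 ^ 5))
  have hdP : finrank (ZMod 2) F ≤ 3 + finrank (ZMod 2) P := by
    have := hcardF.trans (H.card_le.trans (Nat.mul_le_mul_left 8 hWP))
    rw [hcF, hcP, show 8 = 2 ^ 3 from rfl, ← pow_add] at this
    exact (Nat.pow_le_pow_iff_right (by norm_num : 1 < 2)).mp this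
  have hsum := Submodule.finrank_sup_add_finrank_inf_eq P I
  rw [hPI, finrank_bot, add_zero] at hsum
  have hdI := finrank_fixs_img T
  rw [C.dim] at hdI
  change finrank (ZMod 2) I + finrank (ZMod 2) F = 8 at hdI
  have hle := Submodule.finrank_mono (sup_le hPF hIF)
  have hIle := Submodule.finrank_mono hIF
  rcases Nat.lt_or_ge (finrank (ZMod 2) (P ⊔ I : Submodule (ZMod 2) V)) (finrank (ZMod 2) F) with hlt | hge
  · omega
  have htop := Submodule.eq_of_le_of_finrank_le (sup_le hPF hIF) hge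
  have hP0 : P ≤ I := by
    intro p hp
    rw [← C.S.perp_perp I, C.S.perp_img hiso]
    refine C.S.mem_perp.mpr fun f hf => ?_
    change f ∈ F at hf
    rw [← htop] at hf
    obtain ⟨p', hp', i, hi, rfl⟩ := Submodule.mem_sup.mp hf
    rw [map_add, LinearMap.add_apply, C.S.mem_perp.mp ((C.S.perp_img hiso).symm ▸ hPF hp) i hi, add_zero]
    obtain ⟨a, ha, rfl⟩ := hp'
    obtain ⟨b, hb, rfl⟩ := hp
    exact (C.B_eq (H.isEl.le (C.inter_le g ha)) (H.isEl.le (C.inter_le g hb))).mpr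
      (H.isEl.comm _ (C.inter_le g ha) _ (C.inter_le g hb))
  have : finrank (ZMod 2) P = 0 := by
    rw [Submodule.finrank_eq_zero, ← le_bot_iff, ← hPI]
    exact le_inf le_rfl hP0
  omega

theorem Out.data : fixs (C.ρ (C.μ (g * C.z * g⁻¹))) = img (C.ρ (C.μ (g * C.z * g⁻¹))) ∧
    C.im (C.cenQ g) H.isEl.le = fixs (C.ρ (C.μ (g * C.z * g⁻¹))) ∧ Nat.card (C.cenQ g) = 32 ∧
    4 ≤ Nat.card (C.Q ⊓ C.cQ g : Subgroup G) := by
  classical
  set T := C.ρ (C.μ (g * C.z * g⁻¹))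
  set F := fixs T
  choose l hlQ hlπ using fun v : F => C.π_surj (v : V)
  have hl : ∀ v : F, l v ∈ C.cenQ g := fun v =>
    (H.conj_fix (hlQ v) (by rw [hlπ]; exact v.2)).resolve_right (H.no_z (hlQ v))
  obtain ⟨zb, hzb, hπb, hb⟩ := H.exists_zb
  let f : F × Bool → C.cenQ g := fun p => ⟨zb p.2 * l p.1, mul_mem (hzb _) (hl p.1)⟩
  have hf : Function.Injective f := by
    rintro ⟨v, b⟩ ⟨v', b'⟩ h
    have h' : zb b * l v = zb b' * l v' := congrArg Subtype.val h
    have hv : v = v' := Subtype.ext (by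
      rw [← hlπ v, ← hlπ v', ← hπb b _ (hlQ v), h', hπb b' _ (hlQ v')])
    subst hv
    exact Prod.ext rfl (hb (mul_right_cancel h'))
  have h1 := Nat.card_le_card_of_injective f hf
  rw [Nat.card_prod, Nat.card_eq_fintype_card (α := Bool), Fintype.card_bool,
    Module.natCard_eq_pow_finrank (K := ZMod 2) (V := F), Nat.card_zmod, ← pow_succ] at h1
  have h32 := H.isEl.card_le
  have hd : finrank (ZMod 2) F ≤ 4 := by
    have := (Nat.pow_le_pow_iff_right (by norm_num : 1 < 2)).mp ((h1.trans h32).trans_eq (by norm_num : 32 = 2 ^ 5))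
    omega
  have hdI := finrank_fixs_img T
  rw [C.dim] at hdI
  change finrank (ZMod 2) (img T) + finrank (ZMod 2) F = 8 at hdI
  have hIF : img T ≤ F := img_le_fixs H.T_sq
  have hIle := Submodule.finrank_mono hIF
  have hd4 : finrank (ZMod 2) F = 4 := by omega
  have hA : Nat.card (C.cenQ g) = 32 := by rw [hd4] at h1; omega
  refine ⟨(Submodule.eq_of_le_of_finrank_le hIF (by omega)).symm, ?_, hA, ?_⟩
  · exact Submodule.eq_of_le_of_finrank_le H.im_le ((IsEl.max C H.isEl hA.ge).2.1 ▸ hd)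
  · have := H.card_le; omega

theorem Out.key {a b : G} (ha : a ∈ C.Q ⊓ C.cQ g) (hb : b ∈ C.Q ⊓ C.cQ g) (ha1 : a ≠ 1) (hb1 : b ≠ 1)
    (hab : a ≠ b) {v : V} (hv : C.ρ (C.μ (g * C.z * g⁻¹)) v + v = C.π a) : 𝐁 v (C.π b) = 1 := by
  obtain ⟨haQ, haQ'⟩ := Subgroup.mem_inf.mp ha
  obtain ⟨hbQ, hbQ'⟩ := Subgroup.mem_inf.mp hb
  have hI : C.π b ∈ img (C.ρ (C.μ (g * C.z * g⁻¹))) := by
    rw [← H.data.1]; exact H.im_le ⟨b, C.inter_le g hb, rfl⟩
  obtain ⟨v', hv'⟩ := mem_img.mp hI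
  obtain ⟨y, hy, rfl⟩ := C.π_surj v'
  obtain ⟨x, hx, rfl⟩ := C.π_surj v
  set t := g * C.z * g⁻¹ with ht
  have hc : ∀ x ∈ C.Q, ∀ a, a ∈ C.Q → a ∈ C.cQ g → a ≠ 1 → C.π (t * x * t⁻¹ * x⁻¹) = C.π a →
      t * x * t⁻¹ * x⁻¹ = C.z * a := by
    intro x hx a haQ haQ' ha1 h
    refine ((C.eq_iff haQ (mul_mem (C.conj_mem H.comm hx) (inv_mem hx))).mp h.symm).resolve_left fun e => ha1 ?_
    rw [← e]; exact H.no_comm hx (e ▸ haQ')
  have hxa := hc x hx a haQ haQ' ha1 ((H.π_comm' hx).trans hv)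
  have hyb := hc y hy b hbQ hbQ' hb1 ((H.π_comm' hy).trans hv')
  refine (zmod2_cases _).resolve_left fun h0 => hab ?_
  have hxb : Commute x b := (C.B_eq hx hbQ).mp h0
  have e : t * (x * y) * t⁻¹ * (x * y)⁻¹ = a * b := by
    calc t * (x * y) * t⁻¹ * (x * y)⁻¹ = (t * x * t⁻¹ * x⁻¹) * (x * (t * y * t⁻¹ * y⁻¹) * x⁻¹) := by group
      _ = C.z * a * (x * (C.z * b) * x⁻¹) := by rw [hxa, hyb]
      _ = C.z * a * C.z * b := by
        rw [((C.x2.central x hx).mul_right hxb).eq]; group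
      _ = a * b := by rw [mul_assoc C.z a C.z, (C.x2.central a haQ).eq, ← mul_assoc C.z C.z, C.x2.zz, one_mul]
  have := H.no_comm (mul_mem hx hy) (e ▸ mul_mem haQ' hbQ')
  rw [e] at this
  rw [eq_inv_of_mul_eq_one_left this, inv_eq_of_mul_eq_one_left (H.isEl.sq b (C.inter_le g hb))]

theorem Out.card_inter_le : Nat.card (C.Q ⊓ C.cQ g : Subgroup G) ≤ 4 := by
  classical
  by_contra hlt
  set W := C.Q ⊓ C.cQ g
  have hbig : ∀ s : Finset W, s.card ≤ 4 → ∃ x : W, x ∉ s := fun s hs => by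
    by_contra hall
    push Not at hall
    haveI := Fintype.ofFinite W
    have := Finset.card_le_card (fun x _ => hall x : (Finset.univ : Finset W) ⊆ s)
    rw [Finset.card_univ, ← Nat.card_eq_fintype_card] at this
    omega
  obtain ⟨a, ha⟩ := hbig {1} (by simp)
  obtain ⟨b, hb⟩ := hbig {1, a} (le_trans Finset.card_le_two (by norm_num))
  obtain ⟨c, hc⟩ := hbig {1, a, b, a * b} Finset.card_le_four
  simp only [Finset.mem_insert, Finset.mem_singleton, not_or] at ha hb hc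
  have hsq : ∀ x : W, x * x = 1 := fun x => Subtype.ext (H.isEl.sq x (C.inter_le g x.2))
  have hbc : b * c ≠ 1 := fun e => hc.2.2.1 (by
    calc c = b * b * c := by rw [hsq, one_mul]
      _ = b := by rw [mul_assoc, e, mul_one])
  have hbca : b * c ≠ a := fun e => hc.2.2.2 (by
    have hcomm : a * b = b * a := Subtype.ext (H.isEl.comm _ (C.inter_le g a.2) _ (C.inter_le g b.2)).eq
    calc c = b * b * c := by rw [hsq, one_mul]
      _ = b * a := by rw [mul_assoc, e]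
      _ = a * b := hcomm.symm)
  obtain ⟨v, hv⟩ := mem_img.mp (show C.π (a : G) ∈ img (C.ρ (C.μ (g * C.z * g⁻¹))) by
    rw [← H.data.1]; exact H.im_le ⟨a, C.inter_le g a.2, rfl⟩)
  have h1 := H.key a.2 b.2 (fun e => ha (Subtype.ext e)) (fun e => hb.1 (Subtype.ext e))
    (fun e => hb.2 (Subtype.ext e.symm)) hv
  have h2 := H.key a.2 c.2 (fun e => ha (Subtype.ext e)) (fun e => hc.1 (Subtype.ext e))
    (fun e => hc.2.1 (Subtype.ext e.symm)) hv
  have h3 := H.key a.2 (b * c).2 (fun e => ha (Subtype.ext e)) (fun e => hbc (Subtype.ext e))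
    (fun e => hbca (Subtype.ext e.symm)) hv
  rw [coe_mul, C.π_mul _ (Subgroup.mem_inf.mp b.2).1 _ (Subgroup.mem_inf.mp c.2).1, map_add, h1, h2] at h3
  exact absurd h3 (by decide)

theorem Out.false : False := by
  classical
  set t := g * C.z * g⁻¹ with ht
  set I := img (C.ρ (C.μ t)) with hI
  obtain ⟨hFI, himA, -, h4⟩ := H.data
  let B := C.cQ g ⊓ centralizer ({C.z} : Set G)
  have hBz : ∀ b ∈ B, Commute b C.z := C.centralizes_of_B
  have hmemB : ∀ {x : G}, x ∈ B ↔ x ∈ C.cQ g ∧ Commute x C.z := fun {x} => by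
    rw [Subgroup.mem_inf, mem_centralizer_singleton_iff]; rfl
  have hBeq : B = (C.cenQ g⁻¹).map (MulAut.conj g).toMonoidHom := by
    ext x
    rw [mem_map_conj, mem_cenQ, hmemB, mem_cQ, inv_inv]
    refine and_congr_right fun _ => ⟨fun h => ?_, fun h => ?_⟩
    · have := h.map (MulAut.conj g⁻¹).toMonoidHom
      simpa [mul_assoc] using this
    · have := h.map (MulAut.conj g).toMonoidHom
      simpa [mul_assoc] using this
  have hBcard : Nat.card B = 32 := by
    rw [hBeq, Subgroup.card_map_of_injective (MulAut.conj g).injective]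
    exact H.symm.data.2.2.1
  have hBcomm : ∀ a ∈ B, ∀ b ∈ B, Commute a b := by
    rw [hBeq]
    rintro _ ⟨a, ha, rfl⟩ _ ⟨b, hb, rfl⟩
    exact (H.symm.isEl.comm a ha b hb).map _
  have htB : t ∈ B := hmemB.mpr ⟨(C.x2' g).mem, H.comm⟩
  have hWB : C.Q ⊓ C.cQ g ≤ B := fun x hx =>
    hmemB.mpr ⟨(Subgroup.mem_inf.mp hx).2, C.x2.central x (Subgroup.mem_inf.mp hx).1⟩
  have hfix : ∀ b ∈ B, ∀ i ∈ I, C.ρ (C.μ b) i = i := by
    intro b hb i hi
    have hbz := hBz b hb
    obtain ⟨a, ha, rfl⟩ : i ∈ C.im (C.cenQ g) H.isEl.le := by rw [himA, hFI]; exact hi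
    obtain ⟨haQ, hat⟩ := C.mem_cenQ.mp ha
    obtain ⟨v, hv⟩ := mem_img.mp hi
    set w := b * a * b⁻¹ * a⁻¹ with hw
    have hwW : w ∈ C.Q ⊓ C.cQ g := by
      refine Subgroup.mem_inf.mpr ⟨mul_mem (C.conj_mem hbz haQ) (inv_mem haQ), ?_⟩
      rw [show w = b * (a * b⁻¹ * a⁻¹) by rw [hw]; group]
      exact mul_mem (hmemB.mp hb).1 (C.conj_mem' hat (inv_mem (hmemB.mp hb).1))
    have hπw : C.ρ (C.μ b) (C.π a) + C.π a = C.π w := by
      rw [hw, C.π_mul _ (C.conj_mem hbz haQ) _ (inv_mem haQ), C.π_inv haQ, C.ρ_π b hbz a haQ]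
    refine add_eq_zero_iff'.mp (by_contra fun hne => ?_)
    have hw1 : w ≠ 1 := fun e => hne (by rw [hπw, e, C.π_one])
    obtain ⟨c, hcW, hc1, hcw⟩ : ∃ c ∈ C.Q ⊓ C.cQ g, c ≠ 1 ∧ c ≠ w := by
      by_contra hno
      push Not at hno
      have hsub : ((C.Q ⊓ C.cQ g : Subgroup G) : Set G) ⊆ {1, w} := fun x hx => by
        by_cases h1 : x = 1
        · exact Or.inl h1
        · exact Or.inr (hno x hx h1)
      have hle : Nat.card (C.Q ⊓ C.cQ g : Subgroup G) ≤ 2 :=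
        calc Nat.card (C.Q ⊓ C.cQ g : Subgroup G) = ((C.Q ⊓ C.cQ g : Subgroup G) : Set G).ncard :=
              Nat.card_coe_set_eq _
          _ ≤ ({1, w} : Set G).ncard := Set.ncard_le_ncard hsub (Set.toFinite _)
          _ ≤ 2 := (Set.ncard_insert_le _ _).trans (by rw [Set.ncard_singleton])
      omega
    have hcomm : ∀ x : V, C.ρ (C.μ t) (C.ρ (C.μ b) x) = C.ρ (C.μ b) (C.ρ (C.μ t) x) := fun x => by
      rw [← LinearEquiv.mul_apply, ← LinearEquiv.mul_apply, ← map_mul, ← map_mul, ← C.μ_mul _ _ H.comm hbz,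
        ← C.μ_mul _ _ hbz H.comm, (hBcomm t htB b hb).eq]
    have hk := H.key hwW hcW hw1 hc1 hcw.symm (v := C.ρ (C.μ b) v + v) (by
      rw [map_add, hcomm, ← hπw, ← hv, map_add]; abel)
    have hbc : C.ρ (C.μ b) (C.π c) = C.π c := by
      rw [C.ρ_π b hbz c (Subgroup.mem_inf.mp hcW).1, (hBcomm b hb c (hWB hcW)).eq, mul_inv_cancel_right]
    have h1 : 𝐁 (C.ρ (C.μ b) v) (C.π c) = 𝐁 v (C.π c) := by
      conv_lhs => rw [← hbc]
      exact (C.ρ_iso _).B _ _
    rw [map_add, LinearMap.add_apply, h1, CharTwo.add_self_eq_zero] at hk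
    exact zero_ne_one hk
  have hP : IsPGroup 2 B := ((C.x2' g).isP).to_le inf_le_left
  have hT8 : Nat.card (C.imR B hBz) = 8 := by
    refine le_antisymm (card_le_eight (C.imR_isP hBz hP)) ?_
    have h := C.card_le_imR hBz
    have hle : B ⊓ C.Q ≤ C.Q ⊓ C.cQ g := fun x hx =>
      Subgroup.mem_inf.mpr ⟨(Subgroup.mem_inf.mp hx).2, (hmemB.mp (Subgroup.mem_inf.mp hx).1).1⟩
    have h' := h.trans (Nat.mul_le_mul_left _ ((Subgroup.card_le_of_le hle).trans H.card_inter_le))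
    omega
  obtain ⟨h, hh⟩ := exists_conj_sylS hT8
  have hlift : ∀ k, ∃ b ∈ B, iR k = h * C.μ b * h⁻¹ := fun k => by
    obtain ⟨b, hb, e⟩ := (hh (h⁻¹ * iR k * h)).mpr (by
      rw [show h * (h⁻¹ * iR k * h) * h⁻¹ = iR k by group]; exact iR_mem k)
    exact ⟨b, hb, by rw [e]; group⟩
  refine no_quadratic C.S C.dim C.ρ C.ρ_iso C.ρ_inj (I.map (C.ρ h).toLinearMap) ?_ (fun k v => ?_) fun k v hv => ?_
  · rintro _ ⟨i, hi, rfl⟩
    refine (C.ρ_iso h i).trans ?_
    exact IsEl.singular C H.isEl i (by rw [himA, hFI]; exact hi)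
  · obtain ⟨b, hb, e⟩ := hlift k
    refine ⟨C.ρ (C.μ b) ((C.ρ h).symm v) + (C.ρ h).symm v, ?_, ?_⟩
    · show _ ∈ I
      rw [hI, ← hFI, ← C.S.perp_img (C.ρ_iso _)]
      refine C.S.mem_perp.mpr fun i hi => ?_
      rw [map_add]
      conv_lhs => arg 1; rw [← hfix b hb i hi]
      rw [(C.ρ_iso _).B]
      exact CharTwo.add_self_eq_zero _
    · show C.ρ h _ = _
      rw [e, map_mul, map_mul, map_add, LinearEquiv.mul_apply, LinearEquiv.mul_apply, map_inv,
        LinearEquiv.apply_symm_apply]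
      rfl
  · obtain ⟨i, hi, rfl⟩ := hv
    obtain ⟨b, hb, e⟩ := hlift k
    show C.ρ (iR k) (C.ρ h i) = C.ρ h i
    rw [← LinearEquiv.mul_apply, ← map_mul, e, show h * C.μ b * h⁻¹ * h = h * C.μ b by group, map_mul,
      LinearEquiv.mul_apply, hfix b hb i hi]

omit H in
/-- A commuting conjugate outside `Q` lies in the extraspecial group of a conjugate inside `Q`. -/
theorem outside (hc : Commute (g * C.z * g⁻¹) C.z) (hQ : g * C.z * g⁻¹ ∉ C.Q) :
    ∃ g' : G, g' * C.z * g'⁻¹ ∈ C.Q ∧ g' * C.z * g'⁻¹ ≠ C.z ∧ g * C.z * g⁻¹ ∈ C.cQ g' := by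
  have hne : C.z ≠ g * C.z * g⁻¹ := fun e => hQ (e ▸ C.x2.mem)
  have hz : C.z ∉ C.cQ g := fun e => hQ (by
    have h := C.mem_symm (g := g) (g' := 1) (by simpa using e) (by simpa using hne)
    simpa using C.mem_cQ.mp h)
  by_contra hno
  push Not at hno
  refine Out.false (g := g) ⟨hc, hQ, hz, fun x hx hxQ hxQ' => ?_⟩
  obtain ⟨g', rfl⟩ := isConj_iff.mp hx
  exact hno g' hxQ (fun e => hz (e ▸ hxQ')) (C.mem_symm hxQ' fun e => hQ (e ▸ hxQ))

end Ctx

end Cfsg.Lib.OEightTwo
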