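import Cfsg.Agent.OEightTwo.Relations
import Cfsg.Agent.OEightTwo.Outside
import Cfsg.Agent.OEightTwo.Global
import Cfsg.Agent.Known.CurtisTitsA.SimplyLaced
import Cfsg.Agent.Known.StN.Lift
import Cfsg.Agent.Classical.AutOrders.D4Any
import Cfsg.Agent.ConwayType.Space
import Cfsg.Agent.S1077
import Cfsg.Agent.S1054
import Cfsg.Agent.S2401

/-!
The group generated by the three copies of `SL 3` is the orthogonal group, and it is everything.
-/

set_option autoImplicit false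
set_option linter.style.haveILetI false
set_option linter.unusedSectionVars false

open Subgroup Cfsg.Lib.LargeExtra Cfsg.Lib.LargeExtra.EightSmith
open Cfsg.Lie
open Matrix (SpecialLinearGroup)
open Cfsg.Lib.StN (T)
open scoped commutatorElement

namespace Cfsg.Lib.OEightTwo

universe u w

/-- The edges of the diagram of type `D₄`. -/
def edgesD : List (ℕ × ℕ) := [(0, 1), (1, 2), (1, 3)]

theorem okD4 : Cfsg.Lib.Known.CurtisTitsA.Laced.okLaced chevD4 edgesD = true := by decide +kernel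

theorem rankD4 : chevD4.rank = 4 := by decide +kernel

section SL3

variable {H : Type u} [Group H] {a a' b b' c c' : H}

theorem Split.Rels.swap (h : Split.Rels a a' b b' c c') : Split.Rels b b' a a' c c' := by
  obtain ⟨⟨h1, h2, h3, h4, h5, h6⟩, e1, e2, e3, e4, e5, e6, d1, d2, d3, d4, d5, d6⟩ := h
  have rev : ∀ {x y r : H}, x * x = 1 → y * y = 1 → r * r = 1 → x * y * x * y = r → y * x * y * x = r := by
    intro x y r hx hy hr e
    rw [← inv_eq_of_mul_eq_one_right hr, ← e, mul_inv_rev, mul_inv_rev, mul_inv_rev,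
      inv_eq_of_mul_eq_one_right hx, inv_eq_of_mul_eq_one_right hy]
    group
  exact ⟨⟨h3, h4, h1, h2, h5, h6⟩, rev h1 h3 h5 e1, rev h5 h4 h1 e3, rev h2 h5 h3 e2, rev h2 h4 h6 e4, e6, e5,
    d2.symm, d1.symm, d4, d3, d6, d5⟩

/-- The root elements of an edge. -/
def tab (a a' b b' c c' : H) (i j : Fin 3) : H :=
  ![![1, a, c], ![a', 1, b], ![c', b', 1]] i j

theorem exists_sl3 (h : Split.Rels a a' b b' c c') : ∃ ψ : SpecialLinearGroup (Fin 3) (ZMod 2) →* H,
    ψ (T 0 1 1) = a ∧ ψ (T 1 0 1) = a' ∧ ψ (T 1 2 1) = b ∧ ψ (T 2 1 1) = b' := by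
  classical
  obtain ⟨⟨h1, h2, h3, h4, h5, h6⟩, e1, e2, e3, e4, e5, e6, d1, d2, d3, d4, d5, d6⟩ := h
  have rev : ∀ {x y r : H}, x * x = 1 → y * y = 1 → r * r = 1 → x * y * x * y = r → y * x * y * x = r := by
    intro x y r hx hy hr e
    rw [← inv_eq_of_mul_eq_one_right hr, ← e, mul_inv_rev, mul_inv_rev, mul_inv_rev,
      inv_eq_of_mul_eq_one_right hx, inv_eq_of_mul_eq_one_right hy]
    group
  let X : Fin 3 → Fin 3 → ZMod 2 → H := fun i j t => if t = 0 then 1 else tab a a' b b' c c' i j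
  have hsq : ∀ i j, tab a a' b b' c c' i j * tab a a' b b' c c' i j = 1 := by
    intro i j
    fin_cases i <;> fin_cases j <;> simp [tab, h1, h2, h3, h4, h5, h6]
  have hR : Cfsg.Lib.StN.Rels X := by
    refine ⟨fun i j _ t u => ?_, fun i j k l hij hkl hil hjk t u => ?_, fun i j l hij hjl hil t u => ?_⟩
    · rcases zmod2_cases t with rfl | rfl <;> rcases zmod2_cases u with rfl | rfl <;>
        simp [X, hsq, show (1 : ZMod 2) + 1 = 0 by decide]
    · have key : Commute (tab a a' b b' c c' i j) (tab a a' b b' c c' k l) := by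
        fin_cases i <;> fin_cases j <;> fin_cases k <;> fin_cases l <;> simp at hij hkl hil hjk <;>
          simp [tab, d1, d1.symm, d2, d2.symm, d3, d3.symm, d4, d4.symm, d5, d5.symm, d6, d6.symm]
      rcases zmod2_cases t with rfl | rfl <;> rcases zmod2_cases u with rfl | rfl <;> simp [X, key]
    · have key : ⁅tab a a' b b' c c' i j, tab a a' b b' c c' j l⁆ = tab a a' b b' c c' i l := by
        rw [commutatorElement_def, inv_eq_of_mul_eq_one_right (hsq i j), inv_eq_of_mul_eq_one_right (hsq j l)]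
        fin_cases i <;> fin_cases j <;> fin_cases l <;> simp at hij hjl hil <;>
          simp [tab, e1, e2, e3, e5, rev h2 h4 h6 e4, rev h6 h3 h2 e6]
      rcases zmod2_cases t with rfl | rfl <;> rcases zmod2_cases u with rfl | rfl <;>
        simp [X, key, commutatorElement_def]
  obtain ⟨e, he⟩ := Cfsg.Agent.S2401.result (K := ZMod 2) 3 le_rfl
  let f : {ij : Fin 3 × Fin 3 // ij.1 ≠ ij.2} × ZMod 2 → H := fun x => X x.1.1.1 x.1.1.2 x.2
  let ψ := (PresentedGroup.toGroup (f := f) (by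
    rintro r ((⟨⟨⟨i, j⟩, hij⟩, t, u, rfl⟩ | ⟨⟨⟨i, j⟩, hij⟩, ⟨⟨k, l⟩, hkl⟩, t, u, g1, g2, rfl⟩) |
      ⟨⟨⟨i, j⟩, hij⟩, ⟨⟨k, l⟩, hkl⟩, hil, t, u, g2, rfl⟩)
    · simp only [map_mul, map_inv, FreeGroup.lift_apply_of, f]
      rw [hR.add i j hij, mul_inv_cancel]
    · simp only [map_mul, map_inv, FreeGroup.lift_apply_of, f]
      rw [← commutatorElement_def, commutatorElement_eq_one_iff_commute]
      exact hR.disj i j k l hij hkl g1 g2 t u
    · simp only at g2
      subst g2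
      simp only [map_mul, map_inv, FreeGroup.lift_apply_of, f]
      rw [← commutatorElement_def, hR.comm i j l hij hkl hil, mul_inv_cancel])).comp e.symm.toMonoidHom
  have hψ : ∀ i j (hij : i ≠ j), ψ (T i j 1) = tab a a' b b' c c' i j := by
    intro i j hij
    have hT : T i j (1 : ZMod 2) = e (PresentedGroup.of (⟨(i, j), hij⟩, 1)) := Subtype.ext (by
      rw [Cfsg.Lib.StN.coe_T hij]; exact (he ⟨(i, j), hij⟩ 1).symm)
    rw [hT]
    simp only [ψ, MonoidHom.comp_apply, MulEquiv.coe_toMonoidHom, MulEquiv.symm_apply_apply, PresentedGroup.toGroup.of]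
    simp [f, X]
  exact ⟨ψ, hψ 0 1 (by decide), hψ 1 0 (by decide), hψ 1 2 (by decide), hψ 2 1 (by decide)⟩

theorem sl2_ext {f g : SpecialLinearGroup (Fin 2) (ZMod 2) →* H} (h1 : f (T 0 1 1) = g (T 0 1 1))
    (h2 : f (T 1 0 1) = g (T 1 0 1)) : f = g := by
  have htop : f.eqLocus g = ⊤ := by
    refine Cfsg.Lib.Classical.eq_top_of_transvection_mem _ fun i j hij t => ?_
    show f _ = g _
    rw [show SpecialLinearGroup.transvection hij t = T i j t by rw [Cfsg.Lib.StN.T, dif_pos hij]]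
    rcases zmod2_cases t with rfl | rfl
    · rw [(Cfsg.Lib.StN.rels_T (n := 2) (F := ZMod 2)).zero hij, map_one, map_one]
    · fin_cases i <;> fin_cases j
      exacts [absurd rfl hij, h1, h2, absurd rfl hij]
  exact MonoidHom.ext fun x => (htop ▸ Subgroup.mem_top x : x ∈ f.eqLocus g)

theorem sl2_range {f : SpecialLinearGroup (Fin 2) (ZMod 2) →* H} {x y : H} (h1 : f (T 0 1 1) = x)
    (h2 : f (T 1 0 1) = y) {P : H → Prop} (hone : P 1) (hmul : ∀ a b, P a → P b → P (a * b))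
    (hinv : ∀ a, P a → P a⁻¹) (hx : P x) (hy : P y) : ∀ m, P (f m) := by
  let K : Subgroup (SpecialLinearGroup (Fin 2) (ZMod 2)) :=
    { carrier := {m | P (f m)}
      one_mem' := by show P (f 1); rwa [map_one]
      mul_mem' := fun {a b} ha hb => by show P (f (a * b)); rw [map_mul]; exact hmul _ _ ha hb
      inv_mem' := fun {a} ha => by show P (f a⁻¹); rw [map_inv]; exact hinv _ ha }
  have htop : K = ⊤ := by
    refine Cfsg.Lib.Classical.eq_top_of_transvection_mem _ fun i j hij t => ?_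
    show P (f _)
    rw [show SpecialLinearGroup.transvection hij t = T i j t by rw [Cfsg.Lib.StN.T, dif_pos hij]]
    rcases zmod2_cases t with rfl | rfl
    · rwa [(Cfsg.Lib.StN.rels_T (n := 2) (F := ZMod 2)).zero hij, map_one]
    · fin_cases i <;> fin_cases j
      exacts [absurd rfl hij, h1 ▸ hx, h2 ▸ hy, absurd rfl hij]
  exact fun m => (htop ▸ Subgroup.mem_top m : m ∈ K)

end SL3

theorem gen_facts : (∀ σ : Equiv.Perm (Fin 3), σ = 1 ∨ σ = tau ∨ σ = Equiv.swap 0 2 ∨ σ = tau * Equiv.swap 0 2 ∨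
      σ = Equiv.swap 0 2 * tau ∨ σ = tau * Equiv.swap 0 2 * tau) ∧
    (∀ n : Fin 256, act 1 n = n) ∧
    (∀ p : Fin 3 → Fin 3, (fun k => (cyc ^ ((p k : ℕ) + 2)) ((fun _ => (1 : Fin 3)) k)) = p) := by
  decide +kernel

variable {G : Type u} {V : Type w} [Group G] [Finite G] [AddCommGroup V]
  [Module (ZMod 2) V] [Finite V] {q : QuadraticForm (ZMod 2) V} {C : Ctx G q}

set_option maxHeartbeats 1000000 in
/-- Recognition of the orthogonal group. -/
theorem exists_iso (C : Ctx G q) (S : Split C) :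
    Nonempty (G ≃* Cfsg.Omega (ZMod 2) (Cfsg.quadFormPlus 4 (ZMod 2))) := by
  classical
  obtain ⟨bp, hbpcl, hbz, hrel⟩ := S.exists_rel
  set b := S.σ fun _ => 1 with hb
  let gens : Set G := Set.range (fun k => S.s (iR k)) ∪ Set.range (fun k => S.s (jR k)) ∪ {b, bp}
  let H : Subgroup G := closure gens
  have hJ : ∀ k, S.s (iR k) ∈ H := fun k => subset_closure (Or.inl (Or.inl ⟨k, rfl⟩))
  have hJ' : ∀ k, S.s (jR k) ∈ H := fun k => subset_closure (Or.inl (Or.inr ⟨k, rfl⟩))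
  have hbH : b ∈ H := subset_closure (Or.inr (Or.inl rfl))
  have hbpH : bp ∈ H := subset_closure (Or.inr (Or.inr rfl))
  have hfH : ∀ k, S.σ (cosgl k 0) ∈ H := fun k => by
    rw [← (hrel k).ab]; exact mul_mem (mul_mem (mul_mem (hJ k) hbH) (hJ k)) hbH
  have hYH : ∀ k, S.s (nR k) * bp * S.s (nR k) ∈ H := fun k => by
    rw [← (hrel k).a'b']; exact mul_mem (mul_mem (mul_mem (hJ' k) hbpH) (hJ' k)) hbpH
  -- the centraliser lies in `H`
  have hs : ∀ r, S.s r ∈ H := by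
    intro r
    have hsingle : ∀ k σ, S.s (Pi.mulSingle k σ) ∈ H := by
      intro k σ
      have e1 : S.s (Pi.mulSingle k tau) ∈ H := hJ k
      have e2 : S.s (Pi.mulSingle k (Equiv.swap 0 2)) ∈ H := hJ' k
      rcases gen_facts.1 σ with e | e | e | e | e | e <;> rw [e] <;>
        (try simp only [Pi.mulSingle_one, Pi.mulSingle_mul, map_one, map_mul]) <;>
        first | exact one_mem _ | exact e1 | exact e2 | exact mul_mem e1 e2 | exact mul_mem e2 e1 |
          exact mul_mem (mul_mem e1 e2) e1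
    rw [show r = Pi.mulSingle 0 (r 0) * Pi.mulSingle 1 (r 1) * Pi.mulSingle 2 (r 2) by
      funext l; fin_cases l <;> simp, map_mul, map_mul]
    exact mul_mem (mul_mem (hsingle _ _) (hsingle _ _)) (hsingle _ _)
  have hσ : ∀ p, S.σ p ∈ H := by
    intro p
    have h := S.σ_act (fun k => cyc ^ ((p k : ℕ) + 2)) fun _ => 1
    rw [gen_facts.2.2 p] at h
    rw [← h]
    exact mul_mem (mul_mem (hs _) hbH) (inv_mem (hs _))
  have huH : S.u ∈ H := S.σ_zero ▸ hσ _
  have hzH : C.z ∈ H := by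
    have hnc : ¬ Commute b S.u := by
      rw [hb, ← S.σ_zero]; exact S.σ_ncommute fun k => by decide
    have h := C.x2.not_commute_conj (S.σ_mem fun _ => 1) S.F.gQ hnc
    rw [← hb] at h
    have hz : C.z = b * S.u * b⁻¹ * (S.u)⁻¹ := by rw [h, mul_inv_cancel_right]
    rw [hz]
    exact mul_mem (mul_mem (mul_mem hbH huH) (inv_mem hbH)) (inv_mem huH)
  have hQ : C.Q ≤ H := by
    intro x hx
    have key : ∀ n, (∃ y ∈ C.Q, y ∈ H ∧ S.F.P y = n) → ∀ m, (∃ y ∈ C.Q, y ∈ H ∧ S.F.P y = m) →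
        ∃ y ∈ C.Q, y ∈ H ∧ S.F.P y = n ^^^ m := by
      rintro _ ⟨y, hy, hyH, rfl⟩ _ ⟨y', hy', hyH', rfl⟩
      exact ⟨y * y', mul_mem hy hy', mul_mem hyH hyH', S.F.P_mul y hy y' hy'⟩
    have h0 : ∃ y ∈ C.Q, y ∈ H ∧ S.F.P y = 0 := ⟨1, one_mem _, one_mem _, S.F.P_one⟩
    have hact : ∀ n, ∃ y ∈ C.Q, y ∈ H ∧ S.F.P y = act 1 n := by
      intro n
      rw [act]
      induction List.range 8 with
      | nil => exact h0
      | cons i l ih =>
        rw [List.foldr_cons]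
        refine key _ ?_ _ ih
        cases n.testBit i
        · exact h0
        · exact ⟨_, S.σ_mem (eps i), hσ _, S.P_σ _⟩
    obtain ⟨y, hy, hyH, hP⟩ := hact (S.F.P x)
    rw [gen_facts.2.1 ⟨S.F.P x, S.F.lt x⟩] at hP
    rcases S.F.eq_of_P hy hx hP with e | e <;> rw [e]
    exacts [hyH, mul_mem hzH hyH]
  have hCH : centralizer ({C.z} : Set G) ≤ H := by
    intro m hm
    have hm' := C.mem_Mz.mp hm
    have hq : (S.s (C.μ m))⁻¹ * m ∈ C.Q := (C.μ_ker _ ((S.s_z _).inv_left.mul_left hm')).mp (by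
      rw [C.μ_mul _ _ (S.s_z _).inv_left hm', C.μ_inv (S.s_z _), S.s_μ, inv_mul_cancel])
    have := mul_mem (hs (C.μ m)) (hQ hq)
    rwa [mul_inv_cancel_left] at this
  -- the generated group has trivial centre
  have hcenter : center H = ⊥ := by
    rw [eq_bot_iff]
    rintro ⟨x, hx⟩ hxc
    rw [mem_center_iff] at hxc
    have hc : ∀ y ∈ H, Commute x y := fun y hy => (congrArg Subtype.val (hxc ⟨y, hy⟩)).symm
    have hxQ : x ∈ C.Q := C.cent (mem_centralizer_iff.mpr fun y hy => (hc y (hQ hy)).eq.symm)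
    rw [mem_bot]
    refine Subtype.ext ((C.x2.cen x hxQ fun a ha => (hc a (hQ ha)).symm).resolve_right fun e => ?_)
    have h := (hc bp hbpH).eq
    rw [e] at h
    rw [← h, mul_assoc, C.cl_sq hbpcl, mul_one] at hbz
    exact (C.x2' S.F.g).ne (right_eq_mul.mp hbz)
  -- the copies of `SL 3`
  let Jh : Fin 3 → H := fun k => ⟨_, hJ k⟩
  let J'h : Fin 3 → H := fun k => ⟨_, hJ' k⟩
  let bh : H := ⟨b, hbH⟩
  let bph : H := ⟨bp, hbpH⟩
  have hrelH : ∀ k, Split.Rels (Jh k) (J'h k) bh bph ⟨_, hfH k⟩ ⟨_, hYH k⟩ := by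
    intro k
    obtain ⟨⟨a1, a2, a3, a4, a5, a6⟩, e1, e2, e3, e4, e5, e6, d1, d2, d3, d4, d5, d6⟩ := hrel k
    exact ⟨⟨Subtype.ext a1, Subtype.ext a2, Subtype.ext a3, Subtype.ext a4, Subtype.ext a5, Subtype.ext a6⟩,
      Subtype.ext e1, Subtype.ext e2, Subtype.ext e3, Subtype.ext e4, Subtype.ext e5, Subtype.ext e6,
      Subtype.ext d1.eq, Subtype.ext d2.eq, Subtype.ext d3.eq, Subtype.ext d4.eq, Subtype.ext d5.eq,
      Subtype.ext d6.eq⟩
  choose ψ hψ using fun k => exists_sl3 (hrelH k)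
  choose ψ' hψ' using fun k => exists_sl3 (hrelH k).swap
  let cn : Fin 3 → (SpecialLinearGroup (Fin 2) (ZMod 2) →* H) := fun k =>
    (ψ k).comp Cfsg.Lib.Known.CurtisTitsA.ι01
  let c1 : SpecialLinearGroup (Fin 2) (ZMod 2) →* H := (ψ 0).comp Cfsg.Lib.Known.CurtisTitsA.ι12
  open Cfsg.Lib.Known.CurtisTitsA in
  have hcn : ∀ k, cn k (T 0 1 1) = Jh k ∧ cn k (T 1 0 1) = J'h k := fun k => by
    obtain ⟨p1, p2, -, -⟩ := hψ k
    exact ⟨by rw [MonoidHom.comp_apply, T3_01, p1], by rw [MonoidHom.comp_apply, T3_10, p2]⟩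
  open Cfsg.Lib.Known.CurtisTitsA in
  have hc1 : c1 (T 0 1 1) = bh ∧ c1 (T 1 0 1) = bph := by
    obtain ⟨-, -, p3, p4⟩ := hψ 0
    exact ⟨by rw [MonoidHom.comp_apply, T3_12, p3], by rw [MonoidHom.comp_apply, T3_21, p4]⟩
  let cc : ℕ → (SpecialLinearGroup (Fin 2) (ZMod 2) →* H) := fun i =>
    if i = 0 then cn 0 else if i = 1 then c1 else if i = 2 then cn 1 else cn 2
  open Cfsg.Lib.Known.CurtisTitsA in
  have hwin' : ∀ k, (ψ' k).comp ι01 = c1 ∧ (ψ' k).comp ι12 = cn k := fun k => by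
    obtain ⟨p1, p2, p3, p4⟩ := hψ' k
    refine ⟨sl2_ext ?_ ?_, sl2_ext ?_ ?_⟩
    · rw [MonoidHom.comp_apply, T3_01, p1, hc1.1]
    · rw [MonoidHom.comp_apply, T3_10, p2, hc1.2]
    · rw [MonoidHom.comp_apply, T3_12, p3, (hcn k).1]
    · rw [MonoidHom.comp_apply, T3_21, p4, (hcn k).2]
  have hfar : ∀ k l, k ≠ l → ∀ x y, Commute (cn k x) (cn l y) := by
    intro k l hkl x y
    refine sl2_range (P := fun t => Commute t (cn l y)) (hcn k).1 (hcn k).2 (Commute.one_left _)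
      (fun _ _ h h' => h.mul_left h') (fun _ h => h.inv_left) ?_ ?_ x
    all_goals
      refine sl2_range (P := fun t => Commute _ t) (hcn l).1 (hcn l).2 (Commute.one_right _)
        (fun _ _ h h' => h.mul_right h') (fun _ h => h.inv_right) ?_ ?_ y
    all_goals
      refine Subtype.ext (Commute.map ?_ S.s).eq
      exact Pi.mulSingle_commute hkl _ _
  obtain ⟨f, hf⟩ := Cfsg.Lib.Known.CurtisTitsA.Laced.exists_surj (F := ZMod 2) chevD4 (by simp) edgesD okD4 cc
    (fun e he => by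
      simp only [edgesD, List.mem_cons, List.not_mem_nil, or_false] at he
      rcases he with rfl | rfl | rfl
      · exact ⟨ψ 0, rfl, rfl⟩
      · exact ⟨ψ' 1, (hwin' 1).1, (hwin' 1).2⟩
      · exact ⟨ψ' 2, (hwin' 2).1, (hwin' 2).2⟩)
    (fun i j hi hj hij hno x y => by
      rw [rankD4] at hi hj
      interval_cases i <;> interval_cases j
      all_goals first
        | exact absurd rfl hij
        | exact absurd (Or.inl ⟨rfl, rfl⟩) (hno (0, 1) (by simp [edgesD]))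
        | exact absurd (Or.inr ⟨rfl, rfl⟩) (hno (0, 1) (by simp [edgesD]))
        | exact absurd (Or.inl ⟨rfl, rfl⟩) (hno (1, 2) (by simp [edgesD]))
        | exact absurd (Or.inr ⟨rfl, rfl⟩) (hno (1, 2) (by simp [edgesD]))
        | exact absurd (Or.inl ⟨rfl, rfl⟩) (hno (1, 3) (by simp [edgesD]))
        | exact absurd (Or.inr ⟨rfl, rfl⟩) (hno (1, 3) (by simp [edgesD]))
        | exact hfar 0 1 (by decide) x y
        | exact hfar 0 2 (by decide) x y
        | exact hfar 1 0 (by decide) x y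
        | exact hfar 1 2 (by decide) x y
        | exact hfar 2 0 (by decide) x y
        | exact hfar 2 1 (by decide) x y)
    (by
      rw [eq_top_iff, ← closure_closure_coe_preimage (k := gens), closure_le]
      rintro ⟨x, hxH⟩ hx
      change x ∈ gens at hx
      have hin : ∀ i, i < 4 → ∀ m, cc i m ∈ ⨆ (i : ℕ) (_ : i < chevD4.rank), (cc i).range := fun i hi m =>
        mem_iSup_of_mem i (mem_iSup_of_mem (by rw [rankD4]; exact hi) ⟨m, rfl⟩)
      obtain ⟨k0, hk0⟩ : ∃ idx : Fin 3 → ℕ, ∀ k, idx k < 4 ∧ cc (idx k) = cn k :=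
        ⟨![0, 2, 3], fun k => by fin_cases k <;> simp [cc]⟩
      rcases hx with (⟨k, e⟩ | ⟨k, e⟩) | (e | e)
      · rw [show (⟨x, hxH⟩ : H) = cc (k0 k) (T 0 1 1) by rw [(hk0 k).2, (hcn k).1]; exact Subtype.ext e.symm]
        exact hin _ (hk0 k).1 _
      · rw [show (⟨x, hxH⟩ : H) = cc (k0 k) (T 1 0 1) by rw [(hk0 k).2, (hcn k).2]; exact Subtype.ext e.symm]
        exact hin _ (hk0 k).1 _
      · rw [show (⟨x, hxH⟩ : H) = cc 1 (T 0 1 1) by
          rw [show cc 1 = c1 from rfl, hc1.1]; exact Subtype.ext e]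
        exact hin 1 (by norm_num) _
      · rw [show (⟨x, hxH⟩ : H) = cc 1 (T 1 0 1) by
          rw [show cc 1 = c1 from rfl, hc1.2]; exact Subtype.ext e]
        exact hin 1 (by norm_num) _)
  obtain ⟨θ, hθs, hθk, -⟩ := Cfsg.Agent.S1077.result (K := ZMod 2) chevD4 (by simp)
  haveI : IsSimpleGroup ↥(chevD4.group (ZMod 2)) := (Cfsg.Agent.S1054.result (F := ZMod 2) chevD4 (by simp)).1
  have hker : θ.ker ≤ f.ker := by
    intro x hx
    rw [hθk] at hx
    rw [MonoidHom.mem_ker, ← mem_bot, ← hcenter, mem_center_iff]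
    intro g
    obtain ⟨y, rfl⟩ := hf g
    rw [← map_mul, ← map_mul, mem_center_iff.1 hx y]
  let fb : ↥(chevD4.group (ZMod 2)) →* H := θ.liftOfSurjective hθs ⟨f, hker⟩
  have hfb : Function.Surjective fb := fun g => by
    obtain ⟨y, rfl⟩ := hf g
    exact ⟨θ y, θ.liftOfRightInverse_comp_apply _ _ ⟨f, hker⟩ y⟩
  have hfbi : Function.Injective fb := by
    rw [← MonoidHom.ker_eq_bot_iff]
    rcases Subgroup.Normal.eq_bot_or_eq_top (inferInstance : fb.ker.Normal) with h | h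
    · exact h
    · obtain ⟨x, hx⟩ := hfb ⟨C.z, hzH⟩
      have hx1 : fb x = 1 := MonoidHom.mem_ker.1 (h ▸ mem_top x)
      exact absurd (congrArg Subtype.val (hx.symm.trans hx1)) C.x2.ne
  obtain ⟨e1⟩ := Cfsg.Lib.Classical.AutOrders.chevD4_iso_POmega_any (F := ZMod 2)
  let e2 : Cfsg.POmega (ZMod 2) (Cfsg.quadFormPlus 4 (ZMod 2)) ≃* Cfsg.Omega (ZMod 2) (Cfsg.quadFormPlus 4 (ZMod 2)) :=
    (QuotientGroup.quotientMulEquivOfEq Cfsg.Lib.ConwayType.omega_center).trans QuotientGroup.quotientBot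
  obtain ⟨eL⟩ : Nonempty (L ≃* Cfsg.Omega (ZMod 2) (Cfsg.quadFormPlus 4 (ZMod 2))) := by
    rw [← Cfsg.Lib.ConwayType.qf_coe]
    exact ⟨MulEquiv.refl _⟩
  let eH : L ≃* H := (eL.trans (e1.trans e2).symm).trans (MulEquiv.ofBijective fb ⟨hfbi, hfb⟩)
  let φ : L →* G := H.subtype.comp eH.toMonoidHom
  have hrange : φ.range = H := by
    ext x
    constructor
    · rintro ⟨l, rfl⟩; exact (eH l).2
    · intro hx
      exact ⟨eH.symm ⟨x, hx⟩, by simp [φ]⟩
  have hφi : Function.Injective φ := H.subtype_injective.comp eH.injective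
  -- conjugates of the centre inside `Q`
  have hcl : ∀ x ∈ C.Q, C.Cl x → ∃ h ∈ H, h * C.z * h⁻¹ = x := by
    intro x hx hxc
    by_cases hxz : x = C.z
    · exact ⟨1, one_mem _, by rw [hxz]; group⟩
    obtain ⟨p, hp⟩ := pureB_iff.mp ((S.F.cl x hx hxz).mp hxc)
    have hn : b * bp * b * C.z * (b * bp * b)⁻¹ = S.u := by
      have hbb : b⁻¹ = b := inv_eq_of_mul_eq_one_right (S.σ_sq _)
      have hpi : bp⁻¹ = bp := inv_eq_of_mul_eq_one_right (C.cl_sq hbpcl)
      have hbu := C.x2.not_commute_conj (S.σ_mem fun _ => 1) S.F.gQ (fun h => S.σ_ncommute (p := fun _ => 1)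
        (p' := fun _ => 0) (fun k => by decide) (S.σ_zero.symm ▸ h))
      rw [← hb, hbb] at hbu
      have hbzb : b * C.z * b⁻¹ = C.z := C.z_conj (C.x2.central b (S.σ_mem _))
      calc b * bp * b * C.z * (b * bp * b)⁻¹ = b * (bp * (b * C.z * b⁻¹) * bp⁻¹) * b⁻¹ := by group
        _ = b * (S.u * C.z) * b⁻¹ := by rw [hbzb, hpi, hbz]
        _ = (b * S.u * b⁻¹) * (b * C.z * b⁻¹) := by group
        _ = C.z * S.u * C.z := by rw [hbzb, hbb, hbu]
        _ = S.u := by
          rw [(C.x2.central _ S.F.gQ).symm.eq, mul_assoc, C.x2.zz, mul_one]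
    set r : RS := fun k => cyc ^ (p k : ℕ)
    have hn' : S.s r * (b * bp * b) * C.z * (S.s r * (b * bp * b))⁻¹ = S.σ p := by
      rw [show S.s r * (b * bp * b) * C.z * (S.s r * (b * bp * b))⁻¹ =
        S.s r * (b * bp * b * C.z * (b * bp * b)⁻¹) * (S.s r)⁻¹ by group, hn]
      rfl
    have hmem : S.s r * (b * bp * b) ∈ H := mul_mem (hs r) (mul_mem (mul_mem hbH hbpH) hbH)
    rcases S.F.eq_of_P (S.σ_mem p) hx ((S.P_σ p).trans hp) with e | e
    · exact ⟨_, hmem, hn'.trans e.symm⟩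
    · obtain ⟨y, hy, hyx⟩ := C.q_conj_mem (S.σ_mem p) (S.F.π_ne (S.σ_mem p) (by rw [S.P_σ]; exact (pureC_lt p).2))
      refine ⟨y * (S.s r * (b * bp * b)), mul_mem (hQ hy) hmem, ?_⟩
      rw [e, ← hyx, ← hn']
      group
  have hfus : ∀ g : G, Commute (g * C.z * g⁻¹) C.z → ∃ h ∈ φ.range, h * C.z * h⁻¹ = g * C.z * g⁻¹ := by
    rw [hrange]
    intro g hg
    by_cases hgQ : g * C.z * g⁻¹ ∈ C.Q
    · exact hcl _ hgQ (C.cl_conj C.cl_z g)
    obtain ⟨g', hg'Q, -, hmem⟩ := Ctx.outside hg hgQ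
    obtain ⟨h, hh, hhz⟩ := hcl _ hg'Q (C.cl_conj C.cl_z g')
    rw [← C.cQ_congr hhz, C.mem_cQ] at hmem
    obtain ⟨h2, hh2, hh2z⟩ := hcl _ hmem (by
      have := C.cl_conj (C.cl_conj C.cl_z g) h⁻¹
      rwa [inv_inv] at this)
    refine ⟨h * h2, mul_mem hh hh2, ?_⟩
    rw [show h * h2 * C.z * (h * h2)⁻¹ = h * (h2 * C.z * h2⁻¹) * h⁻¹ by group, hh2z]
    group
  have htop := eq_top hφi C.z C.x2.zz C.x2.ne (hrange ▸ hCH) C.card_centralizer hfus
  exact ⟨((MulEquiv.ofBijective φ ⟨hφi, fun x => MonoidHom.mem_range.mp (htop ▸ mem_top x)⟩).symm).trans eL⟩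

end Cfsg.Lib.OEightTwo
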