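import Cfsg.Agent.ConwayType.Space
import Cfsg.Agent.OEightTwo.Checks

/-!
Root elements of the orthogonal group of plus type in dimension eight over two elements: words, conjugation and
transitivity.
-/

set_option autoImplicit false
set_option linter.style.haveILetI false

namespace Cfsg.Lib.OEightTwo

open Cfsg.Lib.ConwayType Cfsg.Lib.ConwayType.Code

/-- The group. -/
abbrev L : Type := ↥Om

theorem fB_pB {a b : ℕ} (ha : a < 256) (hb : b < 256) : fB a b = pB a b := by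
  have h := List.all_eq_true.1 (List.all_eq_true.1 fB_eq a (List.mem_range.2 ha)) b (List.mem_range.2 hb)
  exact beq_iff_eq.1 h

theorem okPair_iff {t : ℕ × ℕ} :
    okPair t = true ↔ t.1 < 256 ∧ t.2 < 256 ∧ qB t.1 = false ∧ pB t.1 t.2 = false := by
  constructor
  · intro h
    simp only [okPair, Bool.and_eq_true, decide_eq_true_eq, Bool.not_eq_true'] at h
    exact ⟨h.1.1.1, h.1.1.2, h.1.2, fB_pB h.1.1.1 h.1.1.2 ▸ h.2⟩
  · rintro ⟨a, b, c, d⟩
    simp [okPair, a, b, c, fB_pB a b, d]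

theorem rf_eq {t : ℕ × ℕ} (h1 : t.1 < 256) (h2 : t.2 < 256) {x : ℕ} (hx : x < 256) :
    rf t x = Cfsg.Lib.Classical.OrthH1.sN qB t.1 t.2 x := by
  rw [rf, Cfsg.Lib.Classical.OrthH1.sN, fB_pB h1 hx, fB_pB h2 hx, Bool.cond_eq_ite, Bool.cond_eq_ite]

/-- The element of a pair. -/
noncomputable def gn (t : ℕ × ℕ) : L :=
  if h : t.1 < 256 ∧ t.2 < 256 ∧ qB t.1 = false ∧ pB t.1 t.2 = false then ⟨sieg t h, sieg_mem t h⟩ else 1

theorem cd_gn {t : ℕ × ℕ} (h : okPair t = true) {x : ℕ} (hx : x < 256) : cd (gn t : O8) x = rf t x := by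
  obtain h' := okPair_iff.1 h
  rw [gn, dif_pos h', rf_eq h'.1 h'.2.1 hx]
  exact cd_sieg t h' hx

theorem cd_L_ext {g h : L} (e : ∀ x < 256, cd (g : O8) x = cd (h : O8) x) : g = h := Subtype.ext (cd_ext e)

theorem gn_sq (t : ℕ × ℕ) : gn t * gn t = 1 := by
  unfold gn
  split_ifs with h
  · apply Subtype.ext
    show sieg t h * sieg t h = 1
    rw [sieg, Cfsg.Lib.Classical.Refl.siegelG_mul]
    refine Cfsg.Lib.Classical.Refl.ext_mulVec _ fun y => ?_
    rw [Cfsg.Lib.Classical.Refl.mat_siegelG, CharTwo.add_self_eq_zero, show Cfsg.Lib.Classical.Refl.mat qf (1 : O8) = 1 from rfl,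
      Matrix.one_mulVec, Cfsg.Lib.Classical.Refl.siegelMap]
    simp [QuadraticMap.polar_zero_left]
  · exact one_mul 1

theorem gn_inv (t : ℕ × ℕ) : (gn t)⁻¹ = gn t := inv_eq_of_mul_eq_one_right (gn_sq t)

/-- The element of a word. -/
noncomputable def wel (w : List (ℕ × ℕ)) : L := (w.map gn).prod

theorem wel_cons (t : ℕ × ℕ) (w : List (ℕ × ℕ)) : wel (t :: w) = gn t * wel w := List.prod_cons

theorem wel_nil : wel [] = 1 := rfl

theorem wel_append (a b : List (ℕ × ℕ)) : wel (a ++ b) = wel a * wel b := by simp [wel, List.prod_append]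

theorem wel_one (t : ℕ × ℕ) : wel [t] = gn t := by rw [wel_cons, wel_nil, mul_one]

theorem wel_two (a b : ℕ × ℕ) : wel [a, b] = gn a * gn b := by rw [wel_cons, wel_one]

/-- All letters are pairs. -/
def Vw (w : List (ℕ × ℕ)) : Prop := ∀ t ∈ w, okPair t = true

theorem Vw.append {a b : List (ℕ × ℕ)} (ha : Vw a) (hb : Vw b) : Vw (a ++ b) :=
  fun t ht => (List.mem_append.1 ht).elim (ha t) (hb t)

theorem vw_nil : Vw [] := fun _ h => absurd h List.not_mem_nil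

theorem Vw.cons {t : ℕ × ℕ} {w : List (ℕ × ℕ)} (ht : okPair t = true) (hw : Vw w) : Vw (t :: w) :=
  fun s hs => (List.mem_cons.1 hs).elim (fun e => e ▸ ht) (hw s)

theorem vw_one {a : ℕ × ℕ} (ha : okPair a = true) : Vw [a] := Vw.cons ha vw_nil

theorem vw_two {a b : ℕ × ℕ} (ha : okPair a = true) (hb : okPair b = true) : Vw [a, b] := Vw.cons ha (vw_one hb)

theorem cd_wel {w : List (ℕ × ℕ)} (hw : Vw w) {x : ℕ} (hx : x < 256) : cd (wel w : O8) x = ev w x := by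
  induction w with
  | nil => exact cd_one hx
  | cons t w ih =>
    have hih := ih fun s hs => hw s (List.mem_cons_of_mem t hs)
    rw [wel_cons, Subgroup.coe_mul, cd_mul, hih, cd_gn (hw t List.mem_cons_self) (hih ▸ cd_lt _ _)]
    rfl

theorem basis_eq : basis = [1, 2, 4, 8, 16, 32, 64, 128] := rfl

theorem eqW_iff {w w' : List (ℕ × ℕ)} (hw : Vw w) (hw' : Vw w') : eqW w w' = true ↔ wel w = wel w' := by
  have hb : ∀ k ∈ basis, k < 256 := by decide
  simp only [eqW, List.all_eq_true, beq_iff_eq]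
  constructor
  · intro h
    refine Subtype.ext (cd_basis fun k hk => ?_)
    rw [cd_wel hw (hb k hk), cd_wel hw' (hb k hk), h k hk]
  · intro h k hk
    rw [← cd_wel hw (hb k hk), ← cd_wel hw' (hb k hk), h]

theorem comm_iff {a b : ℕ × ℕ} (ha : okPair a = true) (hb : okPair b = true) :
    comm a b = true ↔ Commute (gn a) (gn b) := by
  rw [comm, eqW_iff (vw_two ha hb) (vw_two hb ha), wel_two, wel_two]
  rfl

theorem conj_ok (g : L) {t : ℕ × ℕ} (h : okPair t = true) :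
    okPair (cd (g : O8) t.1, cd (g : O8) t.2) = true := by
  obtain ⟨h1, h2, h3, h4⟩ := okPair_iff.1 h
  exact okPair_iff.2 ⟨cd_lt _ _, cd_lt _ _, by rw [cd_q _ h1, h3], by rw [cd_p _ h1 h2, h4]⟩

theorem gn_conj (g : L) {t : ℕ × ℕ} (h : okPair t = true) :
    g * gn t * g⁻¹ = gn (cd (g : O8) t.1, cd (g : O8) t.2) := by
  obtain ⟨h1, h2, h3, h4⟩ := okPair_iff.1 h
  refine cd_L_ext fun x hx => ?_
  set y := cd ((g⁻¹ : L) : O8) x with hy
  have hgy : cd (g : O8) y = x := by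
    rw [hy, Subgroup.coe_inv]; exact cd_inv' _ hx
  rw [Subgroup.coe_mul, Subgroup.coe_mul, cd_mul, cd_mul, ← hy, cd_gn h (cd_lt _ _), cd_gn (conj_ok g h) hx,
    rf_eq h1 h2 (cd_lt _ _), rf_eq (cd_lt _ _) (cd_lt _ _) hx, Cfsg.Lib.Classical.OrthH1.sN,
    Cfsg.Lib.Classical.OrthH1.sN, cd_xor, cd_xor, hgy, cd_q _ h2]
  have hp : ∀ a < 256, pB (cd (g : O8) a) x = pB a y := fun a ha => by
    conv_lhs => rw [← hgy]
    exact cd_p _ ha (cd_lt _ _)
  dsimp only [pB] at hp ⊢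
  rw [hp _ h1, hp _ h2, apply_ite (cd (g : O8)), apply_ite (cd (g : O8)), cd_zero]

theorem gn_shift {u v : ℕ} (h : okPair (u, v) = true) :
    okPair (u, v ^^^ u) = true ∧ gn (u, v ^^^ u) = gn (u, v) := by
  obtain ⟨h1, h2, h3, h4⟩ := okPair_iff.1 h
  dsimp only at h1 h2 h3 h4
  have hq : qB (v ^^^ u) = qB v := by
    rw [qB_add, h3, pB_comm, h4]; simp
  have hok : okPair (u, v ^^^ u) = true := okPair_iff.2 ⟨h1, xor_lt h2 h1, h3, by
    show pB u (v ^^^ u) = false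
    rw [pB_add_right h2 h1 h1, h4, pB_self]; rfl⟩
  refine ⟨hok, cd_L_ext fun x hx => ?_⟩
  rw [cd_gn hok hx, cd_gn h hx, rf_eq h1 (xor_lt h2 h1) hx, rf_eq h1 h2 hx, Cfsg.Lib.Classical.OrthH1.sN,
    Cfsg.Lib.Classical.OrthH1.sN, hq]
  dsimp only
  rw [show Cfsg.Lib.Classical.OrthH1.pN qB (v ^^^ u) x = (pB v x ^^ pB u x) from pB_add_left h2 h1 hx]
  show (x ^^^ if pB u x = true then v ^^^ u else 0) ^^^ _ = _
  cases hu : pB u x <;> cases hv : pB v x <;> cases qB v <;> simp_all [pB, Nat.xor_assoc]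

/-- The element is a root element. -/
def IsRt (g : L) : Prop := ∃ t, okRoot t = true ∧ g = gn t

/-- The element is a product of two commuting roots with nonsingular second vector. -/
def IsTwo (g : L) : Prop := ∃ t, okTwo t = true ∧ g = gn t

theorem okRoot_iff {t : ℕ × ℕ} :
    okRoot t = true ↔ okPair t = true ∧ qB t.2 = false ∧ t.1 ≠ 0 ∧ t.2 ≠ 0 ∧ t.1 ≠ t.2 := by
  simp [okRoot, and_assoc]

theorem okTwo_iff {t : ℕ × ℕ} : okTwo t = true ↔ okPair t = true ∧ qB t.2 = true ∧ t.1 ≠ 0 := by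
  simp [okTwo, and_assoc]

theorem cd_ne_zero (g : O8) {x : ℕ} (hx : x < 256) (h0 : x ≠ 0) : cd g x ≠ 0 := fun e =>
  h0 (cd_inj g hx (by norm_num) (e.trans (cd_zero g).symm))

theorem IsRt.conj {e : L} (h : IsRt e) (g : L) : IsRt (g * e * g⁻¹) := by
  obtain ⟨t, ht, rfl⟩ := h
  obtain ⟨hp, hq, h1, h2, h3⟩ := okRoot_iff.1 ht
  obtain ⟨l1, l2, -⟩ := okPair_iff.1 hp
  exact ⟨_, okRoot_iff.2 ⟨conj_ok g hp, by rw [cd_q _ l2, hq], cd_ne_zero _ l1 h1, cd_ne_zero _ l2 h2,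
    fun e => h3 (cd_inj _ l1 l2 e)⟩, gn_conj g hp⟩

theorem wact_lt (gs : List (ℕ × ℕ)) (hgs : ∀ t ∈ gs, t.1 < 256 ∧ t.2 < 256 ∧ qB t.1 = false ∧ pB t.1 t.2 = false)
    (w : List ℕ) (hw : ∀ i ∈ w, i < gs.length) {x : ℕ} (hx : x < 256) : wact gs w x < 256 := by
  obtain ⟨g, -, e⟩ := exists_word gs hgs w hw
  exact e x hx ▸ cd_lt _ _

theorem wact_fix {w : List ℕ} (hw : ∀ i ∈ w, i < g2.length) : wact g2 w 1 = 1 := by
  induction w with
  | nil => rfl
  | cons i w ih =>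
    show Cfsg.Lib.Classical.OrthH1.sN qB _ _ (wact g2 w 1) = 1
    rw [ih fun j hj => hw j (List.mem_cons_of_mem i hj),
      List.getD_eq_getElem _ _ (hw i List.mem_cons_self)]
    exact (g2_ok _ (List.getElem_mem _)).2

/-- An element moving a singular point to the first one. -/
theorem exists_point {u : ℕ} (hu : u < 256) (hq : qB u = false) (h0 : u ≠ 0) :
    ∃ p ∈ w135, p.1 = u ∧ (∀ i ∈ p.2, i < g1.length) ∧
      ∃ g : L, (∀ x < 256, cd (g : O8) x = wact g1 p.2 x) ∧ cd (g : O8) 1 = u := by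
  have h := List.all_eq_true.1 trans135 u (List.mem_range.2 hu)
  rw [Bool.or_eq_true, Bool.or_eq_true, hq, beq_iff_eq] at h
  obtain ⟨p, hp, e⟩ := List.any_eq_true.1 (((h.resolve_left fun e => e.elim Bool.false_ne_true h0)))
  simp only [Bool.and_eq_true, beq_iff_eq, List.all_eq_true, decide_eq_true_eq] at e
  obtain ⟨g, hg, eg⟩ := exists_word g1 g1_ok p.2 e.2
  exact ⟨p, hp, e.1.1, e.2, ⟨g, hg⟩, eg, by rw [eg 1 (by norm_num)]; exact e.1.2⟩

/-- The form of an element fixing the first point. -/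
theorem exists_first {t : ℕ × ℕ} (h : okPair t = true) (h0 : t.1 ≠ 0) :
    ∃ p ∈ w135, p.1 = t.1 ∧ (∀ i ∈ p.2, i < g1.length) ∧ ∃ g : L, (∀ x < 256, cd (g : O8) x = wact g1 p.2 x) ∧
      cd (g : O8) 1 = t.1 ∧ ∃ v ∈ W, qB v = qB t.2 ∧ gn t = g * gn (1, v) * g⁻¹ ∧
        (v = 0 → t.2 = 0 ∨ t.2 = t.1) ∧ okPair (1, v) = true := by
  obtain ⟨h1, h2, h3, h4⟩ := okPair_iff.1 h
  obtain ⟨p, hp, e1, e2, g, eg, eg1⟩ := exists_point h1 h3 h0
  refine ⟨p, hp, e1, e2, g, eg, eg1, ?_⟩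
  set c := cd ((g : O8))⁻¹ t.2 with hc
  have hgc : cd (g : O8) c = t.2 := cd_inv' _ h2
  have hcl : c < 256 := cd_lt _ _
  have hp1 : pB 1 c = false := by
    rw [← cd_p (g : O8) (by norm_num) hcl, eg1, hgc, h4]
  have hok : okPair (1, c) = true := okPair_iff.2 ⟨(by norm_num : (1 : ℕ) < 256), hcl, (by decide : qB 1 = false), hp1⟩
  have hqc : qB c = qB t.2 := by rw [← cd_q (g : O8) hcl, hgc]
  obtain ⟨hnr, hnq⟩ := nr_facts c hcl hp1
  have key : gn (1, nr c) = gn (1, c) ∧ okPair (1, nr c) = true := by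
    rcases (Nat.le_one_iff_eq_zero_or_eq_one.1 hnr) with e | e
    · rw [← xor_eq_zero'.1 e]; exact ⟨rfl, hok⟩
    · have e' : nr c = c ^^^ 1 := by rw [← e]; simp
      rw [e']
      exact ⟨(gn_shift hok).2, (gn_shift hok).1⟩
  refine ⟨nr c, nr_mem c hcl, hnq.trans hqc, ?_, fun e => ?_, key.2⟩
  · rw [key.1, gn_conj g hok, eg1, hgc]
  · rcases low_code c hcl hp1 e with e' | e'
    · exact Or.inl (by rw [← hgc, e', cd_zero])
    · exact Or.inr (by rw [← hgc, e', eg1])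

theorem two_mem_W : (2 : ℕ) ∈ W ∧ (34 : ℕ) ∈ W := by decide

theorem IsRt.exists_conj {e : L} (h : IsRt e) : ∃ g : L, g * gn (1, 2) * g⁻¹ = e := by
  obtain ⟨t, ht, rfl⟩ := h
  obtain ⟨hp, hq, h1, h2, h3⟩ := okRoot_iff.1 ht
  obtain ⟨p, -, -, -, g, -, -, v, hv, hvq, hgn, hv0, -⟩ := exists_first hp h1
  have hv0' : v ≠ 0 := fun e => (hv0 e).elim h2 (fun e => h3 e.symm)
  have h' := List.all_eq_true.1 trans35 v hv
  rw [Bool.or_eq_true, Bool.or_eq_true, hvq, hq, beq_iff_eq] at h'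
  obtain ⟨w, -, hw⟩ := List.any_eq_true.1 (h'.resolve_left fun e => e.elim Bool.false_ne_true hv0')
  simp only [Bool.and_eq_true, beq_iff_eq, List.all_eq_true, decide_eq_true_eq] at hw
  obtain ⟨k, hk, ek⟩ := exists_word g2 (fun t ht => (g2_ok t ht).1) w.2 hw.2
  refine ⟨g * ⟨k, hk⟩, ?_⟩
  have hok : okPair (1, 2) = true := by decide
  have hkc : okPair (1, cd k 2) = true := by
    have := conj_ok ⟨k, hk⟩ hok
    simpa [ek 1 (by norm_num), wact_fix hw.2] using this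
  have e2 : (⟨k, hk⟩ : L) * gn (1, 2) * (⟨k, hk⟩ : L)⁻¹ = gn (1, v) := by
    rw [gn_conj _ hok]
    show gn (cd k 1, cd k 2) = _
    rw [ek 1 (by norm_num), wact_fix hw.2]
    have hlt : cd k 2 < 256 := cd_lt _ _
    obtain ⟨hnr, -⟩ := nr_facts (cd k 2) hlt (okPair_iff.1 hkc).2.2.2
    have hn : nr (cd k 2) = v := by rw [ek 2 (by norm_num)]; exact hw.1.2
    rw [← hn]
    rcases (Nat.le_one_iff_eq_zero_or_eq_one.1 hnr) with e | e
    · rw [← xor_eq_zero'.1 e]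
    · rw [show nr (cd k 2) = cd k 2 ^^^ 1 by rw [← e]; simp, (gn_shift hkc).2]
  rw [hgn, ← e2]
  group

theorem IsTwo.exists_conj {e : L} (h : IsTwo e) : ∃ g : L, g * gn sTwo * g⁻¹ = e := by
  obtain ⟨t, ht, rfl⟩ := h
  obtain ⟨hp, hq, h1⟩ := okTwo_iff.1 ht
  obtain ⟨p, -, -, -, g, -, -, v, hv, hvq, hgn, -, -⟩ := exists_first hp h1
  have h' := List.all_eq_true.1 trans28 v hv
  rw [Bool.or_eq_true, hvq, hq] at h'
  obtain ⟨w, -, hw⟩ := List.any_eq_true.1 (h'.resolve_left (by simp))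
  simp only [Bool.and_eq_true, beq_iff_eq, List.all_eq_true, decide_eq_true_eq] at hw
  obtain ⟨k, hk, ek⟩ := exists_word g2 (fun t ht => (g2_ok t ht).1) w.2 hw.2
  refine ⟨g * ⟨k, hk⟩, ?_⟩
  have hok : okPair sTwo = true := by decide
  have hkc : okPair (1, cd k 34) = true := by
    have := conj_ok ⟨k, hk⟩ hok
    simpa [sTwo, ek 1 (by norm_num), wact_fix hw.2] using this
  have e2 : (⟨k, hk⟩ : L) * gn sTwo * (⟨k, hk⟩ : L)⁻¹ = gn (1, v) := by
    rw [gn_conj _ hok]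
    show gn (cd k 1, cd k 34) = _
    rw [ek 1 (by norm_num), wact_fix hw.2]
    obtain ⟨hnr, -⟩ := nr_facts (cd k 34) (cd_lt _ _) (okPair_iff.1 hkc).2.2.2
    have hn : nr (cd k 34) = v := by rw [ek 34 (by norm_num)]; exact hw.1.2
    rw [← hn]
    rcases (Nat.le_one_iff_eq_zero_or_eq_one.1 hnr) with e | e
    · rw [← xor_eq_zero'.1 e]
    · rw [show nr (cd k 34) = cd k 34 ^^^ 1 by rw [← e]; simp, (gn_shift hkc).2]
  rw [hgn, ← e2]
  group

/-- The listed roots are all roots. -/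
theorem IsRt.listed {e : L} (h : IsRt e) : ∃ r ∈ rootsList.flatten, okPair r.1 = true ∧ e = gn r.1 := by
  obtain ⟨t, ht, rfl⟩ := h
  obtain ⟨hp, hq, h1, h2, h3⟩ := okRoot_iff.1 ht
  obtain ⟨p, hpm, hpf, hpi, g, eg, eg1, v, hv, hvq, hgn, hv0, hvok⟩ := exists_first hp h1
  have hv0' : v ≠ 0 := fun e => (hv0 e).elim h2 (fun e => h3 e.symm)
  have hvs : v ∈ wSing := List.mem_filter.2 ⟨hv, by simp [hv0', hvq, hq]⟩
  obtain ⟨hlen, hall⟩ := Bool.and_eq_true_iff.1 pos_ok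
  obtain ⟨i, hi, rfl⟩ := List.mem_iff_getElem.1 hpm
  have hi' : i < rootPos.length := of_decide_eq_true hlen ▸ hi
  have hrow := List.all_eq_true.1 hall (w135[i], rootPos[i])
    (List.mem_iff_getElem.2 ⟨i, by rw [List.length_zip]; omega, List.getElem_zip ..⟩)
  rw [Bool.and_eq_true, decide_eq_true_eq, List.all_eq_true] at hrow
  obtain ⟨j, hj, rfl⟩ := List.mem_iff_getElem.1 hvs
  have hj' : j < rootPos[i].length := hrow.1 ▸ hj
  have hcell := hrow.2 (wSing[j], rootPos[i][j])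
    (List.mem_iff_getElem.2 ⟨j, by rw [List.length_zip]; exact lt_min hj hj', List.getElem_zip ..⟩)
  rw [Bool.and_eq_true, decide_eq_true_eq] at hcell
  set n := rootPos[i][j]
  have hlen9 : rootsList.length = 9 ∧ ∀ l ∈ rootsList, l.length = 175 := by decide +kernel
  have hn1 : n / 175 < rootsList.length := by rw [hlen9.1]; have := hcell.1; omega
  have hn2 : n % 175 < rootsList[n / 175].length := by
    rw [hlen9.2 _ (List.getElem_mem _)]; exact Nat.mod_lt _ (by norm_num)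
  set r := rootsList[n / 175][n % 175]
  have hr : r ∈ rootsList.flatten := List.mem_flatten.2 ⟨_, List.getElem_mem hn1, List.getElem_mem hn2⟩
  have hat : rootAt n = r.1 := by
    rw [rootAt, List.getD_eq_getElem _ _ hn1, List.getD_eq_getElem _ _ hn2]
  have hrok : okRoot r.1 = true := (Bool.and_eq_true_iff.1 (List.all_eq_true.1 roots_ok r hr)).1
  have hrp := (okRoot_iff.1 hrok).1
  refine ⟨r, hr, hrp, ?_⟩
  obtain ⟨hwl, -⟩ := W_lt _ hv
  have hpair : okPair (t.1, wact g1 (w135[i]).2 wSing[j]) = true := by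
    have := conj_ok g hvok
    rwa [eg1, eg _ hwl] at this
  have hfst : (w135[i]).1 = t.1 := hpf
  have he := hcell.2
  rw [hfst, hat, eqW_iff (vw_one hpair) (vw_one hrp), wel_one, wel_one] at he
  rw [hgn, gn_conj g hvok, eg1, eg _ hwl]
  exact he

end Cfsg.Lib.OEightTwo
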