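import Cfsg.Agent.OEightTwo.Tensor
import Cfsg.Agent.OEightTwo.Outside
import Mathlib.LinearAlgebra.Matrix.GeneralLinearGroup.Card

/-!
The extraspecial group modulo its centre is the tensor product of three natural modules.
-/

set_option autoImplicit false
set_option linter.style.haveILetI false
set_option linter.unusedSectionVars false

open Module Subgroup Cfsg.Lib.LargeExtra Cfsg.Lib.LargeExtra.EightSmith
open Cfsg.Lib.ConwayType.Code (qB pB)

namespace Cfsg.Lib.OEightTwo

universe u w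

theorem sign_one : ∀ σ : Equiv.Perm (Fin 3), Equiv.Perm.sign σ = 1 → σ = 1 ∨ σ = cyc ∨ σ = cyc * cyc := by
  decide +kernel

theorem card_alt : ∀ f : Fin 3 → Bool, Fintype.card {r : RS // ∀ k, if f k = true then Equiv.Perm.sign (r k) = 1
    else r k = 1} = 3 ^ ((if f 0 then 1 else 0) + (if f 1 then 1 else 0) + (if f 2 then 1 else 0)) := by
  decide +kernel

theorem gl_small (n : ℕ) : (n ≤ 4 → ¬ 27 ∣ ∏ i : Fin n, (2 ^ n - 2 ^ (i : ℕ))) ∧
    (n ≤ 2 → ¬ 9 ∣ ∏ i : Fin n, (2 ^ n - 2 ^ (i : ℕ))) ∧ (n = 0 → ¬ 3 ∣ ∏ i : Fin n, (2 ^ n - 2 ^ (i : ℕ))) := by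
  refine ⟨fun h => ?_, fun h => ?_, fun h => by subst h; decide⟩ <;> interval_cases n <;> decide

theorem cyc_facts : (∀ i : Fin 3, (cyc ^ (i : ℕ)) 0 = i) ∧ cyc ^ 3 = 1 := by decide +kernel

section

variable {V : Type w} [AddCommGroup V] [Module (ZMod 2) V] [Finite V] (ρ : RS →* V ≃ₗ[ZMod 2] V)

/-- The projection on the fixed space of an element of order three. -/
def proj (k : Fin 3) : V →ₗ[ZMod 2] V :=
  LinearMap.id + (ρ (xR k)).toLinearMap + (ρ (xR k)).toLinearMap.comp (ρ (xR k)).toLinearMap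

theorem proj_apply (k : Fin 3) (v : V) : proj ρ k v = v + ρ (xR k) v + ρ (xR k) (ρ (xR k) v) := rfl

theorem x_three (k : Fin 3) (v : V) : ρ (xR k) (ρ (xR k) (ρ (xR k) v)) = v := by
  rw [← LinearEquiv.mul_apply, ← LinearEquiv.mul_apply, ← map_mul, ← map_mul, (rel_xR k).1, map_one]; rfl

theorem i_x (k : Fin 3) (v : V) : ρ (iR k) (ρ (xR k) v) = ρ (xR k) (ρ (xR k) (ρ (iR k) v)) := by
  rw [← LinearEquiv.mul_apply, ← LinearEquiv.mul_apply, ← LinearEquiv.mul_apply, ← map_mul, ← map_mul,
    ← map_mul, ← (rel_xR k).2.1]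
  congr 2
  rw [mul_assoc (iR k * xR k), sylS_sq (iR_mem k), mul_one]

theorem x_comm {k l : Fin 3} (v : V) : ρ (xR k) (ρ (xR l) v) = ρ (xR l) (ρ (xR k) v) := by
  by_cases h : k = l
  · rw [h]
  · rw [← LinearEquiv.mul_apply, ← LinearEquiv.mul_apply, ← map_mul, ← map_mul, (comm_xR h).1.eq]

theorem i_x_comm {k l : Fin 3} (h : k ≠ l) (v : V) : ρ (iR k) (ρ (xR l) v) = ρ (xR l) (ρ (iR k) v) := by
  rw [← LinearEquiv.mul_apply, ← LinearEquiv.mul_apply, ← map_mul, ← map_mul, (comm_xR h).2.1.eq]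

theorem x_proj (k : Fin 3) (v : V) : ρ (xR k) (proj ρ k v) = proj ρ k v := by
  rw [proj_apply, map_add, map_add, x_three]; abel

theorem proj_of_fixed {k : Fin 3} {v : V} (h : ρ (xR k) v = v) : proj ρ k v = v := by
  rw [proj_apply, h, h, add_self', zero_add]

theorem proj_x (k l : Fin 3) (v : V) : proj ρ k (ρ (xR l) v) = ρ (xR l) (proj ρ k v) := by
  rw [proj_apply, proj_apply, map_add, map_add, x_comm ρ (k := k) (l := l) v,
    x_comm ρ (k := k) (l := l) (ρ (xR k) v)]

theorem proj_i (k l : Fin 3) (v : V) : proj ρ k (ρ (iR l) v) = ρ (iR l) (proj ρ k v) := by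
  by_cases h : l = k
  · subst h
    rw [proj_apply, proj_apply, map_add, map_add, i_x, i_x, i_x, x_three]
    abel
  · rw [proj_apply, proj_apply, map_add, map_add, i_x_comm ρ h, i_x_comm ρ h, i_x_comm ρ h]

/-- A space fixed by the involution and killed by the projection doubles. -/
theorem double {k : Fin 3} {U : Submodule (ZMod 2) V} (hi : ∀ v ∈ U, ρ (iR k) v = v)
    (he : ∀ v ∈ U, proj ρ k v = 0) :
    finrank (ZMod 2) (U ⊔ U.map (ρ (xR k)).toLinearMap : Submodule (ZMod 2) V) = 2 * finrank (ZMod 2) U := by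
  have hd : U ⊓ U.map (ρ (xR k)).toLinearMap = ⊥ := by
    rw [Submodule.eq_bot_iff]
    rintro _ ⟨hv, v, hv', rfl⟩
    have h : ρ (xR k) (ρ (xR k) v) = ρ (xR k) v := by
      have h1 := i_x ρ k v
      rw [hi v hv'] at h1
      exact h1.symm.trans (hi _ hv)
    have hfix : ρ (xR k) v = v := (ρ (xR k)).injective h
    have h0 := (proj_of_fixed ρ hfix).symm.trans (he v hv')
    show ρ (xR k) v = 0
    rw [h0, map_zero]
  have := Submodule.finrank_sup_add_finrank_inf_eq U (U.map (ρ (xR k)).toLinearMap)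
  rw [hd, finrank_bot, LinearEquiv.finrank_map_eq] at this
  omega

set_option maxHeartbeats 1000000 in
/-- A vector fixed by the involutions, with dual vectors, is moved fixed point freely. -/
theorem proj_fixed_eq_zero (hdim : finrank (ZMod 2) V = 8) (hinj : Function.Injective ρ) {ū : V}
    (hi : ∀ k, ρ (iR k) ū = ū) (wd : Fin 3 → V)
    (hw : ∀ k l, ρ (iR l) (wd k) = if l = k then wd k + ū else wd k) (k : Fin 3) : proj ρ k ū = 0 := by
  classical
  by_contra hk
  -- a component
  let pr : Fin 3 → Bool → V →ₗ[ZMod 2] V := fun l b => bif b then proj ρ l else LinearMap.id + proj ρ l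
  let F : (Fin 3 → Bool) → V →ₗ[ZMod 2] V := fun f => (pr 0 (f 0)).comp ((pr 1 (f 1)).comp (pr 2 (f 2)))
  have hsplit : ∀ l (v : V), pr l true v + pr l false v = v := fun l v => by
    show proj ρ l v + (v + proj ρ l v) = v
    rw [add_comm v, add_add_cancel']
  obtain ⟨f, hfk, hf⟩ : ∃ f : Fin 3 → Bool, (∃ j, f j = true) ∧ F f ū ≠ 0 := by
    by_contra hno
    push Not at hno
    refine hk ?_
    have hall : ∀ f : Fin 3 → Bool, proj ρ k (F f ū) = 0 := by
      intro f
      by_cases h : ∃ j, f j = true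
      · obtain ⟨j, hj⟩ := h; rw [hno f ⟨j, hj⟩, map_zero]
      push Not at h
      have hkill : ∀ l (v : V), proj ρ l (v + proj ρ l v) = 0 := fun l v => by
        rw [map_add, proj_of_fixed ρ (x_proj ρ l v), add_self']
      have hc : ∀ l v, proj ρ k (v + proj ρ l v) = proj ρ k v + proj ρ l (proj ρ k v) := fun l v => by
        rw [map_add, proj_apply ρ l, proj_apply ρ l, map_add, map_add, proj_x, proj_x, proj_x]
      have hk0 : ∀ v, proj ρ k v = 0 → ∀ l, proj ρ k (v + proj ρ l v) = 0 := fun v hv l => by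
        rw [hc, hv, map_zero, add_zero]
      simp only [F, pr, Bool.eq_false_iff.mpr (h 0), Bool.eq_false_iff.mpr (h 1), Bool.eq_false_iff.mpr (h 2),
        cond_false, LinearMap.comp_apply, LinearMap.add_apply, LinearMap.id_apply]
      fin_cases k
      · exact hkill _ _
      · exact hk0 _ (hkill _ _) _
      · exact hk0 _ (hk0 _ (hkill _ _) _) _
    have hF : ∀ b0 b1 b2, proj ρ k (pr 0 b0 (pr 1 b1 (pr 2 b2 ū))) = 0 := fun b0 b1 b2 => by
      simpa [F] using hall ![b0, b1, b2]
    have e1 : ∀ b0 b1, proj ρ k (pr 0 b0 (pr 1 b1 ū)) = 0 := fun b0 b1 => by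
      rw [← hsplit 2 ū, map_add, map_add, map_add, hF, hF, add_zero]
    have e0 : ∀ b0, proj ρ k (pr 0 b0 ū) = 0 := fun b0 => by
      rw [← hsplit 1 ū, map_add, map_add, e1, e1, add_zero]
    rw [← hsplit 0 ū, map_add, e0, e0, add_zero]
  -- properties of the component
  have hFx : ∀ l v, F f (ρ (xR l) v) = ρ (xR l) (F f v) := by
    have hp : ∀ m b l v, pr m b (ρ (xR l) v) = ρ (xR l) (pr m b v) := by
      intro m b l v
      cases b
      · show ρ (xR l) v + proj ρ m (ρ (xR l) v) = ρ (xR l) (v + proj ρ m v)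
        rw [proj_x, map_add]
      · exact proj_x ρ m l v
    intro l v
    simp only [F, LinearMap.comp_apply, hp]
  have hFi : ∀ l v, F f (ρ (iR l) v) = ρ (iR l) (F f v) := by
    have hp : ∀ m b l v, pr m b (ρ (iR l) v) = ρ (iR l) (pr m b v) := by
      intro m b l v
      cases b
      · show ρ (iR l) v + proj ρ m (ρ (iR l) v) = ρ (iR l) (v + proj ρ m v)
        rw [proj_i, map_add]
      · exact proj_i ρ m l v
    intro l v
    simp only [F, LinearMap.comp_apply, hp]
  have hpc : ∀ m b l v, proj ρ l (pr m b v) = pr m b (proj ρ l v) := by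
    intro m b l v
    have hc : proj ρ l (proj ρ m v) = proj ρ m (proj ρ l v) := by
      rw [proj_apply ρ m, proj_apply ρ m, map_add, map_add, proj_x, proj_x, proj_x]
    cases b
    · show proj ρ l (v + proj ρ m v) = proj ρ l v + proj ρ m (proj ρ l v)
      rw [map_add, hc]
    · exact hc
  have hFp : ∀ l v, proj ρ l (F f v) = if f l = true then F f v else 0 := by
    intro l v
    have hself : ∀ b (v : V), proj ρ l (pr l b v) = if b = true then pr l b v else 0 := by
      intro b v
      cases b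
      · show proj ρ l (v + proj ρ l v) = if (false = true) then _ else 0
        rw [map_add, proj_of_fixed ρ (x_proj ρ l v), add_self', if_neg Bool.false_ne_true]
      · exact (proj_of_fixed ρ (x_proj ρ l v)).trans (if_pos rfl).symm
    simp only [F, LinearMap.comp_apply]
    rcases (show l = 0 ∨ l = 1 ∨ l = 2 by fin_cases l <;> simp) with rfl | rfl | rfl
    · exact hself _ _
    · rw [hpc 0 (f 0), hself]
      split_ifs with h <;> simp [h]
    · rw [hpc 0 (f 0), hpc 1 (f 1), hself]
      split_ifs with h <;> simp [h]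
  -- the fixed projection
  let pj : Fin 3 → V →ₗ[ZMod 2] V := fun l => bif f l then proj ρ l else LinearMap.id
  let E : V →ₗ[ZMod 2] V := (pj 0).comp ((pj 1).comp (pj 2))
  have hEfix : ∀ v, (∀ l, f l = true → ρ (xR l) v = v) → E v = v := by
    intro v hv
    have h1 : ∀ l, pj l v = v := fun l => by
      by_cases h : f l = true
      · simp only [pj, h, cond_true]; exact proj_of_fixed ρ (hv l h)
      · simp only [pj, Bool.eq_false_iff.mpr h, cond_false, LinearMap.id_apply]
    simp only [E, LinearMap.comp_apply, h1]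
  have hpjx : ∀ m l v, pj m (ρ (xR l) v) = ρ (xR l) (pj m v) := by
    intro m l v
    simp only [pj]
    cases f m
    · rfl
    · exact proj_x ρ m l v
  have hEx : ∀ l v, E (ρ (xR l) v) = ρ (xR l) (E v) := fun l v => by simp only [E, LinearMap.comp_apply, hpjx]
  have hEim : ∀ v l, f l = true → ρ (xR l) (E v) = E v := by
    intro v l hl
    have hs : ∀ v, ρ (xR l) (pj l v) = pj l v := fun v => by
      simp only [pj, hl, cond_true]; exact x_proj ρ l v
    simp only [E, LinearMap.comp_apply]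
    rcases (show l = 0 ∨ l = 1 ∨ l = 2 by fin_cases l <;> simp) with rfl | rfl | rfl
    · exact hs _
    · rw [← hpjx]; congr 1; exact hs _
    · rw [← hpjx, ← hpjx]; congr 2; exact hs _
  -- the large fixed space
  let U1 : Fin 3 → Submodule (ZMod 2) V → Submodule (ZMod 2) V := fun l U =>
    bif f l then U ⊔ Submodule.span (ZMod 2) {F f (wd l)} else U
  let U2 : Fin 3 → Submodule (ZMod 2) V → Submodule (ZMod 2) V := fun l U =>
    bif f l then U else U ⊔ U.map (ρ (xR l)).toLinearMap
  let A : Submodule (ZMod 2) V → (Fin 3 → Bool) → Prop := fun U P =>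
    (∀ v ∈ U, ∀ l, f l = true → ρ (xR l) v = v) ∧
      (∀ v ∈ U, ∀ l, P l = true → proj ρ l v = if f l = true then v else 0) ∧
      ∀ v ∈ U, ∀ l, P l = true → ρ (iR l) v = v
  have hin : ∀ v, (∀ l, f l = true → ρ (xR l) (F f v) = F f v) := fun v l hl => by
    have h := hFp l v
    rw [if_pos hl] at h
    rw [← h, x_proj]
  have hA1 : ∀ l U P P', A U P → P l = true → (∀ m, P' m = true → P m = true ∧ (f l = true → m ≠ l)) →
      A (U1 l U) P' ∧ finrank (ZMod 2) U + (if f l then 1 else 0) ≤ finrank (ZMod 2) (U1 l U) := by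
    intro l U P P' ⟨h1, h2, h3⟩ hl hP
    by_cases hfl : f l = true
    swap
    · rw [show U1 l U = U by simp [U1, Bool.eq_false_iff.mpr hfl]]
      exact ⟨⟨h1, fun v hv m hm => h2 v hv m (hP m hm).1, fun v hv m hm => h3 v hv m (hP m hm).1⟩, by rw [if_neg hfl, add_zero]⟩
    rw [show U1 l U = U ⊔ Submodule.span (ZMod 2) {F f (wd l)} by simp [U1, hfl], if_pos hfl]
    have hmem : ∀ v ∈ U ⊔ Submodule.span (ZMod 2) {F f (wd l)}, ∃ a ∈ U, ∃ c : ZMod 2, v = a + c • F f (wd l) := by
      intro v hv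
      obtain ⟨a, ha, b, hb, rfl⟩ := Submodule.mem_sup.mp hv
      obtain ⟨c, rfl⟩ := Submodule.mem_span_singleton.mp hb
      exact ⟨a, ha, c, rfl⟩
    refine ⟨⟨fun v hv m hm => ?_, fun v hv m hm => ?_, fun v hv m hm => ?_⟩, ?_⟩
    · obtain ⟨a, ha, c, rfl⟩ := hmem v hv
      rw [map_add, map_smul, h1 a ha m hm, hin _ m hm]
    · obtain ⟨a, ha, c, rfl⟩ := hmem v hv
      rw [map_add, map_smul, h2 a ha m (hP m hm).1, hFp]
      split_ifs <;> simp
    · obtain ⟨a, ha, c, rfl⟩ := hmem v hv
      rw [map_add, map_smul, h3 a ha m (hP m hm).1, ← hFi, hw, if_neg ((hP m hm).2 hfl)]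
    · refine Submodule.finrank_lt_finrank_of_lt (lt_of_le_of_ne le_sup_left fun e => hf ?_)
      have hm : F f (wd l) ∈ U := e ▸ Submodule.mem_sup_right (Submodule.mem_span_singleton_self _)
      have h := h3 _ hm l hl
      rw [← hFi, hw, if_pos rfl, map_add] at h
      exact add_eq_left.mp h
  have hA2 : ∀ l U P P', A U P → (f l = false → P l = true) →
      (∀ m, P' m = true → P m = true ∧ (f l = false → m ≠ l)) →
      A (U2 l U) P' ∧ finrank (ZMod 2) U * (if f l then 1 else 2) ≤ finrank (ZMod 2) (U2 l U) := by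
    intro l U P P' ⟨h1, h2, h3⟩ hl hP
    by_cases hfl : f l = true
    · rw [show U2 l U = U by simp [U2, hfl], if_pos hfl, mul_one]
      exact ⟨⟨h1, fun v hv m hm => h2 v hv m (hP m hm).1, fun v hv m hm => h3 v hv m (hP m hm).1⟩, le_rfl⟩
    have hfl' := Bool.eq_false_iff.mpr hfl
    rw [show U2 l U = U ⊔ U.map (ρ (xR l)).toLinearMap by simp [U2, hfl'], if_neg hfl]
    have hmem : ∀ v ∈ U ⊔ U.map (ρ (xR l)).toLinearMap, ∃ a ∈ U, ∃ b ∈ U, v = a + ρ (xR l) b := by
      intro v hv
      obtain ⟨a, ha, b, ⟨c, hc, rfl⟩, rfl⟩ := Submodule.mem_sup.mp hv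
      exact ⟨a, ha, c, hc, rfl⟩
    refine ⟨⟨fun v hv m hm => ?_, fun v hv m hm => ?_, fun v hv m hm => ?_⟩, ?_⟩
    · obtain ⟨a, ha, b, hb, rfl⟩ := hmem v hv
      rw [map_add, h1 a ha m hm, x_comm, h1 b hb m hm]
    · obtain ⟨a, ha, b, hb, rfl⟩ := hmem v hv
      rw [map_add, proj_x, h2 a ha m (hP m hm).1, h2 b hb m (hP m hm).1]
      split_ifs <;> simp
    · obtain ⟨a, ha, b, hb, rfl⟩ := hmem v hv
      rw [map_add, i_x_comm ρ ((hP m hm).2 hfl'), h3 a ha m (hP m hm).1, h3 b hb m (hP m hm).1]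
    · rw [double ρ (fun v hv => h3 v hv l (hl hfl'))
        (fun v hv => (h2 v hv l (hl hfl')).trans (if_neg hfl)), mul_comm]
  obtain ⟨U, hU, hUd⟩ : ∃ U : Submodule (ZMod 2) V, (∀ v ∈ U, ∀ l, f l = true → ρ (xR l) v = v) ∧
      (1 + (if f 0 then 1 else 0) + (if f 1 then 1 else 0) + (if f 2 then 1 else 0)) * (if f 0 then 1 else 2) *
        (if f 1 then 1 else 2) * (if f 2 then 1 else 2) ≤ finrank (ZMod 2) U := by
    have h0 : A (Submodule.span (ZMod 2) {F f ū}) ![true, true, true] := by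
      refine ⟨fun v hv m hm => ?_, fun v hv m hm => ?_, fun v hv m hm => ?_⟩ <;>
        obtain ⟨c, rfl⟩ := Submodule.mem_span_singleton.mp hv <;> rw [map_smul]
      · rw [hin _ m hm]
      · rw [hFp]; split_ifs <;> simp
      · rw [← hFi, hi]
    have d0 : 1 ≤ finrank (ZMod 2) (Submodule.span (ZMod 2) {F f ū}) := (finrank_span_singleton hf).ge
    obtain ⟨a1, d1⟩ := hA1 0 _ _ ![!f 0, true, true] h0 rfl (fun m => by fin_cases m <;> simp)
    obtain ⟨a2, d2⟩ := hA1 1 _ _ ![!f 0, !f 1, true] a1 rfl (fun m => by fin_cases m <;> simp)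
    obtain ⟨a3, d3⟩ := hA1 2 _ _ ![!f 0, !f 1, !f 2] a2 rfl (fun m => by fin_cases m <;> simp)
    obtain ⟨a4, d4⟩ := hA2 0 _ _ ![false, !f 1, !f 2] a3 (fun h => by simp [h]) (fun m => by fin_cases m <;> simp)
    obtain ⟨a5, d5⟩ := hA2 1 _ _ ![false, false, !f 2] a4 (fun h => by simp [h]) (fun m => by fin_cases m <;> simp)
    obtain ⟨a6, d6⟩ := hA2 2 _ _ ![false, false, false] a5 (fun h => by simp [h]) (fun m => by fin_cases m <;> simp)
    refine ⟨_, a6.1, le_trans ?_ d6⟩
    refine Nat.mul_le_mul_right _ (le_trans ?_ d5)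
    refine Nat.mul_le_mul_right _ (le_trans ?_ d4)
    exact Nat.mul_le_mul_right _ (by omega)
  have hUE : U ≤ LinearMap.range E := fun v hv => ⟨v, hEfix v (hU v hv)⟩
  have hker : finrank (ZMod 2) (LinearMap.ker E) + finrank (ZMod 2) U ≤ 8 := by
    have := LinearMap.finrank_range_add_finrank_ker E
    have := Submodule.finrank_mono hUE
    omega
  -- the group fixing the complement pointwise is trivial
  let T : Subgroup RS := Subgroup.pi Set.univ fun l => if f l = true then alternatingGroup (Fin 3) else ⊥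
  have hT : ∀ r, r ∈ T ↔ ∀ l, if f l = true then Equiv.Perm.sign (r l) = 1 else r l = 1 := by
    intro r
    simp only [T, Subgroup.mem_pi, Set.mem_univ, forall_const]
    refine forall_congr' fun l => ?_
    split_ifs
    · exact Equiv.Perm.mem_alternatingGroup
    · exact Subgroup.mem_bot
  have hTgen : ∀ (P : RS → Prop), P 1 → (∀ a b, P a → P b → P (a * b)) → (∀ l, f l = true → P (xR l)) →
      ∀ r ∈ T, P r := by
    intro P h1 hm hx r hr
    have hs : ∀ l, P (Pi.mulSingle l (r l)) := by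
      intro l
      have h := (hT r).mp hr l
      by_cases hl : f l = true
      · rw [if_pos hl] at h
        rcases sign_one _ h with e | e | e <;> rw [e]
        · rw [Pi.mulSingle_one]; exact h1
        · exact hx l hl
        · rw [Pi.mulSingle_mul]; exact hm _ _ (hx l hl) (hx l hl)
      · rw [if_neg hl] at h
        rw [h, Pi.mulSingle_one]; exact h1
    have e : r = Pi.mulSingle 0 (r 0) * Pi.mulSingle 1 (r 1) * Pi.mulSingle 2 (r 2) := by
      funext l
      fin_cases l <;> simp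
    rw [e]
    exact hm _ _ (hm _ _ (hs 0) (hs 1)) (hs 2)
  have hTfix : ∀ r ∈ T, ∀ v, ρ r (E v) = E v := by
    intro r hr
    refine hTgen (fun r => ∀ v, ρ r (E v) = E v) (fun v => by rw [map_one]; rfl) (fun a b ha hb v => ?_)
      (fun l hl v => hEim v l hl) r hr
    rw [map_mul, LinearEquiv.mul_apply, hb, ha]
  have hTE : ∀ r ∈ T, ∀ v, E (ρ r v) = ρ r (E v) := by
    intro r hr
    refine hTgen (fun r => ∀ v, E (ρ r v) = ρ r (E v)) (fun v => by rw [map_one]; rfl) (fun a b ha hb v => ?_)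
      (fun l _ v => hEx l v) r hr
    rw [map_mul, LinearEquiv.mul_apply, LinearEquiv.mul_apply, ha, hb]
  let res : T →* Module.End (ZMod 2) (LinearMap.ker E) :=
    { toFun := fun r => (ρ (r : RS)).toLinearMap.restrict fun v hv => by
        show E (ρ (r : RS) v) = 0
        rw [hTE r r.2, LinearMap.mem_ker.mp hv, map_zero]
      map_one' := LinearMap.ext fun v => Subtype.ext (by simp)
      map_mul' := fun a b => LinearMap.ext fun v => Subtype.ext (by simp [LinearEquiv.mul_apply]) }
  have hres : Function.Injective res.toHomUnits := by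
    refine (injective_iff_map_eq_one _).mpr fun r hr => Subtype.ext (hinj ?_)
    have h := congrArg Units.val hr
    rw [OneMemClass.coe_one, map_one]
    refine LinearEquiv.ext fun v => ?_
    have hk : v + E v ∈ LinearMap.ker E := by
      rw [LinearMap.mem_ker, map_add, hEfix (E v) fun l hl => hEim v l hl, add_self']
    have h' := congrArg Subtype.val (LinearMap.congr_fun h ⟨_, hk⟩)
    change ρ (r : RS) (v + E v) = v + E v at h'
    rw [map_add, hTfix r r.2] at h'
    exact add_right_cancel h'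
  have hdvd := Subgroup.card_dvd_of_injective res.toHomUnits hres
  set n := finrank (ZMod 2) (LinearMap.ker E) with hn
  rw [Nat.card_congr (Units.mapEquiv (algEquivMatrix (Module.finBasisOfFinrankEq (ZMod 2) (LinearMap.ker E)
      hn.symm)).toMulEquiv).toEquiv,
    show Nat.card (Matrix (Fin n) (Fin n) (ZMod 2))ˣ = Nat.card (Matrix.GeneralLinearGroup (Fin n) (ZMod 2)) from rfl,
    Matrix.card_GL_field, Nat.card_congr (Equiv.subtypeEquivRight hT), Nat.card_eq_fintype_card, card_alt,
    ZMod.card] at hdvd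
  obtain ⟨g27, g9, g3⟩ := gl_small n
  obtain ⟨j, hj⟩ := hfk
  cases h0 : f 0 <;> cases h1 : f 1 <;> cases h2 : f 2 <;> simp only [h0, h1, h2, if_true, if_false,
      Bool.false_eq_true] at hUd hdvd <;> norm_num at hUd hdvd
  · rcases (show j = 0 ∨ j = 1 ∨ j = 2 by fin_cases j <;> simp) with rfl | rfl | rfl <;> simp_all
  · exact g3 (by omega) hdvd
  · exact g3 (by omega) hdvd
  · exact g9 (by omega) hdvd
  · exact g3 (by omega) hdvd
  · exact g9 (by omega) hdvd
  · exact g9 (by omega) hdvd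
  · exact g27 (by omega) hdvd

end

end Cfsg.Lib.OEightTwo
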