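import Cfsg.Agent.OEightTwo.Setting

/-!
Two conjugates of the extraspecial group containing the centre of each other.
-/

set_option autoImplicit false
set_option linter.style.haveILetI false
set_option linter.unusedSectionVars false

open Module Subgroup Cfsg.Lib.LargeExtra Cfsg.Lib.LargeExtra.EightSmith

namespace Cfsg.Lib.OEightTwo

universe u w

/-- The three-cycle of a coordinate. -/
def cyc : Equiv.Perm (Fin 3) := Equiv.swap 0 1 * Equiv.swap 1 2

/-- The transposition fixing the first point. -/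
def tau : Equiv.Perm (Fin 3) := Equiv.swap 1 2

/-- The element of order three of a coordinate. -/
def xR (k : Fin 3) : RS := Pi.mulSingle k cyc

/-- The involution of a coordinate. -/
def iR (k : Fin 3) : RS := Pi.mulSingle k tau

/-- The standard Sylow two-subgroup. -/
def sylS : Subgroup RS where
  carrier := {r | ∀ k, r k 0 = 0}
  one_mem' := fun _ => rfl
  mul_mem' := fun {a b} ha hb k => by rw [Pi.mul_apply, Equiv.Perm.mul_apply, hb k, ha k]
  inv_mem' := fun {a} ha k => by rw [Pi.inv_apply, Equiv.Perm.inv_eq_iff_eq]; exact (ha k).symm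

theorem mem_sylS {r : RS} : r ∈ sylS ↔ ∀ k, r k 0 = 0 := Iff.rfl

theorem iR_mem (k : Fin 3) : iR k ∈ sylS :=
  fun l => (show ∀ k l : Fin 3, (Pi.mulSingle k tau : RS) l 0 = 0 by decide +kernel) k l

theorem card_sylS : Nat.card sylS = 8 := by
  have h : Fintype.card {r : RS // ∀ k, r k 0 = 0} = 8 := by decide +kernel
  rw [← h, ← Nat.card_eq_fintype_card]
  rfl

theorem card_RS : Nat.card RS = 216 := by
  simp [Nat.card_eq_fintype_card, Fintype.card_perm]
  rfl

theorem card_le_eight {T : Subgroup RS} (hT : IsPGroup 2 T) : Nat.card T ≤ 8 := by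
  haveI : Fact (Nat.Prime 2) := ⟨Nat.prime_two⟩
  obtain ⟨n, hn⟩ := hT.exists_card_eq
  have h := Subgroup.card_subgroup_dvd_card T
  rw [hn, card_RS] at h
  rw [hn]
  have : n ≤ 3 := by
    by_contra hlt
    exact absurd ((Nat.pow_dvd_pow 2 (by omega : 4 ≤ n)).trans h) (by norm_num)
  exact le_trans (Nat.pow_le_pow_right two_pos this) le_rfl

theorem exists_conj_sylS {T : Subgroup RS} (hT : Nat.card T = 8) :
    ∃ h : RS, ∀ r, r ∈ T ↔ h * r * h⁻¹ ∈ sylS := by
  haveI : Fact (Nat.Prime 2) := ⟨Nat.prime_two⟩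
  have hf : 2 ^ (Nat.card RS).factorization 2 = 8 := by
    have h0 : Nat.card RS ≠ 0 := by rw [card_RS]; norm_num
    have h3 : 3 ≤ (Nat.card RS).factorization 2 :=
      (Nat.prime_two.pow_dvd_iff_le_factorization h0).mp (by rw [card_RS]; norm_num)
    have h4 : ¬ 4 ≤ (Nat.card RS).factorization 2 := fun h => by
      have h' := (Nat.prime_two.pow_dvd_iff_le_factorization h0).mpr h
      rw [card_RS] at h'
      norm_num at h'
    rw [show (Nat.card RS).factorization 2 = 3 by omega]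
    norm_num
  obtain ⟨h, hh⟩ := MulAction.exists_smul_eq RS (Sylow.ofCard T (hT.trans hf.symm))
    (Sylow.ofCard sylS (card_sylS.trans hf.symm))
  refine ⟨h, fun r => ?_⟩
  have e : sylS = T.map (MulAut.conj h).toMonoidHom := by
    rw [← Sylow.coe_ofCard sylS (card_sylS.trans hf.symm), ← hh, Sylow.coe_subgroup_smul, Sylow.coe_ofCard]
    rfl
  rw [e, mem_map_conj, show h⁻¹ * (h * r * h⁻¹) * h = r by group]

theorem half_le {G : Type u} [Group G] [Finite G] {Q : Subgroup G} {z : G} (hX : X2 Q z) {x : G} (hx : x ∈ Q) :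
    Nat.card Q ≤ 2 * Nat.card (Q ⊓ centralizer ({x} : Set G) : Subgroup G) := by
  classical
  by_cases hall : ∀ a ∈ Q, Commute a x
  · rw [inf_eq_left.mpr fun a ha => mem_centralizer_singleton_iff.mpr (hall a ha).eq]
    omega
  push Not at hall
  obtain ⟨b, hb, hbx⟩ := hall
  let f : Q → (Q ⊓ centralizer ({x} : Set G) : Subgroup G) × Bool := fun a =>
    if h : Commute (a : G) x then (⟨a, a.2, mem_centralizer_singleton_iff.mpr h.eq⟩, true)
    else (⟨a * b, mul_mem a.2 hb, mem_centralizer_singleton_iff.mpr (hX.commute_mul a.2 hb hx h hbx).eq⟩, false)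
  have hf : Function.Injective f := by
    intro a a' e
    simp only [f] at e
    split_ifs at e with h h' h'
    · exact Subtype.ext (congrArg (fun p => (p.1 : G)) e)
    · exact absurd (congrArg Prod.snd e) (by simp)
    · exact absurd (congrArg Prod.snd e) (by simp)
    · exact Subtype.ext (mul_right_cancel (congrArg (fun p => (p.1 : G)) e))
  have := Nat.card_le_card_of_injective f hf
  rw [Nat.card_prod, Nat.card_eq_fintype_card (α := Bool), Fintype.card_bool, mul_comm] at this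
  exact this

namespace Ctx

variable {G : Type u} {V : Type w} [Group G] [Finite G] [AddCommGroup V]
  [Module (ZMod 2) V] [Finite V] {q : QuadraticForm (ZMod 2) V} (C : Ctx G q)

local notation "𝐁" => QuadraticMap.polarBilin q

/-- The image of a subgroup. -/
noncomputable def im (A : Subgroup G) (hA : A ≤ C.Q) : Submodule (ZMod 2) V where
  carrier := {v | ∃ a ∈ A, C.π a = v}
  zero_mem' := ⟨1, one_mem _, C.π_one⟩
  add_mem' := by
    rintro _ _ ⟨a, ha, rfl⟩ ⟨b, hb, rfl⟩
    exact ⟨a * b, mul_mem ha hb, C.π_mul a (hA ha) b (hA hb)⟩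
  smul_mem' := by
    rintro c _ ⟨a, ha, rfl⟩
    rcases zmod2_cases c with rfl | rfl
    · rw [zero_smul]; exact ⟨1, one_mem _, C.π_one⟩
    · rw [one_smul]; exact ⟨a, ha, rfl⟩

theorem mem_im {A : Subgroup G} {hA : A ≤ C.Q} {v : V} : v ∈ C.im A hA ↔ ∃ a ∈ A, C.π a = v := Iff.rfl

theorem card_le_im {A : Subgroup G} (hA : A ≤ C.Q) : Nat.card A ≤ 2 * Nat.card (C.im A hA) := by
  classical
  have key : ∀ a ∈ A, ∀ b ∈ A, C.π a = C.π b → b = a ∨ b = C.z * a := fun a ha b hb h =>
    (C.eq_iff (hA ha) (hA hb)).mp h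
  let f : A → C.im A hA × Bool := fun a =>
    (⟨C.π a, a, a.2, rfl⟩, decide ((a : G) = Classical.choose (show ∃ x ∈ A, C.π x = C.π a from ⟨a, a.2, rfl⟩)))
  have hf : Function.Injective f := by
    rintro a b h
    have h1 : C.π a = C.π b := congrArg (fun p => (p.1 : V)) h
    have h2 := congrArg Prod.snd h
    simp only [f, decide_eq_decide] at h2
    have hc : Classical.choose (show ∃ x ∈ A, C.π x = C.π a from ⟨a, a.2, rfl⟩) =
        Classical.choose (show ∃ x ∈ A, C.π x = C.π b from ⟨b, b.2, rfl⟩) := by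
      congr! 2
      rw [h1]
    rw [hc] at h2
    set c := Classical.choose (show ∃ x ∈ A, C.π x = C.π b from ⟨b, b.2, rfl⟩)
    obtain ⟨hcA, hcπ⟩ := Classical.choose_spec (show ∃ x ∈ A, C.π x = C.π b from ⟨b, b.2, rfl⟩)
    by_cases ha : (a : G) = c
    · exact Subtype.ext (ha.trans (h2.mp ha).symm)
    · refine Subtype.ext ?_
      have hb : (b : G) ≠ c := fun e => ha (h2.mpr e)
      rw [((key c hcA a a.2 (hcπ.trans h1.symm)).resolve_left ha),
        ((key c hcA b b.2 hcπ).resolve_left hb)]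
  have := Nat.card_le_card_of_injective f hf
  rw [Nat.card_prod, Nat.card_eq_fintype_card (α := Bool), Fintype.card_bool, mul_comm] at this
  exact this

/-- An elementary abelian subgroup. -/
structure IsEl (A : Subgroup G) : Prop where
  le : A ≤ C.Q
  sq : ∀ a ∈ A, a * a = 1
  comm : ∀ a ∈ A, ∀ b ∈ A, Commute a b

theorem IsEl.singular {A : Subgroup G} (h : C.IsEl A) : ∀ v ∈ C.im A h.le, q v = 0 := by
  rintro _ ⟨a, ha, rfl⟩
  exact (C.π_sq a (h.le ha)).mpr (h.sq a ha)

theorem IsEl.finrank_le {A : Subgroup G} (h : C.IsEl A) : finrank (ZMod 2) (C.im A h.le) ≤ 4 := by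
  have := C.S.ts_le h.singular
  have := C.dim
  omega

theorem IsEl.card_le {A : Subgroup G} (h : C.IsEl A) : Nat.card A ≤ 32 := by
  have h1 := C.card_le_im h.le
  have h2 := Module.natCard_eq_pow_finrank (K := ZMod 2) (V := C.im A h.le)
  rw [Nat.card_zmod] at h2
  have h3 : Nat.card (C.im A h.le) ≤ 2 ^ 4 := h2 ▸ Nat.pow_le_pow_right two_pos h.finrank_le
  omega

/-- An elementary abelian subgroup of order 32 is its own centraliser. -/
theorem IsEl.max {A : Subgroup G} (h : C.IsEl A) (hc : 32 ≤ Nat.card A) :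
    C.z ∈ A ∧ finrank (ZMod 2) (C.im A h.le) = 4 ∧ ∀ x ∈ C.Q, (∀ a ∈ A, Commute x a) → x ∈ A := by
  have h2 := Module.natCard_eq_pow_finrank (K := ZMod 2) (V := C.im A h.le)
  rw [Nat.card_zmod] at h2
  have h1 := C.card_le_im h.le
  have hd := h.finrank_le
  have hfin : finrank (ZMod 2) (C.im A h.le) = 4 := by
    by_contra hne
    have := Nat.pow_le_pow_right two_pos (show finrank (ZMod 2) (C.im A h.le) ≤ 3 by omega)
    omega
  have hz : C.z ∈ A := by
    by_contra hz
    have hinj : Function.Injective fun a : A => (⟨C.π a, a, a.2, rfl⟩ : C.im A h.le) := fun a b e => by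
      rcases (C.eq_iff (h.le a.2) (h.le b.2)).mp (congrArg Subtype.val e) with e' | e'
      · exact Subtype.ext e'.symm
      · refine absurd ?_ hz
        have := mul_mem b.2 (inv_mem a.2)
        rwa [e', mul_inv_cancel_right] at this
    have := Nat.card_le_card_of_injective _ hinj
    rw [h2, hfin] at this
    omega
  refine ⟨hz, hfin, fun x hx hall => ?_⟩
  have hperp : C.S.perp (C.im A h.le) = C.im A h.le := by
    refine (Submodule.eq_of_le_of_finrank_le (fun v hv => C.S.mem_perp.mpr fun w hw => ?_) ?_).symm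
    · exact QS.B_of_ts h.singular w hw v hv
    · have := C.S.finrank_perp (C.im A h.le)
      have := C.dim
      omega
  have hxm : C.π x ∈ C.im A h.le := by
    rw [← hperp]
    refine C.S.mem_perp.mpr ?_
    rintro _ ⟨a, ha, rfl⟩
    exact (C.π_comm a (h.le ha) x hx).mpr (hall a ha).symm
  obtain ⟨a, ha, e⟩ := hxm
  rcases (C.eq_iff (h.le ha) hx).mp e with e' | e'
  · exact e' ▸ ha
  · exact e' ▸ mul_mem hz ha

/-- The image in `RS` of a subgroup centralising the centre. -/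
def imR (B : Subgroup G) (hB : ∀ b ∈ B, Commute b C.z) : Subgroup RS where
  carrier := {r | ∃ b ∈ B, C.μ b = r}
  one_mem' := ⟨1, one_mem _, C.μ_one⟩
  mul_mem' := by
    rintro _ _ ⟨a, ha, rfl⟩ ⟨b, hb, rfl⟩
    exact ⟨a * b, mul_mem ha hb, C.μ_mul a b (hB a ha) (hB b hb)⟩
  inv_mem' := by
    rintro _ ⟨a, ha, rfl⟩
    exact ⟨a⁻¹, B.inv_mem ha, C.μ_inv (hB a ha)⟩

theorem imR_isP {B : Subgroup G} (hB : ∀ b ∈ B, Commute b C.z) (hP : IsPGroup 2 B) : IsPGroup 2 (C.imR B hB) := by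
  rintro ⟨_, b, hb, rfl⟩
  obtain ⟨k, hk⟩ := hP ⟨b, hb⟩
  refine ⟨k, Subtype.ext ?_⟩
  show C.μ b ^ 2 ^ k = 1
  rw [← C.μ_pow (hB b hb), show b ^ 2 ^ k = 1 from congrArg Subtype.val hk, C.μ_one]

theorem card_le_imR {B : Subgroup G} (hB : ∀ b ∈ B, Commute b C.z) :
    Nat.card B ≤ Nat.card (C.imR B hB) * Nat.card (B ⊓ C.Q : Subgroup G) := by
  classical
  let f : B → C.imR B hB × (B ⊓ C.Q : Subgroup G) := fun b =>
    (⟨C.μ b, b, b.2, rfl⟩, ⟨(Classical.choose (show C.μ b ∈ C.imR B hB from ⟨b, b.2, rfl⟩))⁻¹ * b, by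
      obtain ⟨h1, h2⟩ := Classical.choose_spec (show C.μ b ∈ C.imR B hB from ⟨b, b.2, rfl⟩)
      refine Subgroup.mem_inf.mpr ⟨mul_mem (inv_mem h1) b.2, (C.μ_ker _ ((hB _ h1).inv_left.mul_left (hB b b.2))).mp ?_⟩
      rw [C.μ_mul _ _ (hB _ h1).inv_left (hB b b.2), C.μ_inv (hB _ h1), h2, inv_mul_cancel]⟩)
  have hf : Function.Injective f := fun a b e => by
    have h1 : C.μ a = C.μ b := congrArg (fun p => (p.1 : RS)) e
    have h2 := congrArg (fun p => (p.2 : G)) e
    simp only [f] at h2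
    refine Subtype.ext ?_
    have hc : Classical.choose (show C.μ a ∈ C.imR B hB from ⟨a, a.2, rfl⟩) =
        Classical.choose (show C.μ b ∈ C.imR B hB from ⟨b, b.2, rfl⟩) := by congr! 2; rw [h1]
    rw [hc] at h2
    exact mul_left_cancel h2
  have := Nat.card_le_card_of_injective f hf
  rwa [Nat.card_prod] at this

theorem centralizes_of_B {g : G} : ∀ b ∈ C.cQ g ⊓ centralizer ({C.z} : Set G), Commute b C.z := fun _ hb =>
  C.mem_Mz.mp (Subgroup.mem_inf.mp hb).2

/-- The intersection of a pair is elementary abelian of order 32 and the image is a Sylow two-subgroup. -/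
theorem pair_data {g : G} (hgQ : g * C.z * g⁻¹ ∈ C.Q) (hne : g * C.z * g⁻¹ ≠ C.z) :
    C.IsEl (C.Q ⊓ C.cQ g) ∧ Nat.card (C.Q ⊓ C.cQ g : Subgroup G) = 32 ∧ C.z ∈ C.cQ g ∧
      Nat.card (C.imR _ (C.centralizes_of_B (g := g))) = 8 := by
  have P := C.pair hgQ hne
  set v := g * C.z * g⁻¹
  set W := C.Q ⊓ C.cQ g
  have hv1 : v ≠ 1 := P.x'.ne
  have hW : C.IsEl W := by
    refine ⟨inf_le_left, fun a ha => ?_, fun a ha b hb => ?_⟩
    · obtain ⟨h1, h2⟩ := Subgroup.mem_inf.mp ha
      rcases C.x2.sq a h1 with e | e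
      · exact e
      rcases P.x'.sq a h2 with e' | e'
      · exact e'
      · exact absurd (e'.symm.trans e) hne
    · obtain ⟨h1, h2⟩ := Subgroup.mem_inf.mp ha
      obtain ⟨h3, h4⟩ := Subgroup.mem_inf.mp hb
      rcases C.x2.comm a h1 b h3 with e | e
      · exact commutatorElement_eq_one_iff_commute.mp e
      rcases P.x'.comm a h2 b h4 with e' | e'
      · exact commutatorElement_eq_one_iff_commute.mp e'
      · exact absurd (e'.symm.trans e) hne
  set B := C.cQ g ⊓ centralizer ({C.z} : Set G)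
  have hB : 256 ≤ Nat.card B := by
    have h1 : C.z ∈ C.cQ g := P.m'
    have h2 := half_le P.x' h1
    rw [C.card_cQ g] at h2
    show 256 ≤ Nat.card (C.cQ g ⊓ centralizer ({C.z} : Set G) : Subgroup G)
    omega
  have hBW : B ⊓ C.Q = W := by
    ext a
    simp only [B, W, Subgroup.mem_inf]
    exact ⟨fun h => ⟨h.2, h.1.1⟩, fun h => ⟨⟨h.2, C.mem_Mz.mpr (C.x2.central a h.1)⟩, h.1⟩⟩
  have h8 := card_le_eight (C.imR_isP (C.centralizes_of_B (g := g)) ((P.x'.isP).to_le inf_le_left))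
  have h32 := hW.card_le
  have hle := C.card_le_imR (C.centralizes_of_B (g := g))
  rw [hBW] at hle
  have hW32 : Nat.card W = 32 := by
    have h := le_trans (hB.trans hle) (Nat.mul_le_mul_right (Nat.card W) h8)
    omega
  refine ⟨hW, hW32, P.m', ?_⟩
  have h := hB.trans hle
  rw [hW32] at h
  omega

/-- An element of the second group moves the intersection by its centre. -/
theorem pair_act {g : G} (hgQ : g * C.z * g⁻¹ ∈ C.Q) (hne : g * C.z * g⁻¹ ≠ C.z) {b w : G}
    (hb : b ∈ C.cQ g) (hbz : Commute b C.z) (hw : w ∈ C.Q ⊓ C.cQ g) :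
    C.ρ (C.μ b) (C.π w) = C.π w ∨ C.ρ (C.μ b) (C.π w) = C.π w + C.π (g * C.z * g⁻¹) := by
  obtain ⟨h1, h2⟩ := Subgroup.mem_inf.mp hw
  rw [C.ρ_π b hbz w h1]
  rcases (C.x2' g).conj_cases hb h2 with e | e <;> rw [e]
  · exact Or.inl rfl
  · exact Or.inr (by rw [C.π_mul _ hgQ _ h1, add_comm])

/-- No element of the second group outside the first centralises the intersection. -/
theorem pair_faithful {g : G} (hgQ : g * C.z * g⁻¹ ∈ C.Q) (hne : g * C.z * g⁻¹ ≠ C.z) {b : G}
    (hb : b ∈ C.cQ g) (hbz : Commute b C.z)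
    (hfix : ∀ w ∈ C.Q ⊓ C.cQ g, C.ρ (C.μ b) (C.π w) = C.π w) : C.μ b = 1 := by
  have hπv : C.π (g * C.z * g⁻¹) ≠ 0 := fun h => by
    rcases C.eq_cases hgQ h with e | e
    · exact (C.x2' g).ne e
    · exact hne e
  obtain ⟨hW, hcard, hz, -⟩ := C.pair_data hgQ hne
  have hcomm : ∀ w ∈ C.Q ⊓ C.cQ g, Commute b w := fun w hw => by
    obtain ⟨h1, h2⟩ := Subgroup.mem_inf.mp hw
    rcases (C.x2' g).conj_cases hb h2 with e | e
    · exact mul_inv_eq_iff_eq_mul.mp e
    · exfalso
      have h := hfix w hw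
      rw [C.ρ_π b hbz w h1, e, C.π_mul _ hgQ _ h1] at h
      exact hπv (add_eq_right.mp h)
  -- transport to `Q`
  let A := (C.Q ⊓ C.cQ g).map (MulAut.conj g⁻¹).toMonoidHom
  have hmemA : ∀ x, x ∈ A ↔ g * x * g⁻¹ ∈ C.Q ⊓ C.cQ g := fun x => by
    rw [mem_map_conj, inv_inv]
  have hA : C.IsEl A := by
    refine ⟨fun x hx => ?_, fun x hx => ?_, fun x hx y hy => ?_⟩
    · have := C.mem_cQ.mp (Subgroup.mem_inf.mp ((hmemA x).mp hx)).2
      simpa [mul_assoc] using this
    · have h := hW.sq _ ((hmemA x).mp hx)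
      rw [show g * x * g⁻¹ * (g * x * g⁻¹) = g * (x * x) * g⁻¹ by group] at h
      exact conj_eq_one_iff.mp h
    · exact (Commute.conj_iff g).mp (hW.comm _ ((hmemA x).mp hx) _ ((hmemA y).mp hy))
  have hAc : 32 ≤ Nat.card A := by
    rw [Subgroup.card_map_of_injective (MulAut.conj g⁻¹).injective, hcard]
  have hb' : g⁻¹ * b * g ∈ A := (Ctx.IsEl.max C hA hAc).2.2 _ (C.mem_cQ.mp hb) fun x hx => by
    have := (hcomm _ ((hmemA x).mp hx)).map (MulAut.conj g⁻¹).toMonoidHom
    simpa [MulAut.conj_apply, mul_assoc] using this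
  have := (Subgroup.mem_inf.mp ((hmemA _).mp hb')).1
  exact C.μ_mem (by simpa [mul_assoc] using this)

/-- A pure vector fixed by the standard Sylow subgroup, with dual vectors. -/
theorem exists_fixed_pure {g : G} (hgQ : g * C.z * g⁻¹ ∈ C.Q) (hne : g * C.z * g⁻¹ ≠ C.z) :
    ∃ g' : G, g' * C.z * g'⁻¹ ∈ C.Q ∧ g' * C.z * g'⁻¹ ≠ C.z ∧
      (∀ k, C.ρ (iR k) (C.π (g' * C.z * g'⁻¹)) = C.π (g' * C.z * g'⁻¹)) ∧
      (∀ r ∈ sylS, ∃ b ∈ C.cQ g', Commute b C.z ∧ C.μ b = r) ∧
      ∀ k, ∃ w ∈ C.Q ⊓ C.cQ g', ∀ l, C.ρ (iR l) (C.π w) =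
        if l = k then C.π w + C.π (g' * C.z * g'⁻¹) else C.π w := by
  classical
  obtain ⟨h, hh⟩ := exists_conj_sylS (C.pair_data hgQ hne).2.2.2
  obtain ⟨m, hm, hmh⟩ := C.μ_surj h
  set g' := m * g with hg'
  have hv' : g' * C.z * g'⁻¹ = m * (g * C.z * g⁻¹) * m⁻¹ := by rw [hg']; group
  have hgQ' : g' * C.z * g'⁻¹ ∈ C.Q := hv' ▸ C.conj_mem hm hgQ
  have hne' : g' * C.z * g'⁻¹ ≠ C.z := fun e => hne (by
    rw [hv'] at e
    calc g * C.z * g⁻¹ = m⁻¹ * (m * (g * C.z * g⁻¹) * m⁻¹) * m⁻¹⁻¹ := by group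
      _ = m⁻¹ * C.z * m⁻¹⁻¹ := by rw [e]
      _ = C.z := C.z_conj hm.inv_left)
  refine ⟨g', hgQ', hne', ?_⟩
  have hlift : ∀ r ∈ sylS, ∃ b ∈ C.cQ g', Commute b C.z ∧ C.μ b = r := fun r hr => by
    have hr' : h⁻¹ * r * h ∈ C.imR _ (C.centralizes_of_B (g := g)) :=
      (hh _).mpr (by rwa [show h * (h⁻¹ * r * h) * h⁻¹ = r by group])
    obtain ⟨b, hb, hbr⟩ := hr'
    have hbz := C.centralizes_of_B b hb
    refine ⟨m * b * m⁻¹, C.mem_cQ.mpr ?_, (hm.mul_left hbz).mul_left hm.inv_left, ?_⟩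
    · rw [hg', show (m * g)⁻¹ * (m * b * m⁻¹) * (m * g) = g⁻¹ * b * g by group]
      exact C.mem_cQ.mp (Subgroup.mem_inf.mp hb).1
    · rw [C.μ_conj hm hbz, hbr, hmh]; group
  set ū := C.π (g' * C.z * g'⁻¹) with hū
  have hfixū : ∀ r ∈ sylS, C.ρ r ū = ū := fun r hr => by
    obtain ⟨b, hb, hbz, rfl⟩ := hlift r hr
    rw [hū, C.ρ_π b hbz _ hgQ', ((C.x2' g').central b hb).eq, mul_inv_cancel_right]
  refine ⟨fun k => hfixū _ (iR_mem k), hlift, ?_⟩
  set W := C.Q ⊓ C.cQ g'
  have hū0 : ū ≠ 0 := fun h0 => by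
    rcases C.eq_cases hgQ' h0 with e | e
    · exact (C.x2' g').ne e
    · exact hne' e
  have hcases : ∀ w ∈ W, ∀ r ∈ sylS, C.ρ r (C.π w) = C.π w ∨ C.ρ r (C.π w) = C.π w + ū := fun w hw r hr => by
    obtain ⟨b, hb, hbz, rfl⟩ := hlift r hr
    exact C.pair_act hgQ' hne' hb hbz hw
  let φ : G → Fin 3 → ZMod 2 := fun w l => if C.ρ (iR l) (C.π w) = C.π w then 0 else 1
  have hφ : ∀ w ∈ W, ∀ l, C.ρ (iR l) (C.π w) = C.π w + φ w l • ū := fun w hw l => by
    simp only [φ]
    split_ifs with e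
    · rw [zero_smul, add_zero, e]
    · rw [one_smul]; exact (hcases w hw _ (iR_mem l)).resolve_left e
  let M : Submodule (ZMod 2) (Fin 3 → ZMod 2) := Submodule.span (ZMod 2) (φ '' (W : Set G))
  have hM : ∀ f ∈ M, ∃ w ∈ W, φ w = f := by
    intro f hf
    induction hf using Submodule.span_induction with
    | mem x hx => exact hx
    | zero =>
      refine ⟨1, one_mem _, funext fun l => if_pos ?_⟩
      rw [C.π_one, map_zero]
    | add x y _ _ hx hy =>
      obtain ⟨a, ha, rfl⟩ := hx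
      obtain ⟨b, hb, rfl⟩ := hy
      refine ⟨a * b, mul_mem ha hb, funext fun l => ?_⟩
      have hab := hφ _ (mul_mem ha hb) l
      rw [C.π_mul a (inf_le_left (b := C.cQ g') ha) b (inf_le_left (b := C.cQ g') hb), map_add, hφ a ha l,
        hφ b hb l, add_add_add_comm, ← add_smul, add_right_inj] at hab
      show φ (a * b) l = φ a l + φ b l
      rcases zmod2_cases (φ (a * b) l) with e | e <;> rcases zmod2_cases (φ a l + φ b l) with e' | e' <;>
        rw [e, e'] at hab ⊢
      · rw [one_smul, zero_smul] at hab; exact absurd hab hū0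
      · rw [one_smul, zero_smul] at hab; exact absurd hab.symm hū0
    | smul c x _ hx =>
      rcases zmod2_cases c with rfl | rfl
      · refine ⟨1, one_mem _, funext fun l => ?_⟩
        rw [zero_smul]
        exact if_pos (by rw [C.π_one, map_zero])
      · rwa [one_smul]
  have htop : M = ⊤ := by
    by_contra hne0
    obtain ⟨f, hf0, hf⟩ := Submodule.exists_le_ker_of_lt_top M (lt_top_iff_ne_top.mpr hne0)
    have ext3 : ∀ x : Fin 3 → ZMod 2, f x = x 0 * f (Pi.single 0 1) + x 1 * f (Pi.single 1 1) + x 2 * f (Pi.single 2 1) := by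
      intro x
      conv_lhs => rw [show x = x 0 • (Pi.single 0 1 : Fin 3 → ZMod 2) + x 1 • Pi.single 1 1 + x 2 • Pi.single 2 1 from
        funext fun i => by fin_cases i <;> simp]
      simp only [map_add, map_smul, smul_eq_mul]
    let c : Fin 3 → ZMod 2 := fun l => f (Pi.single l 1)
    let s : RS := fun l => if c l = 1 then tau else 1
    have hsmem : s ∈ sylS := fun l => by simp only [s]; split_ifs <;> rfl
    have hs : s = (if c 0 = 1 then iR 0 else 1) * (if c 1 = 1 then iR 1 else 1) * (if c 2 = 1 then iR 2 else 1) := by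
      funext l
      by_cases h0 : c 0 = 1 <;> by_cases h1 : c 1 = 1 <;> by_cases h2 : c 2 = 1 <;> fin_cases l <;>
        simp [s, h0, h1, h2, iR]
    have hsne : s ≠ 1 := by
      intro e
      refine hf0 (LinearMap.ext fun x => ?_)
      have hc : ∀ l, c l = 0 := fun l => (zmod2_cases _).resolve_right fun h1 => by
        have := congrFun e l
        simp only [s, h1, if_true, Pi.one_apply] at this
        exact absurd this (by decide)
      simp only [c] at hc
      rw [ext3, hc, hc, hc]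
      simp
    obtain ⟨b, hb, hbz, hbs⟩ := hlift s hsmem
    refine hsne (hbs ▸ C.pair_faithful hgQ' hne' hb hbz fun w hw => ?_)
    rw [hbs, hs]
    have h0 : f (φ w) = 0 := LinearMap.mem_ker.mp (hf (Submodule.subset_span ⟨w, hw, rfl⟩))
    rw [ext3] at h0
    have step : ∀ l (a : ZMod 2), C.ρ (if c l = 1 then iR l else 1) (C.π w + a • ū) =
        C.π w + (a + φ w l * c l) • ū := fun l a => by
      rcases zmod2_cases (c l) with e | e <;> rw [e]
      · rw [if_neg zero_ne_one, map_one, mul_zero, add_zero]; rfl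
      · rw [if_pos rfl, map_add, map_smul, hfixū _ (iR_mem l), hφ w hw l, mul_one, add_smul, add_assoc,
          add_comm (φ w l • ū)]
    have e0 : C.π w = C.π w + (0 : ZMod 2) • ū := by rw [zero_smul, add_zero]
    conv_lhs => rw [e0]
    rw [map_mul, map_mul, LinearEquiv.mul_apply, LinearEquiv.mul_apply, step, step, step,
      show 0 + φ w 2 * c 2 + φ w 1 * c 1 + φ w 0 * c 0 = 0 by simp only [c]; linear_combination h0, zero_smul, add_zero]
  intro k
  obtain ⟨w, hw, e⟩ := hM (Pi.single k 1) (htop ▸ Submodule.mem_top)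
  refine ⟨w, hw, fun l => ?_⟩
  rw [hφ w hw l, e]
  by_cases hlk : l = k
  · subst hlk; simp
  · simp [hlk]

end Ctx

end Cfsg.Lib.OEightTwo
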