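import Cfsg.Agent.OEightTwo.Split
import Cfsg.Agent.OEightTwo.DualCheck

/-!
The relations of three copies of `SL 3` through a common node.
-/

set_option autoImplicit false
set_option linter.style.haveILetI false
set_option linter.unusedSectionVars false
set_option maxRecDepth 100000

open Module Subgroup Cfsg.Lib.LargeExtra Cfsg.Lib.LargeExtra.EightSmith
open Cfsg.Lib.ConwayType.Code (qB pB)
open scoped commutatorElement

namespace Cfsg.Lib.OEightTwo

universe u w

/-- The involution fixing the second point. -/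
def jR (k : Fin 3) : RS := Pi.mulSingle k (Equiv.swap 0 2)

/-- The involution exchanging the two basis points. -/
def nR (k : Fin 3) : RS := Pi.mulSingle k (Equiv.swap 0 1)

/-- A point with one coordinate changed. -/
def sgl (k i : Fin 3) : Fin 3 → Fin 3 := Function.update (fun _ => 0) k i

/-- The all-ones point with one coordinate changed. -/
def cosgl (k i : Fin 3) : Fin 3 → Fin 3 := Function.update (fun _ => 1) k i

theorem point_facts : (∀ p, act (fun k => cyc ^ (p k : ℕ)) 1 = pureC p) ∧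
    (∀ p p', pB (pureC p) (pureC p') = decide (∀ k : Fin 3, p k ≠ p' k)) ∧
    (∀ p, pureC p = 1 ↔ p = fun _ => 0) ∧
    (∀ k, pureC (sgl k 1) = bC k) ∧ (∀ k, pureC (cosgl k 0) = cC k) ∧
    (∀ k l, l ≠ k → pureB (1 ^^^ cC k ^^^ bC l) = false ∧ 1 ^^^ cC k ^^^ bC l ≠ 0) ∧
    (∀ x : Fin 256, pB x 1 = false → (∀ k, pB x (bC k) = false ∧ pB x (cC k) = false) →
      (x : ℕ) = 0 ∨ (x : ℕ) = 1) := by
  decide +kernel

theorem perm_facts : (∀ k, jR k = nR k * iR k * nR k) ∧ (∀ k, nR k = iR k * jR k * iR k) ∧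
    (∀ k, nR k * nR k = 1 ∧ jR k * jR k = 1) ∧
    (∀ k l, l ≠ k → Commute (iR l) (nR k) ∧ Commute (jR k) (iR l) ∧ Commute (jR k) (jR l)) := by
  refine ⟨?_, ?_, ?_, ?_⟩
  · decide +kernel
  · decide +kernel
  · decide +kernel
  · exact fun k l h => ⟨Pi.mulSingle_commute h _ _, Pi.mulSingle_commute h.symm _ _, Pi.mulSingle_commute h.symm _ _⟩

theorem stab_iR : ∀ r : RS, (∀ k, r * iR k = iR k * r) → (∀ k, act r (cC k) = cC k) → r = 1 := by
  decide +kernel

theorem move_facts : ∀ k l m : Fin 3, l ≠ k → m ≠ k → m ≠ l →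
    (fun i => iR l i (cosgl k 0 i)) = Function.update (cosgl k 0) l 2 ∧
    Function.update (Function.update (cosgl k 0) l 2) l 0 = sgl m 1 ∧
    Function.update (Function.update (cosgl k 0) l 2) l 1 = cosgl k 0 ∧
    (fun i => nR k i (sgl l 1 i)) = cosgl m 0 := by decide +kernel

theorem move_single : ∀ k : Fin 3, (fun i => iR k i (sgl k 1 i)) = sgl k 2 ∧
    (fun i => iR k i (cosgl k 1 i)) = cosgl k 2 ∧ (fun i => jR k i (0 : Fin 3)) = sgl k 2 ∧
    (fun i => nR k i (0 : Fin 3)) = sgl k 1 ∧ (fun i => nR k i (sgl k 1 i)) = (fun _ => 0) ∧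
    (fun i => nR k i (cosgl k 0 i)) = (fun _ => 1) ∧ (fun i => nR k i (1 : Fin 3)) = cosgl k 0 ∧
    (fun i => jR k i (1 : Fin 3)) = (fun _ => 1) ∧ (fun i => iR k i (cosgl k 0 i)) = cosgl k 0 ∧
    cosgl k 1 = (fun _ => 1) ∧ sgl k 0 = (fun _ => 0) := by decide +kernel

theorem move_other : ∀ k l : Fin 3, l ≠ k → (fun i => iR k i (sgl l 1 i)) = sgl l 1 ∧
    (fun i => jR k i (cosgl l 0 i)) = cosgl l 0 ∧
    (∃ i, cosgl k 0 i = sgl l 1 i) ∧
    (∃ p, (fun i => iR k i (p i)) = Function.update p k 2 ∧ Function.update (Function.update p k 2) k 0 = sgl l 1 ∧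
      Function.update (Function.update p k 2) k 1 = p) := by decide +kernel

theorem agree_facts : ∀ k : Fin 3, (∃ i, cosgl k 0 i = (1 : Fin 3)) ∧ (∃ i, sgl k 1 i = (1 : Fin 3)) ∧
    (∃ i, cosgl k 0 i = (0 : Fin 3)) ∧ ¬ (∃ i, cosgl k 0 i = sgl k 1 i) ∧ (∃ i, sgl k 1 i = (0 : Fin 3)) := by
  decide +kernel

variable {G : Type u} {V : Type w} [Group G] [Finite G] [AddCommGroup V]
  [Module (ZMod 2) V] [Finite V] {q : QuadraticForm (ZMod 2) V} {C : Ctx G q}

namespace Split

variable (S : Split C)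

/-- The second centre. -/
abbrev u : G := S.F.g * C.z * S.F.g⁻¹

/-- The lift of a point. -/
def σ (p : Fin 3 → Fin 3) : G :=
  S.s (fun k => cyc ^ (p k : ℕ)) * S.u * (S.s fun k => cyc ^ (p k : ℕ))⁻¹

theorem s_stab {r : RS} (hr : r ∈ sylS) : Commute (S.s r) S.u := (C.x2' S.F.g).central _ (S.s_mem r hr)

theorem σ_act (r : RS) (p : Fin 3 → Fin 3) : S.s r * S.σ p * (S.s r)⁻¹ = S.σ fun k => r k (p k) := by
  set r' : RS := (fun k => cyc ^ ((r k (p k) : Fin 3) : ℕ))⁻¹ * (r * fun k => cyc ^ (p k : ℕ)) with hr'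
  have hmem : r' ∈ sylS := fun k => by
    show ((cyc ^ ((r k (p k) : Fin 3) : ℕ))⁻¹ * (r k * cyc ^ (p k : ℕ))) 0 = 0
    rw [Equiv.Perm.mul_apply, Equiv.Perm.mul_apply, cyc_facts.1, Equiv.Perm.inv_eq_iff_eq, cyc_facts.1]
  have h := mul_inv_eq_iff_eq_mul.mpr (S.s_stab hmem).eq
  rw [hr', map_mul, map_mul, map_inv] at h
  rw [σ, σ]
  calc _ = S.s (fun k => cyc ^ ((r k (p k) : Fin 3) : ℕ)) *
        ((S.s fun k => cyc ^ ((r k (p k) : Fin 3) : ℕ))⁻¹ * (S.s r * S.s fun k => cyc ^ (p k : ℕ)) * S.u *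
          ((S.s fun k => cyc ^ ((r k (p k) : Fin 3) : ℕ))⁻¹ * (S.s r * S.s fun k => cyc ^ (p k : ℕ)))⁻¹) *
        (S.s fun k => cyc ^ ((r k (p k) : Fin 3) : ℕ))⁻¹ := by group
    _ = _ := by rw [h]

theorem σ_zero : S.σ (fun _ => 0) = S.u := by
  rw [σ, show (fun _ : Fin 3 => cyc ^ ((0 : Fin 3) : ℕ)) = (1 : RS) from funext fun k => rfl, map_one, one_mul,
    inv_one, mul_one]

theorem σ_mem (p : Fin 3 → Fin 3) : S.σ p ∈ C.Q := C.conj_mem (S.s_z _) S.F.gQ

theorem P_σ (p : Fin 3 → Fin 3) : S.F.P (S.σ p) = pureC p := by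
  rw [σ, S.F.P_conj _ (S.s_z _) _ S.F.gQ, S.s_μ, S.F.P_u]
  exact point_facts.1 p

theorem σ_cl (p : Fin 3 → Fin 3) : C.Cl (S.σ p) := C.cl_conj (C.cl_conj C.cl_z _) _

theorem σ_sq (p : Fin 3 → Fin 3) : S.σ p * S.σ p = 1 := C.cl_sq (S.σ_cl p)

theorem σ_commute {p p' : Fin 3 → Fin 3} (h : ∃ k, p k = p' k) : Commute (S.σ p) (S.σ p') := by
  rw [← S.F.P_comm _ (S.σ_mem p) _ (S.σ_mem p'), S.P_σ, S.P_σ, point_facts.2.1, decide_eq_false_iff_not]
  obtain ⟨k, hk⟩ := h
  exact fun h => h k hk

theorem σ_ncommute {p p' : Fin 3 → Fin 3} (h : ∀ k, p k ≠ p' k) : ¬ Commute (S.σ p) (S.σ p') := by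
  rw [← S.F.P_comm _ (S.σ_mem p) _ (S.σ_mem p'), S.P_σ, S.P_σ, point_facts.2.1, decide_eq_true h]
  exact Bool.noConfusion

theorem σ_line (k : Fin 3) (p : Fin 3 → Fin 3) (hp : p k = 2) :
    S.σ p = S.σ (Function.update p k 0) * S.σ (Function.update p k 1) := by
  have hbase : S.σ (sgl k 2) = S.u * S.σ (sgl k 1) := by
    have hin : S.σ (sgl k 1) ∈ C.cQ S.F.g := (S.F.mem_inter _ (S.σ_mem _)).mpr (by
      rw [S.P_σ, point_facts.2.2.2.1]; exact (split_codes.1 k).2.2.1)
    have h := S.σ_act (iR k) (sgl k 1)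
    rw [(move_single k).1] at h
    rcases (C.x2' S.F.g).conj_cases (S.s_mem _ (iR_mem k)) hin with e | e
    · exfalso
      have hne : ∀ k, pureC (sgl k 2) ≠ pureC (sgl k 1) := by decide +kernel
      exact hne k (by rw [← S.P_σ, ← S.P_σ, ← h, e])
    · rw [← h, e]
  set r : RS := fun l => cyc ^ ((Function.update p k 0 l : Fin 3) : ℕ)
  have hmove : ∀ i : Fin 3, (fun l => r l (sgl k i l)) = Function.update p k i := fun i => by
    funext l
    by_cases hl : l = k
    · subst hl; simp [r, sgl]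
    · simp [r, sgl, hl, cyc_facts.1]
  rw [show p = Function.update p k 2 by rw [← hp, Function.update_eq_self], Function.update_idem,
    Function.update_idem, ← hmove 2, ← hmove 1, ← hmove 0, ← S.σ_act, ← S.σ_act, ← S.σ_act, hbase,
    (move_single k).2.2.2.2.2.2.2.2.2.2, S.σ_zero]
  group

/-- The transported code. -/
noncomputable def PT (x : G) : ℕ := S.F.P (S.sw⁻¹ * x * S.sw)

theorem cQ_sw : C.cQ S.sw = C.cQ S.F.g := C.cQ_congr S.sw_z

theorem sw_mem {x : G} (hx : x ∈ C.cQ S.F.g) : S.sw⁻¹ * x * S.sw ∈ C.Q := C.mem_cQ.mp (S.cQ_sw ▸ hx)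

theorem sw_u : S.sw * S.u * S.sw⁻¹ = C.z := by
  show S.sw * (S.F.g * C.z * S.F.g⁻¹) * S.sw⁻¹ = C.z
  rw [← S.sw_inv]; group

theorem PT_mul {x y : G} (hx : x ∈ C.cQ S.F.g) (hy : y ∈ C.cQ S.F.g) : S.PT (x * y) = S.PT x ^^^ S.PT y := by
  rw [PT, PT, PT, ← S.F.P_mul _ (S.sw_mem hx) _ (S.sw_mem hy)]
  congr 1
  group

theorem PT_comm {x y : G} (hx : x ∈ C.cQ S.F.g) (hy : y ∈ C.cQ S.F.g) :
    pB (S.PT x) (S.PT y) = false ↔ Commute x y := by
  rw [PT, PT, S.F.P_comm _ (S.sw_mem hx) _ (S.sw_mem hy)]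
  have h := Commute.conj_iff (a := x) (b := y) S.sw⁻¹
  rwa [inv_inv] at h

theorem PT_sq {x : G} (hx : x ∈ C.cQ S.F.g) : qB (S.PT x) = false ↔ x * x = 1 := by
  rw [PT, S.F.P_sq _ (S.sw_mem hx), show S.sw⁻¹ * x * S.sw * (S.sw⁻¹ * x * S.sw) = S.sw⁻¹ * (x * x) * S.sw⁻¹⁻¹ by group,
    conj_eq_one_iff]

theorem PT_z : S.PT C.z = 1 := by rw [PT, S.sw_inv, S.F.P_u]

theorem PT_eq {x y : G} (hx : x ∈ C.cQ S.F.g) (hy : y ∈ C.cQ S.F.g) (h : S.PT x = S.PT y) :
    y = x ∨ y = S.u * x := by
  rcases S.F.eq_of_P (S.sw_mem hx) (S.sw_mem hy) h with e | e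
  · left
    calc y = S.sw * (S.sw⁻¹ * y * S.sw) * S.sw⁻¹ := by group
      _ = x := by rw [e]; group
  · right
    calc y = S.sw * (S.sw⁻¹ * y * S.sw) * S.sw⁻¹ := by group
      _ = S.sw * (C.z * (S.sw⁻¹ * x * S.sw)) * S.sw⁻¹ := by rw [e]
      _ = (S.sw * C.z * S.sw⁻¹) * x := by group
      _ = _ := by rw [S.sw_z]

theorem PT_cl {x : G} (hx : x ∈ C.cQ S.F.g) (hne : x ≠ S.u) : C.Cl x ↔ pureB (S.PT x) = true := by
  rw [PT, ← S.F.cl _ (S.sw_mem hx) fun e => hne ?_]
  · refine ⟨fun h => by simpa using C.cl_conj h S.sw⁻¹, fun h => ?_⟩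
    have := C.cl_conj h S.sw
    simpa [mul_assoc] using this
  · calc x = S.sw * (S.sw⁻¹ * x * S.sw) * S.sw⁻¹ := by group
      _ = _ := by rw [e, S.sw_z]

theorem u_comm {x : G} (hx : x ∈ C.cQ S.F.g) : Commute x S.u := (C.x2' S.F.g).central x hx

theorem J_mem (k : Fin 3) : S.s (iR k) ∈ C.cQ S.F.g := S.s_mem _ (iR_mem k)

theorem s_invol {r : RS} (h : r * r = 1) : S.s r * S.s r = 1 := by rw [← map_mul, h, map_one]

theorem s_act_invol {r : RS} (h : r * r = 1) (p : Fin 3 → Fin 3) :
    S.s r * S.σ p * S.s r = S.σ fun k => r k (p k) := by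
  have := S.σ_act r p
  rwa [inv_eq_of_mul_eq_one_right (S.s_invol h)] at this

theorem s_commute_σ {r : RS} {p : Fin 3 → Fin 3} (h : (fun k => r k (p k)) = p) : Commute (S.s r) (S.σ p) := by
  have := S.σ_act r p
  rw [h] at this
  exact mul_inv_eq_iff_eq_mul.mp this

/-- The element dual to the centre in the second extraspecial group. -/
theorem exists_dual : ∃ bp ∈ C.cQ S.F.g, C.Cl bp ∧ bp ≠ S.u ∧ bp * C.z * bp⁻¹ = S.u * C.z ∧
    (∀ k, Commute bp (S.σ (sgl k 1)) ∧ Commute bp (S.s (iR k)) ∧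
      pureB (S.PT bp ^^^ S.PT (S.σ (sgl k 1))) = false ∧
      qB (S.PT (S.s (iR k)) ^^^ 1 ^^^ S.PT bp) = true) ∧
    ∀ k, ∀ x ∈ C.cQ S.F.g, (Commute x C.z → (∀ l, (Commute x (S.σ (sgl l 1)) ↔ l ≠ k) ∧ Commute x (S.s (iR l))) →
        S.PT x = S.PT (S.s (iR k)) ∨ S.PT x = S.PT (S.s (iR k)) ^^^ 1) ∧
      (x * x = 1 → ¬ Commute x C.z → (∀ l, Commute x (S.σ (sgl l 1))) → (∀ l, l ≠ k → Commute x (S.s (iR l))) →
        S.PT x = S.PT bp ∨ S.PT x = S.PT bp ^^^ S.PT (S.σ (sgl k 1))) := by
  classical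
  have hwg : ∀ k, S.σ (sgl k 1) ∈ C.cQ S.F.g := fun k => (S.F.mem_inter _ (S.σ_mem _)).mpr (by
    rw [S.P_σ, point_facts.2.2.2.1]; exact (split_codes.1 k).2.2.1)
  have hzg : C.z ∈ C.cQ S.F.g := S.F.z_mem
  have hJg := S.J_mem
  have hPne : ∀ {x : G}, x ∈ C.Q → S.F.P x ≠ 0 → S.F.P x ≠ 1 →
      x ≠ 1 ∧ x ≠ C.z ∧ x ≠ S.u ∧ x ≠ S.u * C.z := by
    intro x _ h0 h1
    refine ⟨fun e => h0 (by rw [e, S.F.P_one]), fun e => h0 (by rw [e, S.F.P_z]),
      fun e => h1 (by rw [e]; exact S.F.P_u), fun e => h1 ?_⟩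
    rw [e, S.F.P_mul _ S.F.gQ _ C.x2.mem, S.F.P_u, S.F.P_z, Nat.xor_zero]
  have hPT01 : ∀ {x : G}, x ∈ C.cQ S.F.g → x ≠ 1 → x ≠ S.u → S.PT x ≠ 0 := by
    intro x hx h1 h2 h0
    have h0' : S.PT x = S.PT (1 : G) := by rw [h0]; simp [PT, S.F.P_one]
    rcases S.PT_eq hx (one_mem _) h0' with e | e
    · exact h1 e.symm
    · exact h2 (by rw [← mul_one S.u, e, ← mul_assoc, (C.x2' S.F.g).zz, one_mul])
  -- the images of the points
  have ha : ∀ k, S.PT (S.σ (sgl k 1)) < 256 ∧ pureB (S.PT (S.σ (sgl k 1))) = true ∧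
      inU (S.PT (S.σ (sgl k 1))) = true ∧ S.PT (S.σ (sgl k 1)) ≠ 1 := by
    intro k
    have hb : ∀ l : Fin 3, bC l ≠ 0 ∧ bC l ≠ 1 := by decide +kernel
    obtain ⟨-, -, n3, n4⟩ := hPne (S.σ_mem (sgl k 1)) (by rw [S.P_σ, point_facts.2.2.2.1]; exact (hb k).1)
      (by rw [S.P_σ, point_facts.2.2.2.1]; exact (hb k).2)
    refine ⟨S.F.lt _, (S.PT_cl (hwg k) n3).mp (S.σ_cl _), (S.F.mem_inter _ (S.sw_mem (hwg k))).mp ?_, fun e => ?_⟩
    · rw [← C.cQ_congr (g := S.sw⁻¹) (g' := S.F.g) (by rw [inv_inv]; exact S.sw_inv), C.mem_cQ]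
      simpa [mul_assoc] using S.σ_mem (sgl k 1)
    · rcases S.PT_eq (hwg k) hzg (e.trans S.PT_z.symm) with h | h
      · exact (hPne (S.σ_mem (sgl k 1)) (by rw [S.P_σ, point_facts.2.2.2.1]; exact (hb k).1)
          (by rw [S.P_σ, point_facts.2.2.2.1]; exact (hb k).2)).2.1 h.symm
      · refine n4 ?_
        rw [h, ← mul_assoc, (C.x2' S.F.g).zz, one_mul]
  have hpair : ∀ k l, k ≠ l → S.PT (S.σ (sgl k 1)) ≠ S.PT (S.σ (sgl l 1)) ∧
      pureB (S.PT (S.σ (sgl k 1)) ^^^ S.PT (S.σ (sgl l 1))) = false := by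
    intro k l hkl
    obtain ⟨p0, p1, p2⟩ := split_codes.2.1 k l hkl
    have hq : S.σ (sgl k 1) * S.σ (sgl l 1) ∈ C.Q := mul_mem (S.σ_mem _) (S.σ_mem _)
    have hg : S.σ (sgl k 1) * S.σ (sgl l 1) ∈ C.cQ S.F.g := mul_mem (hwg k) (hwg l)
    have hP : S.F.P (S.σ (sgl k 1) * S.σ (sgl l 1)) = bC k ^^^ bC l := by
      rw [S.F.P_mul _ (S.σ_mem _) _ (S.σ_mem _), S.P_σ, S.P_σ, point_facts.2.2.2.1, point_facts.2.2.2.1]
    obtain ⟨n1, n2, n3, -⟩ := hPne hq (hP ▸ p0) (hP ▸ p1)
    rw [← S.PT_mul (hwg k) (hwg l)]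
    refine ⟨fun h => hPT01 hg n1 n3 (by rw [S.PT_mul (hwg k) (hwg l), h, Nat.xor_self]), ?_⟩
    rw [← Bool.not_eq_true, ← S.PT_cl hg n3, S.F.cl _ hq n2, hP, p2]
    exact Bool.false_ne_true
  -- the images of the involutions
  have hJne : ∀ k, S.s (iR k) ∉ C.Q := fun k h => by
    have h' := C.μ_mem h
    rw [S.s_μ] at h'
    exact (show ∀ k : Fin 3, iR k ≠ 1 by decide +kernel) k h'
  have hv : ∀ k, S.PT (S.s (iR k)) < 256 ∧ pureB (S.PT (S.s (iR k))) = true ∧ inU (S.PT (S.s (iR k))) = false ∧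
      pB (S.PT (S.s (iR k))) 1 = false ∧ pB (S.PT (S.s (iR k))) (S.PT (S.σ (sgl k 1))) = true ∧
      ∀ l, l ≠ k → pB (S.PT (S.s (iR k))) (S.PT (S.σ (sgl l 1))) = false ∧
        pureB (S.PT (S.s (iR k)) ^^^ S.PT (S.σ (sgl l 1))) = true := by
    intro k
    have hJu : S.s (iR k) ≠ S.u := fun e => hJne k (e ▸ S.F.gQ)
    refine ⟨S.F.lt _, (S.PT_cl (hJg k) hJu).mp (S.s_pure k), ?_, ?_, ?_, fun l hl => ⟨?_, ?_⟩⟩
    · rw [← Bool.not_eq_true]
      show ¬ inU (S.F.P _) = true
      rw [← S.F.mem_inter _ (S.sw_mem (hJg k))]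
      intro h
      refine hJne k ?_
      rw [← C.cQ_congr (g := S.sw⁻¹) (g' := S.F.g) (by rw [inv_inv]; exact S.sw_inv), C.mem_cQ] at h
      simpa [mul_assoc] using h
    · rw [← S.PT_z, S.PT_comm (hJg k) hzg]; exact S.s_z _
    · rw [← Bool.not_eq_false, S.PT_comm (hJg k) (hwg k)]
      intro h
      have h' := S.σ_act (iR k) (sgl k 1)
      rw [h.eq, mul_inv_cancel_right, (move_single k).1] at h'
      have h2 := congrArg S.F.P h'
      rw [S.P_σ, S.P_σ] at h2
      exact (show ∀ k : Fin 3, pureC (sgl k 1) ≠ pureC (sgl k 2) by decide +kernel) k h2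
    · rw [S.PT_comm (hJg k) (hwg l)]
      exact S.s_commute_σ (move_other k l hl).1
    · obtain ⟨p, hp1, hp2, hp3⟩ := (move_other k l hl).2.2.2
      have hcl : C.Cl (S.s (iR k) * S.σ (sgl l 1)) := by
        have h1 := S.s_act_invol (sylS_sq (iR_mem k)) p
        rw [hp1, S.σ_line k _ (Function.update_self ..), hp2, hp3] at h1
        have := C.cl_conj (S.s_pure k) (S.σ p)
        have e : S.σ p * S.s (iR k) * (S.σ p)⁻¹ = S.s (iR k) * S.σ (sgl l 1) :=
          calc S.σ p * S.s (iR k) * (S.σ p)⁻¹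
              = S.s (iR k) * ((S.s (iR k))⁻¹ * S.σ p * S.s (iR k) * (S.σ p)⁻¹) := by group
            _ = _ := by
              rw [inv_eq_of_mul_eq_one_right (S.s_invol (sylS_sq (iR_mem k))), h1, mul_assoc (S.σ (sgl l 1)),
                mul_inv_cancel, mul_one]
        rwa [e] at this
      rw [← S.PT_mul (hJg k) (hwg l), ← S.PT_cl (mul_mem (hJg k) (hwg l))]
      · exact hcl
      · intro e
        refine hJne k ?_
        rw [show S.s (iR k) = S.s (iR k) * S.σ (sgl l 1) * (S.σ (sgl l 1))⁻¹ by group, e]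
        exact mul_mem S.F.gQ (inv_mem (S.σ_mem _))
  obtain ⟨β, hβ, hβp, hβ1, hβk, hchk⟩ := dual_vector ha hpair hv
  obtain ⟨x, hx, hPx⟩ := S.F.P_surj β hβ
  set bp := S.sw * x * S.sw⁻¹ with hbp
  have hbg : bp ∈ C.cQ S.F.g := by
    rw [← S.cQ_sw, C.mem_cQ, hbp]
    simpa [mul_assoc] using hx
  have hPT : S.PT bp = β := by rw [PT, hbp, ← hPx]; congr 1; group
  have hne : bp ≠ S.u := by
    intro e
    rw [e, PT, show S.sw⁻¹ * S.u * S.sw = C.z by
      show S.sw⁻¹ * (S.F.g * C.z * S.F.g⁻¹) * S.sw = C.z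
      rw [← S.sw_z]; group, S.F.P_z] at hPT
    rw [← hPT, split_codes.2.2.2] at hβp
    exact Bool.false_ne_true hβp
  refine ⟨bp, hbg, (S.PT_cl hbg hne).mpr (hPT ▸ hβp), hne, ?_, fun k => ?_, fun k x hx => ?_⟩
  · refine ((C.x2' S.F.g).conj_cases hbg hzg).resolve_left fun e => ?_
    have := (S.PT_comm hbg hzg).mpr (mul_inv_eq_iff_eq_mul.mp e)
    rw [hPT, S.PT_z, hβ1] at this
    exact Bool.noConfusion this
  · obtain ⟨e1, e2, e3, e4⟩ := hβk k
    exact ⟨(S.PT_comm hbg (hwg k)).mp (hPT ▸ e1), (S.PT_comm hbg (hJg k)).mp (hPT ▸ e3), hPT ▸ e2, hPT ▸ e4⟩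
  · obtain ⟨c1, c2⟩ := hchk k (S.PT x) (S.F.lt _)
    refine ⟨fun h1 h2 => ?_, fun h1 h2 h3 h4 => ?_⟩
    · refine c1 (by rw [← S.PT_z, S.PT_comm hx hzg]; exact h1) fun l => ⟨?_, (S.PT_comm hx (hJg l)).mpr (h2 l).2⟩
      by_cases hl : l = k
      · subst hl
        rw [beq_self_eq_true, ← Bool.not_eq_false, S.PT_comm hx (hwg l)]
        exact fun h => ((h2 l).1.mp h) rfl
      · rw [beq_false_of_ne hl, S.PT_comm hx (hwg l)]
        exact (h2 l).1.mpr hl
    · rw [hPT]
      refine c2 ((S.PT_sq hx).mpr h1) ?_ (fun l => (S.PT_comm hx (hwg l)).mpr (h3 l)) fun l hl =>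
        (S.PT_comm hx (hJg l)).mpr (h4 l hl)
      rw [← Bool.not_eq_false, ← S.PT_z, S.PT_comm hx hzg]
      exact h2

/-- The relations of the positive and negative elements of an edge. -/
structure Rels (a a' b b' c c' : G) : Prop where
  sqs : a * a = 1 ∧ a' * a' = 1 ∧ b * b = 1 ∧ b' * b' = 1 ∧ c * c = 1 ∧ c' * c' = 1
  ab : a * b * a * b = c
  a'c : a' * c * a' * c = b
  cb' : c * b' * c * b' = a
  a'b' : a' * b' * a' * b' = c'
  c'a : c' * a * c' * a = b'
  c'b : c' * b * c' * b = a'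
  comms : Commute a b' ∧ Commute a' b ∧ Commute c a ∧ Commute c b ∧ Commute c' a' ∧ Commute c' b'

set_option maxHeartbeats 1000000 in
theorem exists_rel : ∃ bp : G, C.Cl bp ∧ bp * C.z * bp = S.u * C.z ∧ ∀ k,
    Rels (S.s (iR k)) (S.s (jR k)) (S.σ fun _ => 1) bp (S.σ (cosgl k 0))
      (S.s (nR k) * bp * S.s (nR k)) := by
  classical
  obtain ⟨bp, hbg, hbcl, -, hbz, hbk, hchk⟩ := S.exists_dual
  set b := S.σ fun _ => 1 with hb
  set u := S.u with hu
  have hbb : b * b = 1 := S.σ_sq _
  have hpp : bp * bp = 1 := C.cl_sq hbcl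
  have hpi : bp⁻¹ = bp := inv_eq_of_mul_eq_one_right hpp
  have huu : u * u = 1 := (C.x2' S.F.g).zz
  have hzg : C.z ∈ C.cQ S.F.g := S.F.z_mem
  have huz : Commute u C.z := C.x2.central u S.F.gQ
  have hbpu : Commute bp u := S.u_comm hbg
  have hbpz : bp * C.z * bp = u * C.z := by rw [hpi] at hbz; exact hbz
  have hbpuz : bp * (u * C.z) * bp = C.z := by
    rw [← hbpz, show bp * (bp * C.z * bp) * bp = (bp * bp) * C.z * (bp * bp) by group, hpp, one_mul, mul_one]
  have hbzc : Commute b C.z := C.x2.central b (S.σ_mem _)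
  have hbu : b * u * b = C.z * u := by
    have h := (C.x2.not_commute_conj (S.σ_mem fun _ => 1) S.F.gQ fun e => ?_)
    · rw [← hb, inv_eq_of_mul_eq_one_right hbb] at h
      exact h
    · refine S.σ_ncommute (p := fun _ => 1) (p' := fun _ => 0) (fun k => by decide) ?_
      rw [S.σ_zero]; exact e
  have cj : ∀ {i x : G}, i * i = 1 → i * x * i = x → Commute i x := fun {i x} hi h => by
    show i * x = x * i
    calc i * x = i * x * (i * i) := by rw [hi, mul_one]
      _ = i * x * i * i := by group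
      _ = x * i := by rw [h]
  have jc : ∀ {i x : G}, i * i = 1 → Commute i x → i * x * i = x := fun {i x} hi h => by
    rw [h.eq, mul_assoc, hi, mul_one]
  let J : Fin 3 → G := fun k => S.s (iR k)
  let f : Fin 3 → G := fun k => S.σ (cosgl k 0)
  let W : Fin 3 → G := fun k => S.σ (sgl k 1)
  have hJJ : ∀ k, J k * J k = 1 := fun k => S.s_invol (sylS_sq (iR_mem k))
  have hff : ∀ k, f k * f k = 1 := fun k => S.σ_sq _
  have hfQ : ∀ k, f k ∈ C.Q := fun k => S.σ_mem _
  have hfu : ∀ k, Commute (f k) u := fun k => by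
    rw [hu, ← S.σ_zero]; exact S.σ_commute (agree_facts k).2.2.1
  have hWg : ∀ k, W k ∈ C.cQ S.F.g := fun k => (S.F.mem_inter _ (S.σ_mem _)).mpr (by
    rw [S.P_σ, point_facts.2.2.2.1]; exact (split_codes.1 k).2.2.1)
  have hJf : ∀ k, Commute (J k) (f k) := fun k => S.s_commute_σ (move_single k).2.2.2.2.2.2.2.2.1
  have hfb : ∀ k, Commute (f k) b := fun k => S.σ_commute (agree_facts k).1
  have hWb : ∀ k, Commute (W k) b := fun k => S.σ_commute (agree_facts k).2.1
  have hJbJ : ∀ k, J k * b * J k = f k * b := fun k => by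
    have h := S.s_act_invol (sylS_sq (iR_mem k)) (fun _ => 1)
    rw [show (fun i => iR k i ((fun _ => (1 : Fin 3)) i)) = cosgl k 2 by
      rw [← (move_single k).2.1, (move_single k).2.2.2.2.2.2.2.2.2.1],
      S.σ_line k (cosgl k 2) (Function.update_self ..)] at h
    show S.s (iR k) * b * S.s (iR k) = _
    rw [h, show Function.update (cosgl k 2) k 0 = cosgl k 0 from Function.update_idem ..,
      show Function.update (cosgl k 2) k 1 = fun _ => 1 by
        rw [show Function.update (cosgl k 2) k 1 = cosgl k 1 from Function.update_idem ..]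
        exact (move_single k).2.2.2.2.2.2.2.2.2.1]
  -- the commutator of `f` with the dual
  have hfz : ∀ k, Commute (f k) C.z := fun k => C.x2.central _ (hfQ k)
  have hcase : ∀ k, f k * bp * f k * bp = J k := by
    intro k
    set c := f k * bp * f k * bp with hc
    have hcg : c ∈ C.cQ S.F.g := by
      refine mul_mem ?_ hbg
      have := C.conj_mem' (g := S.F.g) (hfu k) hbg
      rwa [inv_eq_of_mul_eq_one_right (hff k)] at this
    have hcc : Commute c C.z := by
      refine mul_inv_eq_iff_eq_mul.mp ?_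
      calc c * C.z * c⁻¹ = f k * (bp * (f k * (bp * C.z * bp) * f k) * bp) * f k := by
            rw [hc, mul_inv_rev, mul_inv_rev, mul_inv_rev, hpi, inv_eq_of_mul_eq_one_right (hff k)]; group
        _ = C.z := by
            rw [hbpz, jc (hff k) ((hfu k).mul_right (hfz k)), hbpuz, jc (hff k) (hfz k)]
    have hcw : ∀ l, Commute c (W l) ↔ l ≠ k := by
      intro l
      constructor
      · rintro h rfl
        have hfw : f l * W l * f l = C.z * W l := by
          have h' := C.x2.not_commute_conj (hfQ l) (S.σ_mem (sgl l 1))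
            (S.σ_ncommute fun i e => (agree_facts l).2.2.2.1 ⟨i, e⟩)
          rwa [inv_eq_of_mul_eq_one_right (hff l)] at h'
        have hzw : Commute C.z (W l) := (C.x2.central _ (S.σ_mem _)).symm
        have hcW : c * W l * c⁻¹ = u * W l := by
          calc c * W l * c⁻¹ = f l * (bp * (f l * (bp * W l * bp) * f l) * bp) * f l := by
                rw [hc, mul_inv_rev, mul_inv_rev, mul_inv_rev, hpi, inv_eq_of_mul_eq_one_right (hff l)]; group
            _ = f l * (bp * (C.z * W l) * bp) * f l := by rw [jc hpp (hbk l).1, hfw]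
            _ = f l * ((bp * C.z * bp) * (bp * W l * bp)) * f l := by
                congr 2
                rw [show bp * C.z * bp * (bp * W l * bp) = bp * C.z * (bp * bp) * W l * bp by group, hpp, mul_one]
                group
            _ = (f l * (u * C.z) * f l) * (f l * W l * f l) := by
                rw [hbpz, jc hpp (hbk l).1, show f l * (u * C.z) * f l * (f l * W l * f l) =
                  f l * (u * C.z) * (f l * f l) * W l * f l by group, hff l, mul_one]
                simp only [W]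
                group
            _ = u * W l := by
                rw [jc (hff l) ((hfu l).mul_right (hfz l)), hfw, mul_assoc u, ← mul_assoc C.z, C.x2.zz, one_mul]
        rw [h.eq, mul_inv_cancel_right] at hcW
        exact (C.x2' S.F.g).ne (right_eq_mul.mp hcW)
      · intro hl
        have h1 : Commute (f k) (W l) := S.σ_commute (move_other k l hl).2.2.1
        exact ((h1.mul_left (hbk l).1).mul_left h1).mul_left (hbk l).1
    have hcJ : ∀ l, Commute c (J l) := by
      intro l
      by_cases hl : l = k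
      · subst hl
        exact (((hJf l).symm.mul_left (hbk l).2.1).mul_left (hJf l).symm).mul_left (hbk l).2.1
      obtain ⟨m, hmk, hml⟩ := (show ∀ k l : Fin 3, ∃ m, m ≠ k ∧ m ≠ l by decide) k l
      obtain ⟨e1, e2, e3, -⟩ := move_facts k l m hl hmk hml
      have hJfJ : J l * f k * J l = W m * f k := by
        have h := S.s_act_invol (sylS_sq (iR_mem l)) (cosgl k 0)
        rw [e1, S.σ_line l _ (Function.update_self ..), e2, e3] at h
        exact h
      have hWf : Commute (W m) (f k) := (S.σ_commute (move_other k m hmk).2.2.1).symm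
      have hWW : W m * W m = 1 := S.σ_sq _
      refine (cj (hJJ l) ?_).symm
      calc J l * c * J l = (J l * f k * J l) * (J l * bp * J l) * (J l * f k * J l) * (J l * bp * J l) := by
            rw [show (J l * f k * J l) * (J l * bp * J l) * (J l * f k * J l) * (J l * bp * J l) =
              J l * f k * (J l * J l) * bp * (J l * J l) * f k * (J l * J l) * bp * J l by group, hJJ, hc]
            group
        _ = W m * f k * bp * (W m * f k) * bp := by rw [hJfJ, jc (hJJ l) (hbk l).2.1.symm]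
        _ = W m * (f k * bp * f k) * (W m * bp) := by
          conv_lhs => arg 1; arg 2; rw [hWf.eq]
          group
        _ = W m * (f k * bp * f k) * (bp * W m) := by rw [((hbk m).1).symm.eq]
        _ = W m * c * W m := by rw [hc]; group
        _ = c := jc hWW (((hcw m).mpr hmk).symm)
    have hv := (hchk k c hcg).1 hcc fun l => ⟨hcw l, hcJ l⟩
    have hfbf : f k * bp * f k ∈ C.cQ S.F.g := by
      have := C.conj_mem' (g := S.F.g) (hfu k) hbg
      rwa [inv_eq_of_mul_eq_one_right (hff k)] at this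
    have hv' : S.PT c = S.PT (J k) := by
      refine hv.resolve_right fun e => ?_
      have hsq : f k * bp * f k * (f k * bp * f k) = 1 := by
        rw [show f k * bp * f k * (f k * bp * f k) = f k * bp * (f k * f k) * bp * f k by group, hff, mul_one,
          mul_assoc (f k), hpp, mul_one, hff]
      have h := (S.PT_sq hfbf).mpr hsq
      rw [show f k * bp * f k = c * bp by rw [hc, mul_assoc _ bp bp, hpp, mul_one], S.PT_mul hcg hbg, e,
        (hbk k).2.2.2] at h
      exact Bool.noConfusion h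
    rcases S.PT_eq (S.J_mem k) hcg hv'.symm with e | e
    · exact e
    exfalso
    have huJ : Commute u (J k) := (S.u_comm (S.J_mem k)).symm
    have hbf : bp * f k * bp = J k * u * f k := by
      calc bp * f k * bp = f k * f k * bp * f k * bp * (f k * f k) * 1 := by rw [hff]; group
        _ = f k * (f k * bp * f k * bp) * f k * f k := by group
        _ = f k * c * f k * f k := by rw [hc]
        _ = f k * c := by rw [mul_assoc, hff, mul_one]
        _ = f k * (u * J k) := by rw [e]
        _ = J k * u * f k := by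
          rw [huJ.eq, ((hJf k).symm.mul_right (hfu k)).eq]
    obtain ⟨l, hl⟩ := (show ∀ k : Fin 3, ∃ l, l ≠ k by decide) k
    have hWW : W l * W l = 1 := S.σ_sq _
    have hn : b * bp * b * (J k * W l) * (b * bp * b) = C.z * u * f k * W l := by
      calc b * bp * b * (J k * W l) * (b * bp * b) = b * (bp * (b * J k * (b * b) * W l * b) * bp) * b := by
            rw [hbb]; group
        _ = b * (bp * ((b * J k * b) * (b * W l * b)) * bp) * b := by group
        _ = b * (bp * (f k * J k * W l) * bp) * b := by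
            rw [jc hbb (hWb l).symm, show b * J k * b = f k * J k by
              calc b * J k * b = b * (J k * b * J k) * J k := by
                    rw [show b * (J k * b * J k) * J k = b * J k * b * (J k * J k) by group, hJJ, mul_one]
                _ = f k * J k := by rw [hJbJ, ← mul_assoc b, (hfb k).symm.eq, mul_assoc (f k), hbb, mul_one]]
        _ = b * ((bp * f k * bp) * (bp * J k * bp) * (bp * W l * bp)) * b := by
            rw [show (bp * f k * bp) * (bp * J k * bp) * (bp * W l * bp) =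
              bp * f k * (bp * bp) * J k * (bp * bp) * W l * bp by group, hpp]
            group
        _ = b * (J k * u * f k * J k * W l) * b := by rw [hbf, jc hpp (hbk k).2.1, jc hpp (hbk l).1]
        _ = b * (u * f k * W l) * b := by
            rw [huJ.symm.eq, mul_assoc (u * J k), ← (hJf k).eq, ← mul_assoc (u * J k), mul_assoc u, hJJ, mul_one]
        _ = (b * u * b) * (b * f k * b) * (b * W l * b) := by
            rw [show (b * u * b) * (b * f k * b) * (b * W l * b) =
              b * u * (b * b) * f k * (b * b) * W l * b by group, hbb]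
            group
        _ = C.z * u * f k * W l := by rw [hbu, jc hbb (hfb k).symm, jc hbb (hWb l).symm]
    have hcl : C.Cl (J k * W l) := by
      have hcJW : S.PT (J k) ^^^ S.PT (W l) = S.PT (J k * W l) := (S.PT_mul (S.J_mem k) (hWg l)).symm
      obtain ⟨p, hp1, hp2, hp3⟩ := (move_other k l hl).2.2.2
      have h1 := S.s_act_invol (sylS_sq (iR_mem k)) p
      rw [hp1, S.σ_line k _ (Function.update_self ..), hp2, hp3] at h1
      have := C.cl_conj (S.s_pure k) (S.σ p)
      rwa [show S.σ p * S.s (iR k) * (S.σ p)⁻¹ = J k * W l from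
        calc S.σ p * S.s (iR k) * (S.σ p)⁻¹
            = S.s (iR k) * ((S.s (iR k))⁻¹ * S.σ p * S.s (iR k) * (S.σ p)⁻¹) := by group
          _ = _ := by
            rw [inv_eq_of_mul_eq_one_right (S.s_invol (sylS_sq (iR_mem k))), h1, mul_assoc (S.σ (sgl l 1)),
              mul_inv_cancel, mul_one]] at this
    have hcl' := C.cl_conj hcl (b * bp * b)
    rw [show (b * bp * b)⁻¹ = b * bp * b by rw [mul_inv_rev, mul_inv_rev, hpi,
      inv_eq_of_mul_eq_one_right hbb, mul_assoc], hn] at hcl'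
    have hQ : C.z * u * f k * W l ∈ C.Q :=
      mul_mem (mul_mem (mul_mem C.x2.mem S.F.gQ) (hfQ k)) (S.σ_mem _)
    have hP : S.F.P (C.z * u * f k * W l) = 1 ^^^ cC k ^^^ bC l := by
      rw [S.F.P_mul _ (mul_mem (mul_mem C.x2.mem S.F.gQ) (hfQ k)) _ (S.σ_mem _),
        S.F.P_mul _ (mul_mem C.x2.mem S.F.gQ) _ (hfQ k), S.F.P_zmul S.F.gQ, S.F.P_u, S.P_σ, S.P_σ,
        point_facts.2.2.2.2.1, point_facts.2.2.2.1]
    obtain ⟨q1, q2⟩ := point_facts.2.2.2.2.2.1 k l hl
    have := (S.F.cl _ hQ fun e => q2 (by rw [← hP, e, S.F.P_z])).mp hcl'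
    rw [hP, q1] at this
    exact Bool.noConfusion this
  -- the braid element
  set n := b * bp * b with hn
  have hnn : n * n = 1 := by
    rw [show n * n = b * (bp * (b * b) * bp) * b by rw [hn]; group, hbb, mul_one, hpp, mul_one, hbb]
  have hbpf : ∀ k, bp * f k * bp = J k * f k := by
    intro k
    calc bp * f k * bp = f k * (f k * bp * f k * bp) := by
          rw [show f k * (f k * bp * f k * bp) = f k * f k * bp * f k * bp by group, hff, one_mul]
      _ = J k * f k := by rw [hcase]; exact (hJf k).symm.eq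
  have hbJb : ∀ k, b * J k * b = f k * J k := fun k => by
    calc b * J k * b = b * (J k * b * J k) * J k := by
          rw [show b * (J k * b * J k) * J k = b * J k * b * (J k * J k) by group, hJJ, mul_one]
      _ = f k * J k := by rw [hJbJ, ← mul_assoc b, (hfb k).symm.eq, mul_assoc (f k), hbb, mul_one]
  have nconj : ∀ x, n * x * n = b * (bp * (b * x * b) * bp) * b := fun x => by rw [hn]; group
  have hnz : n * C.z * n = u := by
    rw [nconj, jc hbb hbzc, hbpz, show b * (u * C.z) * b = b * u * b * (b * C.z * b) by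
      rw [show b * u * b * (b * C.z * b) = b * u * (b * b) * C.z * b by group, hbb]; group,
      hbu, jc hbb hbzc, huz.eq.symm, mul_assoc, C.x2.zz, mul_one]
  have hnu : n * u * n = C.z := by
    rw [← hnz, show n * (n * C.z * n) * n = (n * n) * C.z * (n * n) by group, hnn, one_mul, mul_one]
  have hnJ : ∀ k, n * J k * n = f k := fun k => by
    rw [nconj, hbJb, show bp * (f k * J k) * bp = (bp * f k * bp) * (bp * J k * bp) by
      rw [show (bp * f k * bp) * (bp * J k * bp) = bp * f k * (bp * bp) * J k * bp by group, hpp]; group,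
      hbpf, jc hpp (hbk k).2.1, (hJf k).eq, mul_assoc (f k), show J k * S.s (iR k) = 1 from hJJ k, mul_one,
      jc hbb (hfb k).symm]
  have hnf : ∀ k, n * f k * n = J k := fun k => by
    rw [← hnJ, show n * (n * J k * n) * n = (n * n) * J k * (n * n) by group, hnn, one_mul, mul_one]
  have hnW : ∀ k, n * W k * n = W k := fun k => by
    rw [nconj, jc hbb (hWb k).symm, jc hpp (hbk k).1, jc hbb (hWb k).symm]
  -- the braid relation
  set n' := bp * b * bp with hn'
  have hn'n' : n' * n' = 1 := by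
    rw [show n' * n' = bp * (b * (bp * bp) * b) * bp by rw [hn']; group, hpp, mul_one, hbb, mul_one, hpp]
  have nconj' : ∀ x, n' * x * n' = bp * (b * (bp * x * bp) * b) * bp := fun x => by rw [hn']; group
  have hn'z : n' * C.z * n' = u := by
    rw [nconj', hbpz, show b * (u * C.z) * b = b * u * b * (b * C.z * b) by
      rw [show b * u * b * (b * C.z * b) = b * u * (b * b) * C.z * b by group, hbb]; group,
      hbu, jc hbb hbzc, huz.eq.symm, mul_assoc u C.z C.z, C.x2.zz, mul_one, jc hpp hbpu]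
  have hn'u : n' * u * n' = C.z := by
    rw [← hn'z, show n' * (n' * C.z * n') * n' = (n' * n') * C.z * (n' * n') by group, hn'n', one_mul, mul_one]
  have hn'J : ∀ k, n' * J k * n' = f k := fun k => by
    rw [nconj', jc hpp (hbk k).2.1, hbJb, show bp * (f k * J k) * bp = (bp * f k * bp) * (bp * J k * bp) by
      rw [show (bp * f k * bp) * (bp * J k * bp) = bp * f k * (bp * bp) * J k * bp by group, hpp]; group,
      hbpf, jc hpp (hbk k).2.1, (hJf k).eq, mul_assoc, hJJ, mul_one]
  have hn'f : ∀ k, n' * f k * n' = J k := fun k => by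
    rw [← hn'J, show n' * (n' * J k * n') * n' = (n' * n') * J k * (n' * n') by group, hn'n', one_mul, mul_one]
  have hn'W : ∀ k, n' * W k * n' = W k := fun k => by
    rw [nconj', jc hpp (hbk k).1, jc hbb (hWb k).symm, jc hpp (hbk k).1]
  set y := n * n' with hy
  have ycomm : ∀ x, n * (n' * x * n') * n = x → Commute y x := fun x h => by
    refine mul_inv_eq_iff_eq_mul.mp ?_
    rw [hy, mul_inv_rev, inv_eq_of_mul_eq_one_right hn'n', inv_eq_of_mul_eq_one_right hnn]
    calc n * n' * x * (n' * n) = n * (n' * x * n') * n := by group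
      _ = x := h
  have hyz : Commute y C.z := ycomm _ (by rw [hn'z, hnu])
  have hyu : Commute y u := ycomm _ (by rw [hn'u, hnz])
  have hyW : ∀ k, Commute y (W k) := fun k => ycomm _ (by rw [hn'W, hnW])
  have hyJ : ∀ k, Commute y (J k) := fun k => ycomm _ (by rw [hn'J, hnf])
  have hyf : ∀ k, Commute y (f k) := fun k => ycomm _ (by rw [hn'f, hnJ])
  have hyQ : y ∈ C.Q := by
    refine (C.μ_ker y hyz).mp (stab_iR _ (fun k => ?_) fun k => ?_)
    · rw [← S.s_μ (iR k), ← C.μ_mul _ _ hyz (S.s_z _), ← C.μ_mul _ _ (S.s_z _) hyz, (hyJ k).eq]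
    · rw [← point_facts.2.2.2.2.1, ← S.P_σ, ← S.F.P_conj _ hyz _ (hfQ k), (hyf k).eq, mul_inv_cancel_right]
  have hy01 := point_facts.2.2.2.2.2.2 ⟨S.F.P y, S.F.lt y⟩
    (by show pB (S.F.P y) 1 = false; rw [← S.F.P_u, S.F.P_comm _ hyQ _ S.F.gQ]; exact hyu) (fun k => by
      constructor
      · show pB (S.F.P y) (bC k) = false
        rw [← point_facts.2.2.2.1, ← S.P_σ, S.F.P_comm _ hyQ _ (S.σ_mem _)]; exact hyW k
      · show pB (S.F.P y) (cC k) = false
        rw [← point_facts.2.2.2.2.1, ← S.P_σ, S.F.P_comm _ hyQ _ (hfQ k)]; exact hyf k)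
  have hy4 : y = 1 ∨ y = C.z ∨ y = u ∨ y = C.z * u := by
    rcases hy01 with e | e
    · rcases (S.F.P_ker y hyQ).mp e with h | h
      exacts [Or.inl h, Or.inr (Or.inl h)]
    · rcases S.F.eq_of_P S.F.gQ hyQ (S.F.P_u.trans e.symm) with h | h
      exacts [Or.inr (Or.inr (Or.inl h)), Or.inr (Or.inr (Or.inr h))]
  have hyy : y * y = 1 := by
    rcases hy4 with h | h | h | h <;> rw [h]
    · exact one_mul 1
    · exact C.x2.zz
    · exact huu
    · rw [huz.mul_mul_mul_comm, C.x2.zz, huu, one_mul]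
  have hyi : n' * n = y := by
    rw [← inv_eq_of_mul_eq_one_right hyy, hy, mul_inv_rev, inv_eq_of_mul_eq_one_right hnn,
      inv_eq_of_mul_eq_one_right hn'n']
  have hyb : b * y * b = y := by
    conv_rhs => rw [← hyi]
    rw [hy, hn', hn]
    calc b * (b * bp * b * (bp * b * bp)) * b = (b * b) * bp * b * bp * b * bp * b := by group
      _ = bp * b * bp * (b * bp * b) := by rw [hbb]; group
  have hybp : bp * y * bp = y := by
    conv_rhs => rw [← hyi]
    rw [hy, hn', hn]
    calc bp * (b * bp * b * (bp * b * bp)) * bp = bp * b * bp * b * bp * b * (bp * bp) := by group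
      _ = bp * b * bp * (b * bp * b) := by rw [hpp]; group
  have hy1 : y = 1 := by
    rcases hy4 with h | h | h | h
    · exact h
    · rw [h, hbpz] at hybp
      exact absurd (mul_eq_right.mp hybp) (C.x2' S.F.g).ne
    · rw [h, hbu] at hyb
      exact absurd (mul_eq_right.mp hyb) C.x2.ne
    · rw [h, show b * (C.z * u) * b = b * C.z * b * (b * u * b) by
        rw [show b * C.z * b * (b * u * b) = b * C.z * (b * b) * u * b by group, hbb]; group,
        jc hbb hbzc, hbu, ← mul_assoc, C.x2.zz, one_mul] at hyb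
      exact absurd (right_eq_mul.mp hyb) C.x2.ne
  have hnn' : n = n' := by
    have h : n * n' = n * n := by rw [← hy, hy1, hnn]
    exact (mul_left_cancel h).symm
  have hnb : n * b * n = bp := by
    calc n * b * n = n' * b * n := by rw [← hnn']
      _ = bp * b * bp * b * (b * bp * b) := by rw [hn', hn]
      _ = bp * b * (bp * (b * b) * bp) * b := by group
      _ = bp := by rw [hbb, mul_one, hpp, mul_one, mul_assoc, hbb, mul_one]
  have hnbp : n * bp * n = b := by
    rw [← hnb, show n * (n * b * n) * n = (n * n) * b * (n * n) by group, hnn, one_mul, mul_one]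
  -- the relations
  refine ⟨bp, hbcl, hbpz, fun k => ?_⟩
  set N := S.s (nR k) with hN
  set J' := S.s (jR k) with hJ'
  have hNN : N * N = 1 := S.s_invol (perm_facts.2.2.1 k).1
  have hJ'J' : J' * J' = 1 := S.s_invol (perm_facts.2.2.1 k).2
  have hNJ : N * J k * N = J' := by
    show S.s (nR k) * S.s (iR k) * S.s (nR k) = S.s (jR k)
    rw [← map_mul, ← map_mul, ← perm_facts.1]
  have hJJ'J : J k * J' * J k = N := by
    show S.s (iR k) * S.s (jR k) * S.s (iR k) = S.s (nR k)
    rw [← map_mul, ← map_mul, ← perm_facts.2.1]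
  have Nconj : ∀ x y : G, N * (x * y) * N = (N * x * N) * (N * y * N) := fun x y => by
    rw [show (N * x * N) * (N * y * N) = N * x * (N * N) * y * N by group, hNN]; group
  have nmul : ∀ x y : G, n * (x * y) * n = (n * x * n) * (n * y * n) := fun x y => by
    rw [show (n * x * n) * (n * y * n) = n * x * (n * n) * y * n by group, hnn]; group
  have hNu : N * u * N = W k := by
    have h := S.s_act_invol (perm_facts.2.2.1 k).1 (fun _ => 0)
    rw [(move_single k).2.2.2.1, S.σ_zero] at h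
    exact h
  have hNW : N * W k * N = u := by
    have h := S.s_act_invol (perm_facts.2.2.1 k).1 (sgl k 1)
    rw [(move_single k).2.2.2.2.1, S.σ_zero] at h
    exact h
  have hNf : N * f k * N = b := by
    have h := S.s_act_invol (perm_facts.2.2.1 k).1 (cosgl k 0)
    rw [(move_single k).2.2.2.2.2.1] at h
    exact h
  have hNb : N * b * N = f k := by
    rw [← hNf, show N * (N * f k * N) * N = (N * N) * f k * (N * N) by group, hNN, one_mul, mul_one]
  have hJ'b : Commute J' b := S.s_commute_σ (move_single k).2.2.2.2.2.2.2.1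
  set Y := n * J' * n with hY
  have hYY : Y * Y = 1 := by
    rw [show Y * Y = n * (J' * (n * n) * J') * n by rw [hY]; group, hnn, mul_one, hJ'J', mul_one, hnn]
  set Y0 := N * Y * N with hY0
  have hY0Y0 : Y0 * Y0 = 1 := by
    rw [show Y0 * Y0 = N * (Y * (N * N) * Y) * N by rw [hY0]; group, hNN, mul_one, hYY, mul_one, hNN]
  have hY0g : Y0 ∈ C.cQ S.F.g := by
    have hw : N * S.F.g * C.z * (N * S.F.g)⁻¹ = W k := by
      rw [← hNu, hu]
      show _ = N * (S.F.g * C.z * S.F.g⁻¹) * N
      rw [mul_inv_rev, inv_eq_of_mul_eq_one_right hNN]; group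
    have hJ'm : J' ∈ C.cQ (N * S.F.g) := by
      rw [C.mem_cQ, show (N * S.F.g)⁻¹ * J' * (N * S.F.g) = S.F.g⁻¹ * (N⁻¹ * J' * N) * S.F.g by group, ← C.mem_cQ,
        inv_eq_of_mul_eq_one_right hNN, ← hNJ,
        show N * (N * J k * N) * N = (N * N) * J k * (N * N) by group, hNN, one_mul, mul_one]
      exact S.J_mem k
    have hnc : Commute n (N * S.F.g * C.z * (N * S.F.g)⁻¹) := by rw [hw]; exact cj hnn (hnW k)
    have hYm := C.conj_mem' hnc hJ'm
    rw [inv_eq_of_mul_eq_one_right hnn, C.mem_cQ] at hYm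
    rw [C.mem_cQ]
    rw [mul_inv_rev, inv_eq_of_mul_eq_one_right hNN] at hYm
    simpa [hY0, hY, mul_assoc] using hYm
  have hYcases : Y0 = bp ∨ Y0 = u * bp := by
    have hYz : ¬ Commute Y C.z := fun h => by
      have h1 := jc hYY h
      have h2 : J' * u * J' = u := by
        have := congrArg (fun x => n * x * n) h1
        simp only [nmul, hnz] at this
        rwa [show n * Y * n = J' by
          rw [hY, show n * (n * J' * n) * n = (n * n) * J' * (n * n) by group, hnn, one_mul, mul_one]] at this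
      have h3 := S.s_act_invol (perm_facts.2.2.1 k).2 (fun _ => 0)
      rw [(move_single k).2.2.1, S.σ_zero, ← hJ', ← hu, h2] at h3
      have h4 := congrArg S.F.P h3
      rw [hu, S.F.P_u, S.P_σ] at h4
      exact (show ∀ k : Fin 3, 1 ≠ pureC (sgl k 2) by decide +kernel) k h4
    have hnY : n * Y * n = J' := by
      rw [hY, show n * (n * J' * n) * n = (n * n) * J' * (n * n) by group, hnn, one_mul, mul_one]
    have nback : ∀ x, Commute J' (n * x * n) → Commute Y x := fun x h => by
      refine cj hYY ?_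
      have h1 := jc hJ'J' h
      rw [← hnY, ← nmul, ← nmul] at h1
      have h2 := congrArg (fun t => n * t * n) h1
      rwa [show n * (n * (Y * x * Y) * n) * n = (n * n) * (Y * x * Y) * (n * n) by group,
        show n * (n * x * n) * n = (n * n) * x * (n * n) by group, hnn, one_mul, mul_one, one_mul, mul_one] at h2
    have Nback : ∀ x, Commute Y x → Commute Y0 (N * x * N) := fun x h => by
      refine cj hY0Y0 ?_
      rw [hY0, ← Nconj, ← Nconj, jc hYY h]
    refine ?_
    have hz0 : ¬ Commute Y0 C.z := fun h => hYz (by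
      refine cj hYY ?_
      have h1 : N * (Y0 * C.z * Y0) * N = N * C.z * N := by rw [jc hY0Y0 h]
      rwa [Nconj, Nconj, jc hNN (S.s_z (nR k)), show N * Y0 * N = Y by
        rw [hY0, show N * (N * Y * N) * N = (N * N) * Y * (N * N) by group, hNN, one_mul, mul_one]] at h1)
    have hw : ∀ l, Commute Y0 (W l) := by
      intro l
      by_cases hl : l = k
      · subst hl
        have h := Nback u (nback u (by rw [hnu]; exact S.s_z _))
        rwa [hNu] at h
      · obtain ⟨m, hmk, hml⟩ := (show ∀ k l : Fin 3, ∃ m, m ≠ k ∧ m ≠ l by decide) k l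
        have hNWl : N * W l * N = f m := by
          have h := S.s_act_invol (perm_facts.2.2.1 k).1 (sgl l 1)
          rw [(move_facts k l m hl hmk hml).2.2.2] at h
          exact h
        have hYf : Commute Y (f m) := nback _ (by
          rw [hnf]
          exact (perm_facts.2.2.2 k m hmk).2.1.map S.s)
        have h := Nback _ hYf
        rwa [← hNWl, show N * (N * W l * N) * N = (N * N) * W l * (N * N) by group, hNN, one_mul, mul_one] at h
    have hj : ∀ l, l ≠ k → Commute Y0 (J l) := by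
      intro l hl
      have hYJ : Commute Y (J l) := nback _ (by
        rw [hnJ]; exact S.s_commute_σ (move_other k l hl).2.1)
      have h := Nback _ hYJ
      rwa [show N * J l * N = J l from jc hNN ((perm_facts.2.2.2 k l hl).1.symm.map S.s)] at h
    have hPT : S.PT Y0 = S.PT bp := by
      refine ((hchk k Y0 hY0g).2 hY0Y0 hz0 hw hj).resolve_right fun e => ?_
      have hcl : C.Cl Y0 := by
        rw [hY0, hY]
        have := C.cl_conj (C.cl_conj (C.cl_conj (S.s_pure k) N) n) N
        rwa [inv_eq_of_mul_eq_one_right hNN, inv_eq_of_mul_eq_one_right hnn, hNJ] at this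
      have hne : Y0 ≠ u := fun h => hz0 (h ▸ huz)
      have := (S.PT_cl hY0g hne).mp hcl
      rw [e, (hbk k).2.2.1] at this
      exact Bool.noConfusion this
    exact S.PT_eq hbg hY0g hPT.symm
  have hYN : Y = N * Y0 * N := by
    rw [hY0, show N * (N * Y * N) * N = (N * N) * Y * (N * N) by group, hNN, one_mul, mul_one]
  have hbJ : Commute bp (J k) := (hbk k).2.1
  have hY0J : Commute Y0 (J k) := by
    rcases hYcases with e | e <;> rw [e]
    · exact hbJ
    · exact (S.u_comm (S.J_mem k)).symm.mul_left hbJ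
  have hYJ' : Commute Y J' := by
    refine cj hYY ?_
    have h := congrArg (fun t => N * t * N) (jc hY0Y0 hY0J)
    simp only [Nconj, ← hYN, hNJ] at h
    exact h
  have hY0f : Y0 * f k * Y0 * f k = J k := by
    have h : bp * f k * bp * f k = J k := by
      rw [hbpf, mul_assoc, hff, mul_one]
    rcases hYcases with e | e <;> rw [e]
    · exact h
    · calc u * bp * f k * (u * bp) * f k = u * bp * (f k * u) * bp * f k := by group
        _ = u * bp * (u * f k) * bp * f k := by rw [(hfu k).eq]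
        _ = u * (bp * u) * f k * bp * f k := by group
        _ = u * (u * bp) * f k * bp * f k := by rw [hbpu.eq]
        _ = (u * u) * (bp * f k * bp * f k) := by group
        _ = J k := by rw [huu, one_mul, h]
  have hYb : Y * b * Y * b = J' := by
    have h := congrArg (fun t => N * t * N) hY0f
    simp only [Nconj, ← hYN, hNf, hNJ] at h
    exact h
  have hJ'bp : J' * bp * J' * bp = Y := by
    have h := congrArg (fun t => n * t * n) hYb
    simp only [nmul, hnb] at h
    rwa [← hY, show n * Y * n = J' by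
      rw [hY, show n * (n * J' * n) * n = (n * n) * J' * (n * n) by group, hnn, one_mul, mul_one]] at h
  have hYbp : Commute Y bp := by
    refine cj hYY ?_
    have h := congrArg (fun t => n * t * n) (jc hJ'J' hJ'b)
    simp only [nmul, hnb, ← hY] at h
    exact h
  have hY0eq : Y0 = bp := by
    refine hYcases.resolve_right fun e => ?_
    set f2 := N * bp * N with hf2
    have hf22 : f2 * f2 = 1 := by
      rw [show f2 * f2 = N * (bp * (N * N) * bp) * N by rw [hf2]; group, hNN, mul_one, hpp, mul_one, hNN]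
    have hYw : Y = W k * f2 := by rw [hYN, e, Nconj, hNu]
    have hWf2 : Commute (W k) f2 := by
      refine cj (S.σ_sq _) ?_
      have h := congrArg (fun t => N * t * N) (jc huu hbpu.symm)
      simp only [Nconj, hNu] at h
      exact h
    have hf2bp : Commute f2 bp := by
      have : f2 = W k * Y := by rw [hYw, ← mul_assoc, S.σ_sq, one_mul]
      rw [this]
      exact (hbk k).1.symm.mul_left hYbp
    have hJWJ : J k * W k * J k = u * W k := by
      have h := S.s_act_invol (sylS_sq (iR_mem k)) (sgl k 1)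
      rw [(move_single k).1, S.σ_line k (sgl k 2) (Function.update_self ..),
        show Function.update (sgl k 2) k 0 = sgl k 0 from Function.update_idem ..,
        (move_single k).2.2.2.2.2.2.2.2.2.2, show Function.update (sgl k 2) k 1 = sgl k 1 from Function.update_idem ..,
        S.σ_zero] at h
      exact h
    have h1 : J k * Y * J k = f2 * bp := by
      rw [← hJ'bp]
      calc J k * (J' * bp * J' * bp) * J k
          = J k * J' * (J k * J k) * bp * (J k * J k) * J' * (J k * J k) * bp * J k := by rw [hJJ]; group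
        _ = (J k * J' * J k) * (J k * bp * J k) * (J k * J' * J k) * (J k * bp * J k) := by group
        _ = N * bp * N * bp := by rw [hJJ'J, jc (hJJ k) hbJ.symm]
        _ = f2 * bp := by rw [hf2]
    have h2 : J k * f2 * J k * f2 = u * bp := by
      have h := congrArg (fun t => N * t * N) hJ'bp
      simp only [Nconj] at h
      rw [← hY0, e, ← hNJ, show N * (N * J k * N) * N = (N * N) * J k * (N * N) by group, hNN, one_mul, mul_one] at h
      exact h
    have h3 : J k * f2 * J k = W k * u * (f2 * bp) := by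
      have hh : (u * W k) * (J k * f2 * J k) = f2 * bp := by
        rw [← h1, hYw, ← hJWJ, show J k * W k * J k * (J k * f2 * J k) = J k * W k * (J k * J k) * f2 * J k by group,
          hJJ, mul_one]
        group
      calc J k * f2 * J k = (W k * W k) * (J k * f2 * J k) := by rw [S.σ_sq, one_mul]
        _ = W k * (u * u) * W k * (J k * f2 * J k) := by rw [huu, mul_one]
        _ = W k * u * ((u * W k) * (J k * f2 * J k)) := by group
        _ = _ := by rw [hh]
    rw [h3] at h2
    have h4 : W k * u * (f2 * bp) * f2 = W k * (u * bp) := by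
      calc W k * u * (f2 * bp) * f2 = W k * u * (bp * f2) * f2 := by rw [hf2bp.eq]
        _ = W k * (u * bp) * (f2 * f2) := by group
        _ = _ := by rw [hf22, mul_one]
    rw [h4, mul_eq_right] at h2
    have h5 := congrArg S.F.P h2
    rw [S.P_σ, point_facts.2.2.2.1, S.F.P_one] at h5
    exact (show ∀ l : Fin 3, bC l ≠ 0 by decide +kernel) k h5
  have hYeq : Y = N * bp * N := by rw [hYN, hY0eq]
  rw [← hYeq]
  refine ⟨⟨hJJ k, hJ'J', hbb, hpp, hff k, hYY⟩, ?_, ?_, hcase k, hJ'bp, ?_, hYb,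
    ⟨hbJ.symm, hJ'b, (hJf k).symm, hfb k, hYJ', hYbp⟩⟩
  · rw [hJbJ, mul_assoc, hbb, mul_one]
  · show J' * f k * J' * f k = b
    have h := congrArg (fun t => N * t * N)
      (show J k * b * J k * b = f k by rw [hJbJ, mul_assoc, hbb, mul_one])
    simp only [Nconj, hNJ, hNb, hNf] at h
    exact h
  · show Y * J k * Y * J k = bp
    have h := congrArg (fun t => N * t * N) (show bp * J' * bp * J' = Y by
      rw [← inv_eq_of_mul_eq_one_right hYY, ← hJ'bp, mul_inv_rev, mul_inv_rev, mul_inv_rev, hpi,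
        inv_eq_of_mul_eq_one_right hJ'J']
      group)
    simp only [Nconj] at h
    rw [← hYeq, ← hY0, hY0eq, ← hNJ, show N * (N * J k * N) * N = (N * N) * J k * (N * N) by group, hNN, one_mul,
      mul_one] at h
    exact h

end Split

end Cfsg.Lib.OEightTwo
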