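import Cfsg.Agent.OEightTwo.Model

/-!
Two-subgroups of an embedded orthogonal group all of whose centralised conjugates of a root element stay inside:
the dihedral argument and the soundness of the certificate.
-/

set_option autoImplicit false
set_option linter.style.haveILetI false

open Subgroup

namespace Cfsg.Lib.OEightTwo

universe u

variable {G : Type u} [Group G] (φ : L →* G)

/-- The chosen root element. -/
noncomputable def z0 : L := gn (1, 2)

theorem z0_rt : IsRt z0 := ⟨(1, 2), by decide, rfl⟩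

/-- The hypotheses on the embedding. -/
structure Emb : Prop where
  inj : Function.Injective φ
  cen : ∀ r, IsRt r → centralizer ({φ r} : Set G) ≤ φ.range
  nofus : ∀ w : L, IsConj (φ z0) (φ w) → IsRt w
  odd : ∀ K : Subgroup L, IsPGroup 2 K → ∃ r, IsRt r ∧ ∀ k ∈ K, Commute r k

/-- Every conjugate of a root centralising the subgroup lies in the model. -/
def Safe (P : Subgroup L) : Prop := ∀ d, IsConj (φ z0) d → (∀ p ∈ P, Commute d (φ p)) → d ∈ φ.range

variable {φ}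

theorem Safe.mono {P Q : Subgroup L} (h : Safe φ Q) (hle : Q ≤ P) : Safe φ P :=
  fun d hd hc => h d hd fun q hq => hc q (hle hq)

theorem Safe.of_conj {P Q : Subgroup L} (h : Safe φ Q) (g : L) (hg : ∀ q ∈ Q, g * q * g⁻¹ ∈ P) : Safe φ P := by
  intro d hd hc
  obtain ⟨x, hx⟩ := h ((φ g)⁻¹ * d * ((φ g)⁻¹)⁻¹) (hd.trans (isConj_iff.2 ⟨_, rfl⟩)) fun q hq => by
    have := (hc _ (hg q hq)).map (MulAut.conj (φ g)⁻¹).toMonoidHom
    simpa [MulAut.conj_apply, mul_assoc] using this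
  exact ⟨g * x * g⁻¹, by rw [map_mul, map_mul, map_inv, hx]; group⟩

theorem isConj_root {r : L} (h : IsRt r) : IsConj (φ z0) (φ r) := by
  obtain ⟨g, rfl⟩ := h.exists_conj
  exact isConj_iff.2 ⟨φ g, by rw [map_mul, map_mul, map_inv]; rfl⟩

theorem Emb.safe_root (E : Emb φ) {P : Subgroup L} {r : L} (hr : IsRt r) (hP : r ∈ P) : Safe φ P :=
  fun _ _ hc => E.cen r hr (mem_centralizer_singleton_iff.2 (hc r hP).eq)

theorem z0_sq : z0 * z0 = 1 := gn_sq _

theorem conj_sq {d : G} (hd : IsConj (φ z0) d) : d * d = 1 := by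
  obtain ⟨g, rfl⟩ := isConj_iff.1 hd
  calc g * φ z0 * g⁻¹ * (g * φ z0 * g⁻¹) = g * φ (z0 * z0) * g⁻¹ := by rw [map_mul]; group
    _ = 1 := by rw [z0_sq, map_one]; group

/-- An element carrying a root to a root of the model lies in the model. -/
theorem Emb.back (E : Emb φ) {g : G} {r : L} (hr : IsRt r) (h : g * φ r * g⁻¹ ∈ φ.range) : g ∈ φ.range := by
  obtain ⟨w, hw⟩ := h
  have hwr : IsRt w := E.nofus w (hw ▸ (isConj_root hr).trans (isConj_iff.2 ⟨g, rfl⟩))
  obtain ⟨a, rfl⟩ := hr.exists_conj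
  obtain ⟨b, rfl⟩ := hwr.exists_conj
  have hx : (φ (b * a⁻¹))⁻¹ * g ∈ φ.range := E.cen _ (z0_rt.conj a) (mem_centralizer_singleton_iff.2 (by
    show (φ (b * a⁻¹))⁻¹ * g * φ (a * z0 * a⁻¹) = φ (a * z0 * a⁻¹) * ((φ (b * a⁻¹))⁻¹ * g)
    calc (φ (b * a⁻¹))⁻¹ * g * φ (a * z0 * a⁻¹) = (φ (b * a⁻¹))⁻¹ * (g * φ (a * z0 * a⁻¹) * g⁻¹) * g := by group
      _ = (φ (b * a⁻¹))⁻¹ * φ (b * z0 * b⁻¹) * g := by rw [show z0 = gn (1, 2) from rfl, hw]
      _ = _ := by simp only [map_mul, map_inv]; group))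
  have := mul_mem (⟨_, rfl⟩ : φ (b * a⁻¹) ∈ φ.range) hx
  rwa [mul_inv_cancel_left] at this

theorem pGroup_sup_zpowers {H : Type*} [Group H] {P : Subgroup H} (hP : IsPGroup 2 P) {y : H}
    (hN : y ∈ normalizer (P : Set H)) {k : ℕ} (hk : y ^ (2 ^ k) ∈ P) :
    IsPGroup 2 (P ⊔ zpowers y : Subgroup H) := by
  rw [sup_comm]
  refine IsPGroup.to_sup_of_normal_right' ?_ hP (zpowers_le.2 hN)
  rintro ⟨z, hz⟩
  obtain ⟨n, rfl⟩ := mem_zpowers_iff.1 hz
  obtain ⟨j, hj⟩ := hP ⟨_, hk⟩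
  refine ⟨k + j, Subtype.ext ?_⟩
  have e : (y ^ (2 ^ k)) ^ (2 ^ j) = 1 := congrArg Subtype.val hj
  show (y ^ n) ^ (2 ^ (k + j)) = 1
  rw [← zpow_natCast, ← zpow_mul, mul_comm, zpow_mul, zpow_natCast, pow_add, pow_mul, e, one_zpow]

/-- An element normalising a two-subgroup of the model containing a safe subgroup lies in the model. -/
theorem Emb.normalizer_mem (E : Emb φ) {Q K : Subgroup L} (hQ : Safe φ Q) (hle : Q ≤ K) (h2 : IsPGroup 2 K)
    {g : G} (hg : ∀ k ∈ K, g⁻¹ * φ k * g ∈ K.map φ) : g ∈ φ.range := by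
  obtain ⟨r, hr, hrk⟩ := E.odd K h2
  refine E.back hr (hQ _ ((isConj_root hr).trans (isConj_iff.2 ⟨g, rfl⟩)) fun q hq => ?_)
  obtain ⟨k, hk, e⟩ := hg q (hle hq)
  have h := ((hrk k hk).map φ).map (MulAut.conj g).toMonoidHom
  rw [e] at h
  simpa [MulAut.conj_apply, mul_assoc] using h

theorem centralizing_le_normalizer {H : Type*} [Group H] {P : Subgroup H} {y : H}
    (h : ∀ p ∈ P, Commute y p) : y ∈ normalizer (P : Set H) :=
  centralizer_le_normalizer _ (mem_centralizer_iff.2 fun p hp => (h p hp).eq.symm)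

theorem invol_mem_normalizer {H : Type*} [Group H] {P : Subgroup H} {w v : H} (hw : w * w = 1)
    (hwP : ∀ p ∈ P, Commute w p) (hwv : w * v * w⁻¹ = v⁻¹) :
    w ∈ normalizer ((P ⊔ zpowers v : Subgroup H) : Set H) := by
  have hle : P ⊔ zpowers v ≤ (P ⊔ zpowers v).comap (MulAut.conj w).toMonoidHom := by
    refine sup_le (fun p hp => ?_) (zpowers_le.2 ?_)
    · show w * p * w⁻¹ ∈ P ⊔ zpowers v
      rw [(hwP p hp).eq, mul_inv_cancel_right]
      exact mem_sup_left hp
    · show w * v * w⁻¹ ∈ P ⊔ zpowers v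
      rw [hwv]
      exact mem_sup_right (inv_mem (mem_zpowers v))
  refine mem_normalizer_iff.2 fun p => ⟨fun hp => hle hp, fun hp => ?_⟩
  have h : w * (w * p * w⁻¹) * w⁻¹ ∈ P ⊔ zpowers v := hle hp
  rwa [inv_eq_of_mul_eq_one_right hw, show w * (w * p * w) * w = (w * w) * p * (w * w) by group, hw,
    one_mul, mul_one] at h

set_option maxHeartbeats 1000000 in
/-- The dihedral argument. -/
theorem Emb.step [Finite G] (E : Emb φ) {P : Subgroup L} (hP : IsPGroup 2 P) {d : G} (hd : IsConj (φ z0) d)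
    (hdP : ∀ p ∈ P, Commute d (φ p)) (hdM : d ∉ φ.range) {w : L} (hw : w * w = 1)
    (hwP : ∀ p ∈ P, Commute w p) (hws : Safe φ (P ⊔ zpowers w)) :
    ∃ (e : L) (n : G), IsRt e ∧ (∀ p ∈ P, Commute e p) ∧ (∀ p ∈ P, Commute n (φ p)) ∧ n * d * n⁻¹ = φ e ∧
      (∃ k, (w * e) ^ (2 ^ k) = 1) ∧ ∀ y ∈ zpowers (w * e), ¬ Safe φ (P ⊔ zpowers y) := by
  set a := φ w with hadef
  have ha : a * a = 1 := by rw [hadef, ← map_mul, hw, map_one]
  have hb : d * d = 1 := conj_sq hd
  have hai : a⁻¹ = a := inv_eq_of_mul_eq_one_right ha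
  have hbi : d⁻¹ = d := inv_eq_of_mul_eq_one_right hb
  set r := a * d with hr
  have hra : a * r * a⁻¹ = r⁻¹ := by rw [hr, mul_inv_rev, hbi, hai, ← mul_assoc a a, ha, one_mul]
  have hrd : d * r * d⁻¹ = r⁻¹ := by rw [hr, mul_inv_rev, hbi, hai, mul_assoc d (a * d), mul_assoc a, hb, mul_one]
  obtain ⟨i, q, hq, hiq⟩ := Nat.exists_eq_two_pow_mul_odd (show orderOf r ≠ 0 from (orderOf_pos _).ne')
  obtain ⟨l, rfl⟩ := hq
  set s := r ^ (2 * l + 1) with hs
  have hsi : s ^ (2 ^ i) = 1 := by rw [hs, ← pow_mul, mul_comm, ← hiq, pow_orderOf_eq_one]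
  have inva : ∀ n : ℕ, a * r ^ n * a⁻¹ = (r ^ n)⁻¹ := fun n => by rw [← conj_pow, hra, inv_pow]
  have invd : ∀ n : ℕ, d * r ^ n * d⁻¹ = (r ^ n)⁻¹ := fun n => by rw [← conj_pow, hrd, inv_pow]
  have hrP : ∀ p ∈ P, Commute r (φ p) := fun p hp => ((hwP p hp).map φ).mul_left (hdP p hp)
  have key : ∀ m, m ≤ i → s ^ (2 ^ (i - m)) ∈ φ.range := by
    intro m
    induction m with
    | zero => intro _; rw [Nat.sub_zero, hsi]; exact one_mem _
    | succ m ih =>
      intro hm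
      set x := s ^ (2 ^ (i - (m + 1))) with hx
      have hxx : x * x = s ^ (2 ^ (i - m)) := by
        rw [hx, ← pow_add, ← two_mul, ← pow_succ', show i - (m + 1) + 1 = i - m by omega]
      obtain ⟨v, hv⟩ := ih (by omega)
      rw [← hxx] at hv
      have hxP : ∀ p ∈ P, Commute x (φ p) := fun p hp => ((hrP p hp).pow_left _).pow_left _
      have hvP : ∀ p ∈ P, Commute v p := fun p hp => E.inj (by
        have := ((hxP p hp).mul_left (hxP p hp)).eq
        rw [← hv] at this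
        simpa [map_mul] using this)
      have hv2 : v ^ (2 ^ m) ∈ P := by
        have : v ^ (2 ^ m) = 1 := E.inj (by
          rw [map_pow, hv, hxx, map_one, ← pow_mul, ← pow_add, show i - m + m = i by omega, hsi])
        rw [this]; exact one_mem _
      have h1 := pGroup_sup_zpowers hP (centralizing_le_normalizer hvP) hv2
      have hwv : w * v * w⁻¹ = v⁻¹ := E.inj (by
        rw [map_mul, map_mul, map_inv, map_inv, hv, hxx, hs, ← pow_mul]
        exact inva _)
      have hwN : w ∈ normalizer ((P ⊔ zpowers v : Subgroup L) : Set L) :=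
        invol_mem_normalizer hw (fun p hp => hwP p hp) hwv
      have h2 := pGroup_sup_zpowers h1 hwN (k := 1) (by rw [pow_one, sq, hw]; exact one_mem _)
      refine E.normalizer_mem hws (sup_le_sup_right le_sup_left _) h2 fun k hk => ?_
      have hle : P ⊔ zpowers v ⊔ zpowers w ≤
          ((P ⊔ zpowers v ⊔ zpowers w).map φ).comap ((MulAut.conj x⁻¹).toMonoidHom.comp φ) := by
        refine sup_le (sup_le (fun p hp => ?_) (zpowers_le.2 ?_)) (zpowers_le.2 ?_) <;>
          simp only [Subgroup.mem_comap, MonoidHom.coe_comp, Function.comp_apply, MulEquiv.coe_toMonoidHom,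
            MulAut.conj_apply, inv_inv]
        · exact ⟨p, mem_sup_left (mem_sup_left hp), by rw [mul_assoc, ← (hxP p hp).eq, inv_mul_cancel_left]⟩
        · exact ⟨v, mem_sup_left (mem_sup_right (mem_zpowers v)), by rw [hv]; group⟩
        · refine ⟨w * v, mul_mem (mem_sup_right (mem_zpowers w)) (mem_sup_left (mem_sup_right (mem_zpowers v))), ?_⟩
          have e : a * x * a⁻¹ = x⁻¹ := by rw [hx, hs, ← pow_mul]; exact inva _
          rw [map_mul, hv, ← hadef, ← e]
          group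
      have := hle hk
      simpa [MulAut.conj_apply] using this
  obtain ⟨v, hv⟩ : s ∈ φ.range := by simpa using key i le_rfl
  set n := (r ^ l)⁻¹ with hn
  set e := w * v with he
  have hne : n * d * n⁻¹ = φ e := by
    have h1 : d * r ^ l * d⁻¹ = (r ^ l)⁻¹ := invd l
    rw [he, map_mul, hv, ← hadef, hn, inv_inv, ← h1, hs, show d * r ^ l * d⁻¹ * d * r ^ l = d * (r ^ l * r ^ l) by group,
      ← pow_add, show l + l = 2 * l by omega, pow_succ' r (2 * l), ← mul_assoc, hr, ← mul_assoc a a, ha, one_mul]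
  have hwe : w * e = v := by rw [he, ← mul_assoc, hw, one_mul]
  have hnP : ∀ p ∈ P, Commute n (φ p) := fun p hp => ((hrP p hp).pow_left l).inv_left
  have hecl : IsConj (φ z0) (φ e) := hd.trans (isConj_iff.2 ⟨n, hne⟩)
  have heP : ∀ p ∈ P, Commute e p := fun p hp => E.inj (by
    have h := (((hnP p hp).mul_left (hdP p hp)).mul_left (hnP p hp).inv_left).eq
    rw [hne] at h
    simpa [map_mul] using h)
  refine ⟨e, n, E.nofus e hecl, heP, hnP, hne, ⟨i, ?_⟩, fun y hy hsafe => ?_⟩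
  · rw [hwe]
    exact E.inj (by rw [map_pow, hv, hsi, map_one])
  · obtain ⟨j, rfl⟩ := mem_zpowers_iff.1 hy
    rw [hwe] at hsafe
    have hvP : ∀ p ∈ P, Commute (v ^ j) p := fun p hp => E.inj (by
      have h := ((((hrP p hp).pow_left (2 * l + 1))).zpow_left j).eq
      rw [← hs, ← hv, ← map_zpow] at h
      simpa [map_mul] using h)
    have h2 := pGroup_sup_zpowers hP (centralizing_le_normalizer hvP) (k := i) (by
      have h3 : (v ^ j) ^ (2 ^ i) = 1 := E.inj (by
        rw [map_pow, map_zpow, hv, ← zpow_natCast, ← zpow_mul, mul_comm, zpow_mul, zpow_natCast, hsi, one_zpow,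
          map_one])
      rw [h3]; exact one_mem _)
    refine hdM (E.normalizer_mem hsafe le_rfl h2 fun k hk => ?_)
    have hle : P ⊔ zpowers (v ^ j) ≤
        ((P ⊔ zpowers (v ^ j)).map φ).comap ((MulAut.conj d⁻¹).toMonoidHom.comp φ) := by
      refine sup_le (fun p hp => ?_) (zpowers_le.2 ?_) <;>
        simp only [Subgroup.mem_comap, MonoidHom.coe_comp, Function.comp_apply, MulEquiv.coe_toMonoidHom,
          MulAut.conj_apply, inv_inv]
      · exact ⟨p, mem_sup_left hp, by rw [mul_assoc, ← (hdP p hp).eq, inv_mul_cancel_left]⟩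
      · refine ⟨(v ^ j)⁻¹, mem_sup_right (inv_mem (mem_zpowers _)), ?_⟩
        rw [map_inv, map_zpow, hv, hbi]
        have h1 := invd (2 * l + 1)
        rw [hbi, ← hs] at h1
        rw [← inv_zpow, ← h1]
        nth_rewrite 2 [← hbi]
        rw [conj_zpow, hbi]
    have := hle hk
    simpa [MulAut.conj_apply] using this

theorem Emb.carried (E : Emb φ) {P : Subgroup L} {d n n' : G} {e e' : L} (he : IsRt e)
    (hn : ∀ p ∈ P, Commute n (φ p)) (hn' : ∀ p ∈ P, Commute n' (φ p)) (h : n * d * n⁻¹ = φ e)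
    (h' : n' * d * n'⁻¹ = φ e') : ∃ m : L, (∀ p ∈ P, Commute m p) ∧ m * e * m⁻¹ = e' := by
  have hg : n' * n⁻¹ * φ e * (n' * n⁻¹)⁻¹ = φ e' := by rw [← h, ← h']; group
  obtain ⟨m, hm⟩ := E.back he (g := n' * n⁻¹) ⟨e', hg.symm⟩
  refine ⟨m, fun p hp => E.inj ?_, E.inj ?_⟩
  · have := ((hn' p hp).mul_left (hn p hp).inv_left).eq
    rw [← hm] at this
    simpa [map_mul] using this
  · rw [map_mul, map_mul, map_inv, hm, hg]

/-- A list of words and a list of pairs describing a subgroup and its centralised roots. -/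
structure Node (P : Subgroup L) (Pl : List (List (ℕ × ℕ))) (fl : List (ℕ × ℕ)) : Prop where
  vw : ∀ w ∈ Pl, Vw w
  mem : ∀ g, g ∈ P ↔ ∃ w ∈ Pl, g = wel w
  sq : ∀ g ∈ P, g * g = 1
  ok : ∀ f ∈ fl, okPair f = true
  nd : (fl.map gn).Nodup
  fix : ∀ g, (IsRt g ∧ ∀ p ∈ P, Commute g p) ↔ ∃ f ∈ fl, g = gn f

theorem countP_ncard {α β : Type*} {l : List α} {f : α → β} (hnd : (l.map f).Nodup) (p : α → Bool) {S : Set β}
    (hS : ∀ b, b ∈ S ↔ ∃ a ∈ l, f a = b ∧ p a = true) : l.countP p = S.ncard := by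
  classical
  have hnd' : ((l.filter p).map f).Nodup := hnd.sublist (List.filter_sublist.map f)
  rw [List.countP_eq_length_filter, ← List.length_map (as := l.filter p) f,
    ← List.toFinset_card_of_nodup hnd', ← Set.ncard_coe_finset]
  congr 1
  ext b
  simp only [Finset.mem_coe, List.mem_toFinset, List.mem_map, List.mem_filter]
  rw [hS]
  exact ⟨fun ⟨a, ⟨h1, h2⟩, h3⟩ => ⟨a, h1, h3, h2⟩, fun ⟨a, h1, h3, h2⟩ => ⟨a, ⟨h1, h2⟩, h3⟩⟩

/-- The two invariants of a centralised root. -/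
noncomputable def colG (P : Subgroup L) (e : L) : ℕ × ℕ :=
  ({f | (IsRt f ∧ ∀ p ∈ P, Commute f p) ∧ e * f ∈ P}.ncard,
    {f | (IsRt f ∧ ∀ p ∈ P, Commute f p) ∧ Commute e f}.ncard)

theorem Node.colour_eq {P : Subgroup L} {Pl : List (List (ℕ × ℕ))} {fl : List (ℕ × ℕ)} (N : Node P Pl fl)
    {e : ℕ × ℕ} (he : okPair e = true) : colour Pl fl e = colG P (gn e) := by
  have hin : ∀ f ∈ fl, (inP Pl [e, f] = true ↔ gn e * gn f ∈ P) := fun f hf => by
    simp only [inP, List.any_eq_true, N.mem]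
    refine ⟨fun ⟨w, hw, h⟩ => ⟨w, hw, ?_⟩, fun ⟨w, hw, h⟩ => ⟨w, hw, ?_⟩⟩
    · rw [← wel_two]; exact (eqW_iff (vw_two he (N.ok f hf)) (N.vw w hw)).1 h
    · exact (eqW_iff (vw_two he (N.ok f hf)) (N.vw w hw)).2 (by rw [wel_two, h])
  refine Prod.ext (countP_ncard (f := gn) N.nd _ fun g => ?_) (countP_ncard (f := gn) N.nd _ fun g => ?_)
  · constructor
    · rintro ⟨h1, h2⟩
      obtain ⟨f, hf, rfl⟩ := (N.fix g).1 h1
      exact ⟨f, hf, rfl, (hin f hf).2 h2⟩
    · rintro ⟨f, hf, rfl, h⟩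
      exact ⟨(N.fix _).2 ⟨f, hf, rfl⟩, (hin f hf).1 h⟩
  · constructor
    · rintro ⟨h1, h2⟩
      obtain ⟨f, hf, rfl⟩ := (N.fix g).1 h1
      exact ⟨f, hf, rfl, (comm_iff he (N.ok f hf)).2 h2⟩
    · rintro ⟨f, hf, rfl, h⟩
      exact ⟨(N.fix _).2 ⟨f, hf, rfl⟩, (comm_iff he (N.ok f hf)).1 h⟩

theorem colG_conj {P : Subgroup L} {m : L} (hm : ∀ p ∈ P, Commute m p) (e : L) :
    colG P (m * e * m⁻¹) = colG P e := by
  have hmem : ∀ g : L, m * g * m⁻¹ ∈ P ↔ g ∈ P := fun g => by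
    constructor
    · intro h
      have h2 : m⁻¹ * (m * g * m⁻¹) * m = m * g * m⁻¹ := by
        rw [(hm _ h).inv_left.eq]; group
      have e2 : g = m * g * m⁻¹ := by rw [← h2]; group
      rwa [e2]
    · intro h
      rwa [(hm g h).eq, mul_inv_cancel_right]
  have hfix : ∀ f : L, (IsRt (m * f * m⁻¹) ∧ ∀ p ∈ P, Commute (m * f * m⁻¹) p) ↔
      (IsRt f ∧ ∀ p ∈ P, Commute f p) := by
    intro f
    constructor
    · rintro ⟨h1, h2⟩
      refine ⟨by simpa [mul_assoc] using h1.conj m⁻¹, fun p hp => ?_⟩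
      have := (h2 p hp).map (MulAut.conj m⁻¹).toMonoidHom
      simpa [MulAut.conj_apply, mul_assoc, ← (hm p hp).eq] using this
    · rintro ⟨h1, h2⟩
      exact ⟨h1.conj m, fun p hp => ((hm p hp).mul_left (h2 p hp)).mul_left (hm p hp).inv_left⟩
  refine Prod.ext ?_ ?_
  · show Set.ncard _ = Set.ncard _
    conv_rhs => rw [← Set.ncard_image_of_injective _ (MulAut.conj m).injective]
    congr 1
    ext f
    obtain ⟨g, rfl⟩ := (MulAut.conj m).surjective f
    rw [Function.Injective.mem_set_image (MulAut.conj m).injective]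
    simp only [Set.mem_ofPred_eq, MulAut.conj_apply, hfix]
    rw [show m * e * m⁻¹ * (m * g * m⁻¹) = m * (e * g) * m⁻¹ by group, hmem]
  · show Set.ncard _ = Set.ncard _
    conv_rhs => rw [← Set.ncard_image_of_injective _ (MulAut.conj m).injective]
    congr 1
    ext f
    obtain ⟨g, rfl⟩ := (MulAut.conj m).surjective f
    rw [Function.Injective.mem_set_image (MulAut.conj m).injective]
    simp only [Set.mem_ofPred_eq, MulAut.conj_apply, hfix]
    exact and_congr_right fun _ => Commute.conj_iff m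

theorem isPGroup_of_sq {H : Type*} [Group H] {P : Subgroup H} (h : ∀ g ∈ P, g * g = 1) : IsPGroup 2 P :=
  fun g => ⟨1, Subtype.ext (by simpa [sq] using h g g.2)⟩

theorem Node.child {P : Subgroup L} {Pl : List (List (ℕ × ℕ))} {fl : List (ℕ × ℕ)} (N : Node P Pl fl)
    {x e : ℕ × ℕ} (hx : x ∈ fl) (he : e ∈ fl) (hc : comm x e = true) :
    Node (P ⊔ zpowers (gn x * gn e)) (Pl ++ Pl.map fun p => p ++ [x, e])
      (fl.filter fun f => eqW [f, x, e] [x, e, f]) := by
  have hxo := N.ok x hx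
  have heo := N.ok e he
  set z := gn x * gn e with hz
  have hzz : z * z = 1 := by
    rw [hz, show gn x * gn e * (gn x * gn e) = gn x * (gn e * gn x) * gn e by group,
      ← ((comm_iff hxo heo).1 hc).eq, ← mul_assoc, gn_sq, one_mul, gn_sq]
  have hzP : ∀ p ∈ P, Commute z p := fun p hp =>
    (((N.fix _).2 ⟨x, hx, rfl⟩).2 p hp).mul_left (((N.fix _).2 ⟨e, he, rfl⟩).2 p hp)
  have hmem : ∀ g, g ∈ P ⊔ zpowers z ↔ g ∈ P ∨ ∃ p ∈ P, g = p * z := by
    intro g
    refine ⟨fun hg => ?_, ?_⟩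
    · rw [sup_eq_closure] at hg
      induction hg using closure_induction with
      | mem y hy =>
        rcases hy with hy | hy
        · exact Or.inl hy
        · obtain ⟨j, rfl⟩ := mem_zpowers_iff.1 hy
          rcases Int.even_or_odd' j with ⟨i, rfl | rfl⟩
          · left; rw [zpow_mul, zpow_two, hzz, one_zpow]; exact one_mem _
          · right; exact ⟨1, one_mem _, by rw [zpow_add, zpow_mul, zpow_two, hzz, one_zpow, zpow_one]⟩
      | one => exact Or.inl (one_mem _)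
      | inv y _ ih =>
        rcases ih with ih | ⟨p, hp, rfl⟩
        · exact Or.inl (inv_mem ih)
        · exact Or.inr ⟨p⁻¹, inv_mem hp, by
            rw [mul_inv_rev, inv_eq_of_mul_eq_one_right hzz, ((hzP p hp).inv_right).eq]⟩
      | mul a b _ _ iha ihb =>
        rcases iha with iha | ⟨p, hp, rfl⟩ <;> rcases ihb with ihb | ⟨p', hp', rfl⟩
        · exact Or.inl (mul_mem iha ihb)
        · exact Or.inr ⟨a * p', mul_mem iha hp', by group⟩
        · exact Or.inr ⟨p * b, mul_mem hp ihb, by rw [mul_assoc, (hzP b ihb).eq, mul_assoc]⟩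
        · refine Or.inl ?_
          rw [show p * z * (p' * z) = p * (z * p') * z by group, (hzP p' hp').eq,
            show p * (p' * z) * z = p * p' * (z * z) by group, hzz, mul_one]
          exact mul_mem hp hp'
    · rintro (h | ⟨p, hp, rfl⟩)
      · exact mem_sup_left h
      · exact mul_mem (mem_sup_left hp) (mem_sup_right (mem_zpowers z))
  have hw : ∀ w, wel (w ++ [x, e]) = wel w * z := fun w => by rw [wel_append, wel_two]
  refine ⟨fun w hwm => ?_, fun g => ?_, fun g hg => ?_, fun f hf => N.ok f (List.mem_filter.1 hf).1,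
    N.nd.sublist (List.filter_sublist.map _), fun g => ?_⟩
  · rcases List.mem_append.1 hwm with h | h
    · exact N.vw w h
    · obtain ⟨p, hp, rfl⟩ := List.mem_map.1 h
      exact (N.vw p hp).append (vw_two hxo heo)
  · rw [hmem]
    constructor
    · rintro (h | ⟨p, hp, rfl⟩)
      · obtain ⟨w, hwm, rfl⟩ := (N.mem g).1 h
        exact ⟨w, List.mem_append_left _ hwm, rfl⟩
      · obtain ⟨w, hwm, rfl⟩ := (N.mem p).1 hp
        exact ⟨_, List.mem_append_right _ (List.mem_map.2 ⟨w, hwm, rfl⟩), (hw w).symm⟩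
    · rintro ⟨w, hwm, rfl⟩
      rcases List.mem_append.1 hwm with h | h
      · exact Or.inl ((N.mem _).2 ⟨w, h, rfl⟩)
      · obtain ⟨p, hp, rfl⟩ := List.mem_map.1 h
        exact Or.inr ⟨_, (N.mem _).2 ⟨p, hp, rfl⟩, hw p⟩
  · rcases (hmem g).1 hg with h | ⟨p, hp, rfl⟩
    · exact N.sq g h
    · rw [show p * z * (p * z) = p * (z * p) * z by group, (hzP p hp).eq,
        show p * (p * z) * z = p * p * (z * z) by group, N.sq p hp, hzz, one_mul]
  · have hfz : ∀ f ∈ fl, (eqW [f, x, e] [x, e, f] = true ↔ Commute (gn f) z) := fun f hf => by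
      rw [eqW_iff (Vw.cons (N.ok f hf) (vw_two hxo heo)) (Vw.cons hxo (vw_two heo (N.ok f hf))), wel_cons,
        wel_two, wel_cons, wel_two, ← mul_assoc (gn x)]
      rfl
    constructor
    · rintro ⟨h1, h2⟩
      obtain ⟨f, hf, rfl⟩ := (N.fix g).1 ⟨h1, fun p hp => h2 p (mem_sup_left hp)⟩
      exact ⟨f, List.mem_filter.2 ⟨hf, (hfz f hf).2 (h2 z (mem_sup_right (mem_zpowers z)))⟩, rfl⟩
    · rintro ⟨f, hf, rfl⟩
      obtain ⟨hf1, hf2⟩ := List.mem_filter.1 hf
      obtain ⟨h1, h2⟩ := (N.fix _).2 ⟨f, hf1, rfl⟩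
      refine ⟨h1, fun p hp => ?_⟩
      rcases (hmem p).1 hp with h | ⟨p', hp', rfl⟩
      · exact h2 p h
      · exact (h2 p' hp').mul_right ((hfz f hf1).1 hf2)

theorem Emb.chk_safe [Finite G] (E : Emb φ) {two : Bool}
    (htwo : two = true → ∀ g, IsTwo g → ∀ Q : Subgroup L, g ∈ Q → Safe φ Q) :
    ∀ n Pl fl C, chk two n Pl fl C = true → ∀ P, Node P Pl fl → Safe φ P := by
  intro n
  induction n with
  | zero => intro _ _ _ h; exact absurd h (by simp [chk])
  | succ n ih =>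
    intro Pl fl C hchk P N d hd hdP
    by_contra hdM
    rw [chk, Bool.and_eq_true, List.all_eq_true, List.all_eq_true] at hchk
    obtain ⟨hcols, hent⟩ := hchk
    have hP := isPGroup_of_sq N.sq
    have hrt : ∀ f ∈ fl, IsRt (gn f) ∧ ∀ p ∈ P, Commute (gn f) p := fun f hf => (N.fix _).2 ⟨f, hf, rfl⟩
    have stepx : ∀ x ∈ fl, ∃ (e : ℕ × ℕ) (m : G), e ∈ fl ∧ (∀ p ∈ P, Commute m (φ p)) ∧
        m * d * m⁻¹ = φ (gn e) ∧ ∀ y ∈ zpowers (gn x * gn e), ¬ Safe φ (P ⊔ zpowers y) := by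
      intro x hx
      obtain ⟨e, m, he, heP, hm, hme, -, hy⟩ := E.step hP hd hdP hdM (gn_sq x) (hrt x hx).2
        (E.safe_root (hrt x hx).1 (mem_sup_right (mem_zpowers _)))
      obtain ⟨f, hf, rfl⟩ := (N.fix e).1 ⟨he, heP⟩
      exact ⟨f, m, hf, hm, hme, hy⟩
    obtain ⟨r0, hr0, hr0P⟩ := E.odd P hP
    obtain ⟨x0, hx0, -⟩ := (N.fix r0).1 ⟨hr0, hr0P⟩
    obtain ⟨e0, n0, he0, hn0, hne0, -⟩ := stepx x0 hx0
    obtain ⟨c, hc, hcc⟩ := List.any_eq_true.1 (hcols e0 he0)
    rw [beq_iff_eq] at hcc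
    have hc' := hent c hc
    simp only [Bool.and_eq_true, List.contains_iff_mem, beq_iff_eq, List.all_eq_true] at hc'
    obtain ⟨⟨hxr, hxm⟩, hlen, hkids⟩ := hc'
    obtain ⟨e, m, hem, hm, hme, hy⟩ := stepx c.2.1 hxm
    obtain ⟨h, hhP, hhe⟩ := E.carried (hrt e0 he0).1 hn0 hm hne0 hme
    have hcol : colour Pl fl e = c.1 := by
      rw [← hcc, N.colour_eq (N.ok e hem), N.colour_eq (N.ok e0 he0), ← hhe, colG_conj hhP]
    set es := fl.filter fun f => colour Pl fl f == c.1 with hes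
    have hees : e ∈ es := List.mem_filter.2 ⟨hem, beq_iff_eq.2 hcol⟩
    obtain ⟨i, hi, hie⟩ := List.mem_iff_getElem.1 hees
    have hi' : i < c.2.2.length := hlen ▸ hi
    have hk := hkids (es[i], c.2.2[i])
      (List.mem_iff_getElem.2 ⟨i, by rw [List.length_zip]; exact lt_min hi hi', List.getElem_zip ..⟩)
    rw [hie] at hk
    have hxo := N.ok _ hxm
    have heo := N.ok _ hem
    rcases hkid : c.2.2[i] with t | ⟨p, t⟩ | l | _ | _ | _ <;> rw [hkid] at hk <;>
      simp only [Bool.and_eq_true, decide_eq_true_eq, Bool.false_eq_true] at hk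
    · obtain ⟨ht, hsq⟩ := hk
      have h1 := (eqW_iff (Vw.append (vw_two hxo heo) (vw_two hxo heo)) (vw_one (okRoot_iff.1 ht).1)).1 hsq
      rw [wel_append, wel_two, wel_one] at h1
      refine hy _ (mul_mem (mem_zpowers _) (mem_zpowers _)) ?_
      rw [h1]
      exact E.safe_root ⟨t, ht, rfl⟩ (mem_sup_right (mem_zpowers _))
    · obtain ⟨⟨ht, hp⟩, hsq⟩ := hk
      have hto : okPair t = true := by
        rw [Bool.or_eq_true, Bool.and_eq_true] at ht
        exact ht.elim (fun ht => (okRoot_iff.1 ht).1) fun ht => (okTwo_iff.1 ht.2).1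
      have hpm : Pl.getD p [] ∈ Pl := by rw [List.getD_eq_getElem _ _ hp]; exact List.getElem_mem _
      have h1 := (eqW_iff (Vw.append (N.vw _ hpm) (vw_two hxo heo)) (vw_one hto)).1 hsq
      rw [wel_append, wel_two, wel_one] at h1
      refine hy _ (mem_zpowers _) ?_
      have hmemt : gn t ∈ P ⊔ zpowers (gn c.2.1 * gn e) :=
        h1 ▸ mul_mem (mem_sup_left ((N.mem _).2 ⟨_, hpm, rfl⟩)) (mem_sup_right (mem_zpowers _))
      rw [Bool.or_eq_true, Bool.and_eq_true] at ht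
      rcases ht with ht | ⟨h2, ht⟩
      · exact E.safe_root ⟨t, ht, rfl⟩ hmemt
      · exact htwo h2 _ ⟨t, ht, rfl⟩ _ hmemt
    · obtain ⟨hcomm, hsub⟩ := hk
      exact hy _ (mem_zpowers _) (ih _ _ _ hsub _ (N.child hxm hem hcomm))

end Cfsg.Lib.OEightTwo
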