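import Cfsg.Agent.LargeExtra.EightSmith.Form
import Cfsg.Agent.LargeExtra.FittingSetting
import Cfsg.Agent.LargeExtra.PairSetting
import Cfsg.Agent.LargeExtra.OutExtra
import Cfsg.Agent.InvolCalc.ZStarApps

/-!
# An involution centralizer with an extraspecial group of order `2 ^ 9` and quotient the cube of `S₃`
-/

set_option autoImplicit false
set_option linter.style.haveILetI false
set_option linter.unusedSectionVars false

open Module Subgroup Cfsg.Lib.LargeExtra Cfsg.Lib.LargeExtra.EightSmith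

namespace Cfsg.Lib.OEightTwo

universe u w

/-- The cube of `S₃`. -/
abbrev RS : Type := Fin 3 → Equiv.Perm (Fin 3)

/-- The group, its extraspecial subgroup `Q`, the form on `Q / ⟨z⟩` and the action of `C(z) / Q`. -/
structure Ctx (G : Type u) {V : Type w} [Group G] [AddCommGroup V] [Module (ZMod 2) V]
    (q : QuadraticForm (ZMod 2) V) where
  z : G
  Q : Subgroup G
  x2 : X2 Q z
  cent : centralizer (Q : Set G) ≤ Q
  norm : centralizer ({z} : Set G) ≤ normalizer (Q : Set G)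
  card : Nat.card Q = 2 ^ 9
  S : QS q
  dim : finrank (ZMod 2) V = 8
  π : G → V
  π_mul : ∀ x ∈ Q, ∀ y ∈ Q, π (x * y) = π x + π y
  π_surj : ∀ u, ∃ x ∈ Q, π x = u
  π_ker : ∀ x ∈ Q, π x = 0 ↔ x = 1 ∨ x = z
  π_sq : ∀ x ∈ Q, q (π x) = 0 ↔ x * x = 1
  π_comm : ∀ x ∈ Q, ∀ y ∈ Q, q.polarBilin (π x) (π y) = 0 ↔ Commute x y
  μ : G → RS
  μ_mul : ∀ a b, Commute a z → Commute b z → μ (a * b) = μ a * μ b
  μ_surj : ∀ h, ∃ m, Commute m z ∧ μ m = h
  μ_ker : ∀ m, Commute m z → (μ m = 1 ↔ m ∈ Q)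
  ρ : RS →* V ≃ₗ[ZMod 2] V
  ρ_iso : ∀ h, Iso q (ρ h)
  ρ_inj : Function.Injective ρ
  ρ_π : ∀ m, Commute m z → ∀ x ∈ Q, ρ (μ m) (π x) = π (m * x * m⁻¹)

namespace Ctx

variable {G : Type u} {V : Type w} [Group G] [Finite G] [AddCommGroup V]
  [Module (ZMod 2) V] [Finite V] {q : QuadraticForm (ZMod 2) V} (C : Ctx G q)

local notation "𝐁" => QuadraticMap.polarBilin q

theorem mem_Mz {m : G} : m ∈ centralizer ({C.z} : Set G) ↔ Commute m C.z := mem_centralizer_singleton_iff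

theorem z_conj {m : G} (hm : Commute m C.z) : m * C.z * m⁻¹ = C.z := by rw [hm.eq, mul_inv_cancel_right]

theorem conj_mem {m x : G} (hm : Commute m C.z) (hx : x ∈ C.Q) : m * x * m⁻¹ ∈ C.Q :=
  (mem_normalizer_iff.mp (C.norm (C.mem_Mz.mpr hm)) x).mp hx

theorem π_one : C.π 1 = 0 := (C.π_ker 1 (one_mem _)).mpr (Or.inl rfl)

theorem π_z : C.π C.z = 0 := (C.π_ker _ C.x2.mem).mpr (Or.inr rfl)

theorem π_inv {x : G} (hx : x ∈ C.Q) : C.π x⁻¹ = C.π x := by
  have h := C.π_mul _ (inv_mem hx) _ hx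
  rw [inv_mul_cancel, C.π_one] at h
  exact add_eq_zero_iff'.mp h.symm

theorem π_zmul {x : G} (hx : x ∈ C.Q) : C.π (C.z * x) = C.π x := by
  rw [C.π_mul _ C.x2.mem _ hx, C.π_z, zero_add]

theorem eq_iff {x y : G} (hx : x ∈ C.Q) (hy : y ∈ C.Q) : C.π x = C.π y ↔ y = x ∨ y = C.z * x := by
  constructor
  · intro h
    have h0 : C.π (y * x⁻¹) = 0 := by
      rw [C.π_mul _ hy _ (inv_mem hx), C.π_inv hx, h, add_self']
    rcases (C.π_ker _ (mul_mem hy (inv_mem hx))).mp h0 with e | e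
    · exact Or.inl (mul_inv_eq_one.mp e)
    · exact Or.inr (mul_inv_eq_iff_eq_mul.mp e)
  · rintro (rfl | rfl)
    · rfl
    · exact (C.π_zmul hx).symm

theorem eq_cases {x : G} (hx : x ∈ C.Q) (h : C.π x = 0) : x = 1 ∨ x = C.z := (C.π_ker x hx).mp h

theorem π_conj_Q {x y : G} (hx : x ∈ C.Q) (hy : y ∈ C.Q) : C.π (y * x * y⁻¹) = C.π x := by
  rw [C.π_mul _ (mul_mem hy hx) _ (inv_mem hy), C.π_mul _ hy _ hx, C.π_inv hy, add_comm (C.π y) (C.π x), add_assoc,
    add_self', add_zero]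

theorem μ_one : C.μ 1 = 1 := (C.μ_ker 1 (Commute.one_left _)).mpr (one_mem _)

theorem μ_mem {x : G} (hx : x ∈ C.Q) : C.μ x = 1 := (C.μ_ker x (C.x2.central x hx)).mpr hx

theorem μ_inv {m : G} (hm : Commute m C.z) : C.μ m⁻¹ = (C.μ m)⁻¹ := by
  refine eq_inv_of_mul_eq_one_left ?_
  rw [← C.μ_mul _ _ hm.inv_left hm, inv_mul_cancel, C.μ_one]

theorem μ_pow {m : G} (hm : Commute m C.z) (n : ℕ) : C.μ (m ^ n) = C.μ m ^ n := by
  induction n with
  | zero => rw [pow_zero, pow_zero, C.μ_one]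
  | succ n ih => rw [pow_succ, pow_succ, C.μ_mul _ _ (hm.pow_left n) hm, ih]

theorem μ_conj {m k : G} (hm : Commute m C.z) (hk : Commute k C.z) :
    C.μ (m * k * m⁻¹) = C.μ m * C.μ k * (C.μ m)⁻¹ := by
  rw [C.μ_mul _ _ (hm.mul_left hk) hm.inv_left, C.μ_mul _ _ hm hk, C.μ_inv hm]

theorem q_conj_mem {x : G} (hx : x ∈ C.Q) (h0 : C.π x ≠ 0) : ∃ y ∈ C.Q, y * x * y⁻¹ = C.z * x :=
  C.x2.exists_swap hx fun h => h0 (by
    rcases (mem_zpowers_two C.x2.zz).mp h with e | e <;> rw [e]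
    exacts [C.π_one, C.π_z])

/-- An element of `C(z)` over `h` carrying `x` to `y`. -/
theorem exists_lift {x y : G} (hx : x ∈ C.Q) (hy : y ∈ C.Q) (h0 : C.π x ≠ 0) {h : RS}
    (hh : C.ρ h (C.π x) = C.π y) : ∃ m, Commute m C.z ∧ C.μ m = h ∧ m * x * m⁻¹ = y := by
  obtain ⟨m, hm, rfl⟩ := C.μ_surj h
  rw [C.ρ_π m hm x hx] at hh
  rcases (C.eq_iff (C.conj_mem hm hx) hy).mp hh with e | e
  · exact ⟨m, hm, rfl, e.symm⟩
  · obtain ⟨s, hs, hsx⟩ := C.q_conj_mem hx h0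
    refine ⟨m * s, hm.mul_left (C.x2.central s hs), ?_, ?_⟩
    · rw [C.μ_mul _ _ hm (C.x2.central s hs), C.μ_mem hs, mul_one]
    · rw [e, show m * s * x * (m * s)⁻¹ = m * (s * x * s⁻¹) * m⁻¹ by group, hsx,
        show m * (C.z * x) * m⁻¹ = (m * C.z * m⁻¹) * (m * x * m⁻¹) by group, C.z_conj hm]

theorem B_eq {x y : G} (hx : x ∈ C.Q) (hy : y ∈ C.Q) : 𝐁 (C.π x) (C.π y) = 0 ↔ Commute x y :=
  C.π_comm x hx y hy

theorem B_one {x y : G} (hx : x ∈ C.Q) (hy : y ∈ C.Q) : 𝐁 (C.π x) (C.π y) = 1 ↔ y * x * y⁻¹ = C.z * x := by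
  constructor
  · intro h
    refine C.x2.not_commute_conj hy hx fun e => ?_
    rw [(C.π_comm x hx y hy).mpr e.symm] at h
    exact zero_ne_one h
  · intro h
    refine (zmod2_cases _).resolve_left fun e => ?_
    rw [((C.π_comm x hx y hy).mp e).symm.eq, mul_inv_cancel_right] at h
    exact C.x2.ne (right_eq_mul.mp h)

/-- The conjugates of the central involution. -/
def Cl (v : G) : Prop := IsConj C.z v

theorem cl_z : C.Cl C.z := IsConj.refl _

theorem cl_conj {v : G} (h : C.Cl v) (g : G) : C.Cl (g * v * g⁻¹) := h.trans (isConj_iff.mpr ⟨g, rfl⟩)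

theorem cl_sq {v : G} (h : C.Cl v) : v * v = 1 := by
  obtain ⟨g, rfl⟩ := isConj_iff.mp h
  rw [show g * C.z * g⁻¹ * (g * C.z * g⁻¹) = g * (C.z * C.z) * g⁻¹ by group, C.x2.zz, mul_one, mul_inv_cancel]

theorem cl_ne {v : G} (h : C.Cl v) : v ≠ 1 := by
  obtain ⟨g, rfl⟩ := isConj_iff.mp h
  exact fun e => C.x2.ne (conj_eq_one_iff.mp e)

/-- The conjugate of `Q` belonging to a conjugate of `z`. -/
def cQ (g : G) : Subgroup G := C.Q.map (MulAut.conj g).toMonoidHom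

theorem mem_cQ {g x : G} : x ∈ C.cQ g ↔ g⁻¹ * x * g ∈ C.Q := mem_map_conj

theorem cQ_congr {g g' : G} (h : g * C.z * g⁻¹ = g' * C.z * g'⁻¹) : C.cQ g = C.cQ g' := by
  ext x
  rw [mem_cQ, mem_cQ]
  have hc : Commute (g⁻¹ * g') C.z := by
    show g⁻¹ * g' * C.z = C.z * (g⁻¹ * g')
    calc g⁻¹ * g' * C.z = g⁻¹ * (g' * C.z * g'⁻¹) * g' := by group
      _ = g⁻¹ * (g * C.z * g⁻¹) * g' := by rw [h]
      _ = _ := by group
  constructor <;> intro hm
  · have := C.conj_mem hc.inv_left hm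
    simpa [mul_assoc] using this
  · have := C.conj_mem hc hm
    simpa [mul_assoc] using this

theorem card_cQ (g : G) : Nat.card (C.cQ g) = 2 ^ 9 :=
  (Subgroup.card_map_of_injective (MulAut.conj g).injective).trans C.card

theorem x2' (g : G) : X2 (C.cQ g) (g * C.z * g⁻¹) := C.x2.conj g

theorem norm' (g : G) : centralizer ({g * C.z * g⁻¹} : Set G) ≤ normalizer ((C.cQ g : Subgroup G) : Set G) :=
  conj_norm C.norm g

theorem conj_mem' {g m x : G} (hm : Commute m (g * C.z * g⁻¹)) (hx : x ∈ C.cQ g) : m * x * m⁻¹ ∈ C.cQ g :=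
  (mem_normalizer_iff.mp (C.norm' g (mem_centralizer_singleton_iff.mpr hm.eq)) x).mp hx

/-- A conjugate inside `Q` gives a pair. -/
theorem pair {g : G} (hgQ : g * C.z * g⁻¹ ∈ C.Q) (hne : g * C.z * g⁻¹ ≠ C.z) :
    Pair C.Q (C.cQ g) C.z (g * C.z * g⁻¹) :=
  ⟨C.x2, C.x2.conj g, C.cent, C.norm, C.norm' g, hgQ,
    mem_map_conj.mpr (mem_conj_of_mem C.x2 C.cent C.norm (by rw [C.card]; norm_num) hgQ hne), hne, g, rfl, rfl⟩

theorem card_centralizer : Nat.card (centralizer ({C.z} : Set G)) = 110592 := by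
  let f : centralizer ({C.z} : Set G) →* RS :=
    MonoidHom.mk' (fun m => C.μ m) fun a b => C.μ_mul a b (C.mem_Mz.mp a.2) (C.mem_Mz.mp b.2)
  have hsurj : Function.Surjective f := fun h => by
    obtain ⟨m, hm, e⟩ := C.μ_surj h
    exact ⟨⟨m, C.mem_Mz.mpr hm⟩, e⟩
  have hker : f.ker = C.Q.subgroupOf _ := by
    ext m
    rw [MonoidHom.mem_ker, mem_subgroupOf]
    exact C.μ_ker m (C.mem_Mz.mp m.2)
  have h := card_eq_card_quotient_mul_card_subgroup f.ker
  rw [Nat.card_congr (QuotientGroup.quotientKerEquivOfSurjective f hsurj).toEquiv, hker,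
    Nat.card_congr (subgroupOfEquivOfLe (fun x hx => C.mem_Mz.mpr (C.x2.central x hx))).toEquiv, C.card] at h
  rw [h, show Nat.card RS = 216 by simp [Nat.card_eq_fintype_card, Fintype.card_perm]; decide]
  rfl

end Ctx

open Cfsg.Lib.ExtraOut Cfsg.Lib.LargeExtra.OutExtra in
/-- The data from coordinates on the extraspecial group. -/
theorem exists_ctx {G : Type u} [Group G] [Finite G] {z : G} (hz : orderOf z = 2)
    {Q₀ : Subgroup ↥(centralizer ({z} : Set G))} [Q₀.Normal] (hQ : Cfsg.IsExtraspecial 2 ↥Q₀)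
    (hcard : Nat.card Q₀ = 2 ^ 9)
    (hC : centralizer (Q₀ : Set ↥(centralizer ({z} : Set G))) ≤ Q₀)
    (ε : ↥(centralizer ({z} : Set G)) ⧸ Q₀ ≃* RS)
    {ι : Type} [Fintype ι] [DecidableEq ι] {F : QuadraticForm (ZMod 2) (ι → ZMod 2)} {z₁ : ↥Q₀} (Cd : Coord z₁ F) :
    ∃ S : Ctx G F, S.z = z := by
  classical
  let M := centralizer ({z} : Set G)
  have hz1 : z ≠ 1 := fun e => by simp [e] at hz
  obtain ⟨z₀, hx, -⟩ := exists_x2 hQ
  have hzM : ∀ m : M, Commute m (⟨z, mem_centralizer_singleton_iff.mpr rfl⟩ : M) := fun m =>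
    Subtype.ext (mem_centralizer_singleton_iff.mp m.2)
  have hzQ : (⟨z, mem_centralizer_singleton_iff.mpr rfl⟩ : M) ∈ Q₀ :=
    hC (mem_centralizer_iff.mpr fun q _ => (hzM q).eq)
  set zM : M := ⟨z, mem_centralizer_singleton_iff.mpr rfl⟩ with hzMdef
  obtain rfl : zM = z₀ := (hx.cen zM hzQ fun a _ => hzM a).resolve_left fun e => hz1 (congrArg Subtype.val e)
  have hcen : ∀ x : Q₀, x ∈ center Q₀ ↔ ((x : M) : G) = 1 ∨ ((x : M) : G) = z := fun x => by
    constructor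
    · intro h
      rcases hx.cen (x : M) x.2 (fun a ha => congrArg Subtype.val (mem_center_iff.mp h ⟨a, ha⟩)) with e | e
      · exact Or.inl (congrArg Subtype.val e)
      · exact Or.inr (congrArg Subtype.val e)
    · intro h
      refine mem_center_iff.mpr fun a => Subtype.ext ?_
      show (a : M) * (x : M) = (x : M) * (a : M)
      rcases h with e | e
      · rw [show (x : M) = 1 from Subtype.ext e, mul_one, one_mul]
      · rw [show (x : M) = zM from Subtype.ext e]; exact (hzM a).eq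
  let Q := Q₀.map M.subtype
  have hQmem : ∀ {x : G}, x ∈ Q ↔ ∃ e : Q₀, ((e : M) : G) = x := fun {x} =>
    ⟨fun ⟨m, hm, e⟩ => ⟨⟨m, hm⟩, e⟩, fun ⟨e, he⟩ => ⟨e, e.2, he⟩⟩
  have hQM : ∀ x ∈ Q, x ∈ M := fun x h => by obtain ⟨e, rfl⟩ := hQmem.mp h; exact (e : M).2
  have hinjQ : Function.Injective fun e : Q₀ => ((e : M) : G) :=
    fun a b e => Subtype.ext (Subtype.ext e)
  let π : G → (ι → ZMod 2) := Function.extend (fun e : Q₀ => ((e : M) : G)) Cd.π 0
  let μ : G → M ⧸ Q₀ := Function.extend (fun m : M => (m : G)) (fun m => (m : M ⧸ Q₀)) 1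
  have hπ : ∀ e : Q₀, π ((e : M) : G) = Cd.π e := fun e => hinjQ.extend_apply _ _ e
  have hμ : ∀ m : M, μ (m : G) = (m : M ⧸ Q₀) := fun m => Subtype.val_injective.extend_apply _ _ m
  have hMmem : ∀ {m : G}, Commute m z → m ∈ M := fun {m} h => mem_centralizer_singleton_iff.mpr h.eq
  -- the linear action
  let lin : MulAut Q₀ →* (ι → ZMod 2) ≃ₗ[ZMod 2] (ι → ZMod 2) :=
    { toFun := fun σ => LinearEquiv.ofLinearMap (Cd.lin σ) (Cd.lin σ⁻¹)
        (LinearMap.ext fun v => by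
          obtain ⟨x, rfl⟩ := Cd.surj v
          rw [LinearMap.comp_apply, Cd.lin_apply, Cd.lin_apply, MulAut.apply_inv_self]; rfl)
        (LinearMap.ext fun v => by
          obtain ⟨x, rfl⟩ := Cd.surj v
          rw [LinearMap.comp_apply, Cd.lin_apply, Cd.lin_apply, MulAut.inv_apply_self]; rfl)
      map_one' := LinearEquiv.ext fun v => by
        obtain ⟨x, rfl⟩ := Cd.surj v
        exact Cd.lin_apply 1 x
      map_mul' := fun σ τ => LinearEquiv.ext fun v => by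
        obtain ⟨x, rfl⟩ := Cd.surj v
        show Cd.lin (σ * τ) (Cd.π x) = Cd.lin σ (Cd.lin τ (Cd.π x))
        rw [Cd.lin_apply, Cd.lin_apply, Cd.lin_apply]; rfl }
  let conjE : M →* MulAut Q₀ := MulAut.conjNormal
  have hconj : ∀ (m : M) (x : Q₀), Cd.π (conjE m x) = (lin (conjE m)) (Cd.π x) :=
    fun m x => (Cd.lin_apply _ x).symm
  have hQker : ∀ m ∈ Q₀, (lin.comp conjE) m = 1 := fun m hm => LinearEquiv.ext fun v => by
    obtain ⟨x, rfl⟩ := Cd.surj v
    show lin (conjE m) (Cd.π x) = Cd.π x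
    rw [← hconj, show conjE m x = (⟨m, hm⟩ : Q₀) * x * (⟨m, hm⟩ : Q₀)⁻¹ from
      Subtype.ext (MulAut.conjNormal_apply m x), Cd.mul, Cd.mul, Cd.π_inv]
    abel
  let ρ : M ⧸ Q₀ →* (ι → ZMod 2) ≃ₗ[ZMod 2] (ι → ZMod 2) := QuotientGroup.lift Q₀ (lin.comp conjE) hQker
  have hιc : finrank (ZMod 2) (ι → ZMod 2) = 8 := by
    let f : Q₀ →* Multiplicative (ι → ZMod 2) := MonoidHom.mk' (fun x => Multiplicative.ofAdd (Cd.π x))
      fun a b => congrArg Multiplicative.ofAdd (Cd.mul a b)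
    have hf : f.ker = center Q₀ := by
      ext x; rw [MonoidHom.mem_ker]; exact ofAdd_eq_one.trans (Cd.ker x)
    have hsurj : Function.Surjective f := fun v => by
      obtain ⟨x, hx'⟩ := Cd.surj v.toAdd
      exact ⟨x, congrArg Multiplicative.ofAdd hx'⟩
    have h := Subgroup.card_eq_card_quotient_mul_card_subgroup f.ker
    rw [Nat.card_congr (QuotientGroup.quotientKerEquivOfSurjective f hsurj).toEquiv, hf, hQ.2, hcard,
      Nat.card_congr Multiplicative.toAdd, Module.natCard_eq_pow_finrank (K := ZMod 2) (V := ι → ZMod 2),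
      Nat.card_zmod] at h
    exact Nat.pow_right_injective le_rfl (show 2 ^ finrank (ZMod 2) (ι → ZMod 2) = 2 ^ 8 by norm_num at h ⊢; omega)
  have hx2 : X2 Q z := by
    refine ⟨⟨zM, hzQ, rfl⟩, hz1, congrArg Subtype.val hx.zz, hx.isP.map _, ?_, ?_, ?_, ?_⟩
    · rintro _ ⟨a, ha, rfl⟩; exact congrArg Subtype.val (hzM a).eq
    · rintro _ ⟨a, ha, rfl⟩ _ ⟨b, hb, rfl⟩
      rw [← map_commutatorElement]
      rcases hx.comm a ha b hb with e | e <;> rw [e]
      · exact Or.inl rfl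
      · exact Or.inr rfl
    · rintro _ ⟨a, ha, rfl⟩
      rcases hx.sq a ha with e | e <;> rw [← map_mul, e]
      · exact Or.inl rfl
      · exact Or.inr rfl
    · rintro _ ⟨c, hc, rfl⟩ h
      rcases hx.cen c hc fun a ha => Subtype.ext (h _ ⟨a, ha, rfl⟩).eq with e | e <;> rw [e]
      · exact Or.inl rfl
      · exact Or.inr rfl
  refine ⟨{
    z := z
    Q := Q
    x2 := hx2
    cent := ?_
    norm := ?_
    card := (Subgroup.card_map_of_injective M.subtype_injective).trans hcard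
    S := ⟨Cd.nondeg⟩
    dim := hιc
    π := π
    π_mul := ?_
    π_surj := ?_
    π_ker := ?_
    π_sq := ?_
    π_comm := ?_
    μ := fun g => ε (μ g)
    μ_mul := ?_
    μ_surj := ?_
    μ_ker := ?_
    ρ := ρ.comp ε.symm.toMonoidHom
    ρ_iso := ?_
    ρ_inj := ?_
    ρ_π := ?_ }, rfl⟩
  · intro c hc
    have hcM : c ∈ M := mem_centralizer_singleton_iff.mpr (mem_centralizer_iff.mp hc z hx2.mem).symm
    exact ⟨⟨c, hcM⟩, hC (mem_centralizer_iff.mpr fun a ha => Subtype.ext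
      (mem_centralizer_iff.mp hc (a : G) ⟨a, ha, rfl⟩)), rfl⟩
  · intro c hc
    refine Cfsg.Lib.ZStarApps.mem_normalizer_of_maps ?_
    rintro _ ⟨a, ha, rfl⟩
    exact ⟨⟨c, hc⟩ * a * ⟨c, hc⟩⁻¹, Normal.conj_mem inferInstance a ha _, rfl⟩
  · intro x hx' y hy'
    obtain ⟨a, rfl⟩ := hQmem.mp hx'
    obtain ⟨b, rfl⟩ := hQmem.mp hy'
    rw [show ((a : M) : G) * ((b : M) : G) = (((a * b : Q₀) : M) : G) from rfl, hπ, hπ, hπ, Cd.mul]
  · intro u
    obtain ⟨x, rfl⟩ := Cd.surj u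
    exact ⟨_, hQmem.mpr ⟨x, rfl⟩, hπ x⟩
  · intro x hx'
    obtain ⟨a, rfl⟩ := hQmem.mp hx'
    rw [hπ, Cd.ker, hcen]
  · intro x hx'
    obtain ⟨a, rfl⟩ := hQmem.mp hx'
    rw [hπ, Cd.hT, show ((a : M) : G) * ((a : M) : G) = 1 ↔ a * a = 1 from
      ⟨fun e => Subtype.ext (Subtype.ext e), fun e => congrArg (fun b : Q₀ => ((b : M) : G)) e⟩]
    unfold OutExtra.sq
    split_ifs with h <;> simp [h]
  · intro x hx' y hy'
    obtain ⟨a, rfl⟩ := hQmem.mp hx'
    obtain ⟨b, rfl⟩ := hQmem.mp hy'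
    rw [hπ, hπ, QuadraticMap.polarBilin_apply_apply, Cd.polar_eq,
      show Commute ((a : M) : G) ((b : M) : G) ↔ Commute b a from
        ⟨fun e => Subtype.ext (Subtype.ext e.eq.symm), fun e => (congrArg (fun c : Q₀ => ((c : M) : G)) e.eq).symm⟩]
    unfold cm
    split_ifs with h <;> simp [h]
  · intro a b ha hb
    rw [← map_mul]
    congr 1
    rw [show a * b = ((⟨a, hMmem ha⟩ * ⟨b, hMmem hb⟩ : M) : G) from rfl, hμ,
      show μ a = μ ((⟨a, hMmem ha⟩ : M) : G) from rfl, show μ b = μ ((⟨b, hMmem hb⟩ : M) : G) from rfl, hμ, hμ]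
    rfl
  · intro h
    obtain ⟨h, rfl⟩ := ε.surjective h
    induction h using QuotientGroup.induction_on with | H m => ?_
    exact ⟨m, mem_centralizer_singleton_iff.mp m.2, congrArg ε (hμ m)⟩
  · intro m hm
    rw [EmbeddingLike.map_eq_one_iff, show μ m = μ ((⟨m, hMmem hm⟩ : M) : G) from rfl, hμ, QuotientGroup.eq_one_iff]
    refine ⟨fun h => ⟨_, h, rfl⟩, fun h => ?_⟩
    obtain ⟨e, he⟩ := hQmem.mp h
    rw [show (⟨m, hMmem hm⟩ : M) = (e : M) from Subtype.ext he.symm]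
    exact e.2
  · intro h
    obtain ⟨h, rfl⟩ := ε.surjective h
    induction h using QuotientGroup.induction_on with | H m => ?_
    intro v
    obtain ⟨x, rfl⟩ := Cd.surj v
    show F (ρ (ε.symm (ε _)) _) = _
    rw [MulEquiv.symm_apply_apply]
    show F (lin (conjE m) (Cd.π x)) = F (Cd.π x)
    rw [← hconj, Cd.hT, Cd.hT, Cd.sq_aut]
  · rw [MonoidHom.coe_comp]
    refine Function.Injective.comp ?_ ε.symm.injective
    refine (injective_iff_map_eq_one ρ).mpr fun h hh => ?_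
    induction h using QuotientGroup.induction_on with | H m => ?_
    have hfix : Cd.lin (conjE m) = LinearMap.id := congrArg LinearEquiv.toLinearMap hh
    have hiso : conjE m ∈ Cd.toIso.ker := by
      rw [MonoidHom.mem_ker]
      refine Subtype.ext (Units.ext ?_)
      show LinearMap.toMatrix' (Cd.lin (conjE m)) = 1
      rw [hfix, LinearMap.toMatrix'_id]
    rw [Cd.toIso_ker] at hiso
    obtain ⟨a, ha⟩ := hiso
    have hcm : (a : M)⁻¹ * m ∈ Q₀ := hC (mem_centralizer_iff.mpr fun x hx' => by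
      have h1 := congrArg Subtype.val (DFunLike.congr_fun ha ⟨x, hx'⟩)
      rw [MulAut.conj_apply, coe_mul, coe_mul, coe_inv] at h1
      rw [show ((conjE m ⟨x, hx'⟩ : Q₀) : M) = m * x * m⁻¹ from MulAut.conjNormal_apply m ⟨x, hx'⟩] at h1
      calc x * ((a : M)⁻¹ * m) = (a : M)⁻¹ * ((a : M) * x * (a : M)⁻¹) * m := by group
        _ = (a : M)⁻¹ * (m * x * m⁻¹) * m := by rw [h1]
        _ = _ := by group)
    rw [QuotientGroup.eq_one_iff]
    simpa using mul_mem a.2 hcm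
  · intro m hm x hx'
    obtain ⟨a, rfl⟩ := hQmem.mp hx'
    show ρ (ε.symm (ε _)) _ = _
    rw [MulEquiv.symm_apply_apply, hπ, show μ m = μ ((⟨m, hMmem hm⟩ : M) : G) from rfl, hμ,
      show m * ((a : M) : G) * m⁻¹ = (((conjE ⟨m, hMmem hm⟩ a : Q₀) : M) : G) from
        (congrArg Subtype.val (MulAut.conjNormal_apply (⟨m, hMmem hm⟩ : M) a)).symm, hπ, hconj]
    rfl


set_option maxHeartbeats 1000000 in
open Cfsg.Lib.LargeExtra.OutExtra in
/-- The setting of the theorem. -/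
theorem exists_setting {G : Type u} [Group G] [Finite G] (t : G) (ht : orderOf t = 2) (C : Subgroup G)
    (hC : C = centralizer ({t} : Set G))
    (hF : Cfsg.IsExtraspecial 2 (Cfsg.generalizedFittingSubgroup C))
    (hFcard : Nat.card (Cfsg.generalizedFittingSubgroup C) = 2 ^ 9)
    (e : C ⧸ Cfsg.pCore 2 C ≃* Equiv.Perm (Fin 3) × Equiv.Perm (Fin 3) × Equiv.Perm (Fin 3))
    (hcc : centralizer (((Cfsg.pCore 2 C).map C.subtype : Subgroup G) : Set G) ≤ (Cfsg.pCore 2 C).map C.subtype) :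
    ∃ (ι : Type) (_ : Fintype ι) (_ : DecidableEq ι) (F : QuadraticForm (ZMod 2) (ι → ZMod 2)) (S : Ctx G F),
      S.z = t := by
  classical
  subst hC
  set M := centralizer ({t} : Set G)
  haveI : Fact (Nat.Prime 2) := ⟨Nat.prime_two⟩
  haveI := (Cfsg.Lib.Components.pCore_normal_and_isPGroup (G := M) 2).1
  have hcc' : centralizer (Cfsg.pCore 2 M : Set M) ≤ Cfsg.pCore 2 M := by
    intro c hc
    obtain ⟨d, hd, e'⟩ := hcc (x := (c : G)) (mem_centralizer_iff.mpr fun x hx => by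
      obtain ⟨y, hy, rfl⟩ := hx
      exact congrArg Subtype.val (mem_centralizer_iff.mp hc y hy))
    exact Subtype.ext e' ▸ hd
  have hFeq : Cfsg.generalizedFittingSubgroup M = Cfsg.pCore 2 M :=
    le_antisymm (Cfsg.Lib.Components.le_pCore hF.1.1) ((((le_iSup (fun p : {p : ℕ // p.Prime} => Cfsg.pCore p.1 ↥M) ⟨2, Nat.prime_two⟩).trans
      Cfsg.Lib.Components.iSup_pCore_le_fitting).trans le_sup_right))
  rw [hFeq] at hF hFcard
  let g : Equiv.Perm (Fin 3) × Equiv.Perm (Fin 3) × Equiv.Perm (Fin 3) ≃* RS :=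
    { toFun := fun p => ![p.1, p.2.1, p.2.2]
      invFun := fun f => (f 0, f 1, f 2)
      left_inv := fun p => rfl
      right_inv := fun f => by ext i : 1; fin_cases i <;> rfl
      map_mul' := fun p p' => by ext i : 1; fin_cases i <;> rfl }
  obtain ⟨z₁, ⟨⟨Cd⟩⟩ | ⟨-, ⟨Cd⟩⟩⟩ := exists_coord hF (n := 4) hFcard
  · obtain ⟨S, hS⟩ := exists_ctx ht hF hFcard hcc' (e.trans g) Cd
    exact ⟨_, inferInstance, inferInstance, _, S, hS⟩
  · obtain ⟨S, hS⟩ := exists_ctx ht hF hFcard hcc' (e.trans g) Cd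
    exact ⟨_, inferInstance, inferInstance, _, S, hS⟩

end Cfsg.Lib.OEightTwo
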