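import Cfsg.Agent.OEightTwo.Frame

/-!
A complement to the extraspecial group in the centraliser of its centre.
-/

set_option autoImplicit false
set_option linter.style.haveILetI false
set_option linter.unusedSectionVars false
set_option maxRecDepth 100000

open Module Subgroup Cfsg.Lib.LargeExtra Cfsg.Lib.LargeExtra.EightSmith
open Cfsg.Lib.ConwayType.Code (qB pB)
open scoped commutatorElement

namespace Cfsg.Lib.OEightTwo

universe u w

/-- The standard dual vectors. -/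
def bC (k : Fin 3) : ℕ := [2, 4, 128].getD k 0

/-- The vectors outside the standard totally singular subspace. -/
def cC (k : Fin 3) : ℕ := [32, 64, 8].getD k 0

theorem split_codes : (∀ k : Fin 3, act (xR k) 1 = bC k ∧ bC k < 256 ∧ inU (bC k) = true ∧
    act (iR k) 16 ^^^ 16 = cC k ∧ (∀ l, l ≠ k → act (iR k) (bC l) = bC l)) ∧
    (∀ k l : Fin 3, k ≠ l → bC k ^^^ bC l ≠ 0 ∧ bC k ^^^ bC l ≠ 1 ∧ pureB (bC k ^^^ bC l) = false) ∧
    (∀ k, act (iR k) 1 = 1) ∧ pureB 0 = false := by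
  decide +kernel

theorem x_zero : ∀ (k : Fin 3) (x : Fin 256),
    (x : ℕ) ^^^ act (xR k) x ^^^ act (xR k) (act (xR k) x) = 0 := by decide +kernel

theorem fixX : ∀ x : Fin 256, (∀ k : Fin 3, act (xR k) x = x) → x = 0 := by decide +kernel

theorem fix_comm : ∀ (k l : Fin 3) (x : Fin 256), l ≠ k → act (iR k) x = x →
    act (iR k) (act (xR l) x) = act (xR l) x := by decide +kernel

theorem coset_cases : ∀ (k : Fin 3) (x : Fin 256), pB x 1 = false →
    (∀ l, l ≠ k → pB x (bC l) = false) → inU x = true ∨ inU ((x : ℕ) ^^^ cC k) = true := by decide +kernel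

/-- The members of the standard subspace and their translates. -/
def cands (k : Fin 3) : List ℕ := (List.range 256).filter fun x => inU x || inU (x ^^^ cC k)

theorem pair_cases : ([(0, 1), (0, 2), (1, 2), (1, 0), (2, 0), (2, 1)] : List (Fin 3 × Fin 3)).all (fun p =>
    (cands p.1).all fun x => (cands p.2).all fun y =>
      !(x ^^^ act (iR p.1) y ^^^ act (iR p.2) x ^^^ y ≤ 1) || inU x == inU y) = true := by decide +kernel

theorem purity : ((List.range 256).all fun v => (List.range 256).all fun a => (List.range 256).all fun b =>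
    !(pureB a && inU a && a != 1 && pureB b && inU b && b != 1 && a != b && !pureB (a ^^^ b)) ||
      !(!qB v && !pB v 1 && !pB v a && !pB v b && !inU v) || pureB v || pureB (v ^^^ 1)) = true := by
  have h : (((List.range 256).filter fun x => pureB x && inU x && x != 1).all fun a =>
      ((List.range 256).filter fun x => pureB x && inU x && x != 1).all fun b =>
        !(a != b && !pureB (a ^^^ b)) || (List.range 256).all fun v =>
          !(!qB v && !pB v 1 && !pB v a && !pB v b && !inU v) || pureB v || pureB (v ^^^ 1)) = true := by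
    decide +kernel
  simp only [List.all_eq_true, List.mem_filter, Bool.or_eq_true, Bool.not_eq_true', Bool.and_eq_true,
    Bool.and_eq_false_iff] at h ⊢
  intro v hv a ha b hb
  by_cases ha' : (pureB a = true ∧ inU a = true) ∧ (a != 1) = true
  · by_cases hb' : (pureB b = true ∧ inU b = true) ∧ (b != 1) = true
    · rcases h a ⟨ha, ha'⟩ b ⟨hb, hb'⟩ with h1 | h1
      · left; left; left
        revert h1
        cases (a != b) <;> cases pureB (a ^^^ b) <;> simp
      · rcases h1 v hv with (h2 | h2) | h2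
        · exact Or.inl (Or.inl (Or.inr h2))
        · exact Or.inl (Or.inr h2)
        · exact Or.inr h2
    · left; left; left
      revert hb'
      cases pureB b <;> cases inU b <;> cases (b != 1) <;> simp
  · left; left; left
    revert ha'
    cases pureB a <;> cases inU a <;> cases (a != 1) <;> simp

theorem perm_coords : ∀ σ τ : Equiv.Perm (Fin 3),
    (((σ * τ) 0 : ℕ)) % 3 = ((σ 0 : ℕ) + ((if σ = cyc ^ (σ 0 : ℕ) then 0 else 1) + 1) * (τ 0 : ℕ)) % 3 ∧
    ((if σ * τ = cyc ^ (((σ * τ) 0 : Fin 3) : ℕ) then 0 else 1 : ℕ)) =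
      ((if σ = cyc ^ (σ 0 : ℕ) then 0 else 1) + (if τ = cyc ^ (τ 0 : ℕ) then 0 else 1)) % 2 := by
  decide +kernel

variable {G : Type u} {V : Type w} [Group G] [Finite G] [AddCommGroup V]
  [Module (ZMod 2) V] [Finite V] {q : QuadraticForm (ZMod 2) V} {C : Ctx G q}

namespace Frame

variable (F : Frame C)

theorem P_one : F.P 1 = 0 := (F.P_ker 1 (one_mem _)).mpr (Or.inl rfl)

theorem P_z : F.P C.z = 0 := (F.P_ker _ C.x2.mem).mpr (Or.inr rfl)

theorem P_inv {x : G} (hx : x ∈ C.Q) : F.P x⁻¹ = F.P x := by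
  have h := F.P_mul _ (inv_mem hx) _ hx
  rw [inv_mul_cancel, F.P_one] at h
  exact Nat.eq_of_testBit_eq fun i => by
    have h' := congrArg (fun n => Nat.testBit n i) h
    simp only [Nat.testBit_xor, Nat.zero_testBit] at h'
    revert h'
    cases (F.P x⁻¹).testBit i <;> cases (F.P x).testBit i <;> simp

theorem P_zmul {x : G} (hx : x ∈ C.Q) : F.P (C.z * x) = F.P x := by
  rw [F.P_mul _ C.x2.mem _ hx, F.P_z, Nat.zero_xor]

theorem eq_of_P {x y : G} (hx : x ∈ C.Q) (hy : y ∈ C.Q) (h : F.P x = F.P y) : y = x ∨ y = C.z * x := by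
  have h0 : F.P (y * x⁻¹) = 0 := by rw [F.P_mul _ hy _ (inv_mem hx), F.P_inv hx, h, Nat.xor_self]
  rcases (F.P_ker _ (mul_mem hy (inv_mem hx))).mp h0 with e | e
  · exact Or.inl (mul_inv_eq_one.mp e)
  · exact Or.inr (mul_inv_eq_iff_eq_mul.mp e)

theorem P_Q {x y : G} (hx : x ∈ C.Q) (hy : y ∈ C.Q) : F.P (y * x * y⁻¹) = F.P x := by
  rw [F.P_mul _ (mul_mem hy hx) _ (inv_mem hy), F.P_mul _ hy _ hx, F.P_inv hy, Nat.xor_comm (F.P y) (F.P x),
    Nat.xor_assoc, Nat.xor_self, Nat.xor_zero]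

theorem π_ne {x : G} (hx : x ∈ C.Q) (h : F.P x ≠ 0) : C.π x ≠ 0 :=
  fun e => h ((F.P_ker x hx).mpr (C.eq_cases hx e))

theorem u_mem : F.g * C.z * F.g⁻¹ ∈ C.cQ F.g := (C.x2' F.g).mem

theorem z_mem : C.z ∈ C.cQ F.g := (C.pair F.gQ F.gne).m'

/-- Moving the frame by an element of `Q`. -/
def move {y : G} (hy : y ∈ C.Q) : Frame C where
  g := y * F.g
  P := F.P
  gQ := by
    rw [show y * F.g * C.z * (y * F.g)⁻¹ = y * (F.g * C.z * F.g⁻¹) * y⁻¹ by group]
    exact C.conj_mem (C.x2.central y hy) F.gQ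
  gne := fun e => F.gne (by
    have hc := C.z_conj (C.x2.central y hy)
    rw [show y * F.g * C.z * (y * F.g)⁻¹ = y * (F.g * C.z * F.g⁻¹) * y⁻¹ by group] at e
    exact (MulAut.conj y).injective (e.trans hc.symm))
  lt := F.lt
  P_u := by
    rw [show y * F.g * C.z * (y * F.g)⁻¹ = y * (F.g * C.z * F.g⁻¹) * y⁻¹ by group, F.P_Q F.gQ hy, F.P_u]
  P_mul := F.P_mul
  P_ker := F.P_ker
  P_surj := F.P_surj
  P_sq := F.P_sq
  P_comm := F.P_comm
  P_conj := F.P_conj
  mem_inter := fun x hx => by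
    have hy' : y⁻¹ * x * y ∈ C.Q := mul_mem (mul_mem (inv_mem hy) hx) hy
    rw [C.mem_cQ, show (y * F.g)⁻¹ * x * (y * F.g) = F.g⁻¹ * (y⁻¹ * x * y) * F.g by group, ← C.mem_cQ,
      F.mem_inter _ hy']
    have := F.P_Q hx (inv_mem hy)
    rw [inv_inv] at this
    rw [this]
  lift := fun r hr => by
    obtain ⟨b, hb, hbz, e⟩ := F.lift r hr
    refine ⟨y * b * y⁻¹, C.mem_cQ.mpr ?_, ((C.x2.central y hy).mul_left hbz).mul_left (C.x2.central y hy).inv_left,
      by rw [C.μ_conj (C.x2.central y hy) hbz, C.μ_mem hy, e]; group⟩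
    rw [show (y * F.g)⁻¹ * (y * b * y⁻¹) * (y * F.g) = F.g⁻¹ * b * F.g by group]
    exact C.mem_cQ.mp hb
  cl := F.cl

end Frame

theorem exists_normal (C : Ctx G q) : ∃ P0 : Subgroup G, (∀ p ∈ P0, Commute p C.z) ∧
    (∀ p ∈ P0, C.μ p = 1 → p = 1) ∧ (∀ r : RS, (∀ k, Equiv.Perm.sign (r k) = 1) → ∃ p ∈ P0, C.μ p = r) ∧
    ∀ r : RS, ∃ n, Commute n C.z ∧ C.μ n = r ∧ ∀ p ∈ P0, n * p * n⁻¹ ∈ P0 := by
  classical
  let M := centralizer ({C.z} : Set G)
  let μM : M →* RS := MonoidHom.mk' (fun m => C.μ m) fun a b => C.μ_mul a b (C.mem_Mz.mp a.2) (C.mem_Mz.mp b.2)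
  let A : Subgroup RS := Subgroup.pi Set.univ fun _ => alternatingGroup (Fin 3)
  have hA : ∀ r, r ∈ A ↔ ∀ k, Equiv.Perm.sign (r k) = 1 := fun r => by
    simp [A, Subgroup.mem_pi, Equiv.Perm.mem_alternatingGroup]
  haveI : A.Normal := ⟨fun a ha b => (hA _).mpr fun k => by
    show Equiv.Perm.sign (b k * a k * (b k)⁻¹) = 1
    rw [map_mul, map_mul, map_inv, (hA a).mp ha k, mul_one, mul_inv_cancel]⟩
  haveI : Fact (Nat.Prime 3) := ⟨Nat.prime_three⟩
  let H := A.comap μM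
  haveI : H.Normal := Subgroup.Normal.comap inferInstance μM
  let S : Sylow 3 H := default
  let PM := (S : Subgroup H).map H.subtype
  have hμsurj : Function.Surjective μM := fun r => by
    obtain ⟨m, hm, e⟩ := C.μ_surj r
    exact ⟨⟨m, C.mem_Mz.mpr hm⟩, e⟩
  have hA27 : Nat.card A = 27 := by
    rw [Nat.card_congr (Equiv.subtypeEquivRight hA), Nat.card_eq_fintype_card]
    decide +kernel
  have hS3 : IsPGroup 3 (S : Subgroup H) := S.isPGroup'
  have hinj : ∀ p ∈ PM, μM p = 1 → p = 1 := by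
    rintro _ ⟨p, hp, rfl⟩ h
    have hQ : ((p : M) : G) ∈ C.Q := (C.μ_ker _ (C.mem_Mz.mp (p : M).2)).mp h
    obtain ⟨a, ha⟩ := hS3 ⟨p, hp⟩
    obtain ⟨b, hb⟩ := C.x2.isP ⟨_, hQ⟩
    have h3 : ((p : M) : G) ^ 3 ^ a = 1 := congrArg (fun x : (S : Subgroup H) => (((x : H) : M) : G)) ha
    have h2 : ((p : M) : G) ^ 2 ^ b = 1 := congrArg Subtype.val hb
    refine Subtype.ext (orderOf_eq_one_iff.mp (Nat.dvd_one.mp ?_))
    exact (Nat.Coprime.pow a b (by norm_num : Nat.Coprime 3 2)) ▸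
      Nat.dvd_gcd (orderOf_dvd_of_pow_eq_one h3) (orderOf_dvd_of_pow_eq_one h2)
  have himg : PM.map μM = A := by
    refine Subgroup.eq_of_le_of_card_ge ?_ ?_
    · rintro _ ⟨_, ⟨p, -, rfl⟩, rfl⟩; exact p.2
    · have hle : PM.map μM ≤ A := by rintro _ ⟨_, ⟨p, -, rfl⟩, rfl⟩; exact p.2
      have hc : Nat.card (PM.map μM) = Nat.card (S : Subgroup H) := by
        rw [← Subgroup.card_map_of_injective (K := (S : Subgroup H)) H.subtype_injective]
        refine (Nat.card_congr (Equiv.ofBijective (fun p : PM => (⟨μM p, p, p.2, rfl⟩ : PM.map μM)) ⟨?_, ?_⟩)).symm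
        · intro a b e
          have := hinj _ (mul_mem a.2 (inv_mem b.2)) (by
            rw [map_mul, map_inv, show μM a = μM b from congrArg Subtype.val e, mul_inv_cancel])
          exact Subtype.ext (mul_inv_eq_one.mp this)
        · rintro ⟨_, p, hp, rfl⟩; exact ⟨⟨p, hp⟩, rfl⟩
      have hH : Nat.card H = 512 * 27 := by
        let ν : H →* A := (μM.comp H.subtype).codRestrict A fun h => h.2
        have h := card_eq_card_quotient_mul_card_subgroup ν.ker
        have hsur : Function.Surjective ν := fun a => by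
          obtain ⟨m, hm⟩ := hμsurj a
          exact ⟨⟨m, show μM m ∈ A by rw [hm]; exact a.2⟩, Subtype.ext hm⟩
        have hk : Nat.card ν.ker = 512 := by
          refine (Nat.card_congr (Equiv.ofBijective (fun x : ν.ker => (⟨((x : H) : M), ?_⟩ : C.Q))
            ⟨fun a b e => Subtype.ext (Subtype.ext (Subtype.ext (congrArg Subtype.val e : _))), ?_⟩)).trans C.card
          · exact (C.μ_ker _ (C.mem_Mz.mp ((x : H) : M).2)).mp (congrArg Subtype.val (MonoidHom.mem_ker.mp x.2))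
          · rintro ⟨x, hx⟩
            have hxM : x ∈ M := C.mem_Mz.mpr (C.x2.central x hx)
            refine ⟨⟨⟨⟨x, hxM⟩, show μM ⟨x, hxM⟩ ∈ A by rw [show μM ⟨x, hxM⟩ = C.μ x from rfl, C.μ_mem hx]; exact A.one_mem⟩, ?_⟩, rfl⟩
            exact Subtype.ext (C.μ_mem hx)
        rw [Nat.card_congr (QuotientGroup.quotientKerEquivOfSurjective ν hsur).toEquiv, hA27, hk, mul_comm] at h
        exact h
      have h27 : 27 ∣ Nat.card (S : Subgroup H) :=
        S.pow_dvd_card_of_pow_dvd_card (n := 3) (by rw [hH]; norm_num)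
      rw [hc, hA27]
      exact Nat.le_of_dvd Nat.card_pos h27
  refine ⟨PM.map M.subtype, ?_, ?_, ?_, fun r => ?_⟩
  · rintro _ ⟨p, -, rfl⟩; exact C.mem_Mz.mp p.2
  · rintro _ ⟨p, hp, rfl⟩ h
    exact congrArg Subtype.val (hinj p hp h)
  · intro r hr
    obtain ⟨p, hp, e⟩ := (himg ▸ (hA r).mpr hr : r ∈ PM.map μM)
    exact ⟨p, ⟨p, hp, rfl⟩, e⟩
  · obtain ⟨m, hm⟩ := hμsurj r
    have htop : (m : M) ∈ Subgroup.normalizer (PM : Set M) ⊔ H := by
      rw [Sylow.normalizer_sup_eq_top S]; exact Subgroup.mem_top m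
    obtain ⟨n, hn, h, hh, rfl⟩ := Subgroup.mem_sup_of_normal_right.mp htop
    obtain ⟨p, hp, hpe⟩ := (himg ▸ hh : μM h ∈ PM.map μM)
    have hnp : n * p ∈ Subgroup.normalizer (PM : Set M) := mul_mem hn (Subgroup.le_normalizer hp)
    refine ⟨((n * p : M) : G), C.mem_Mz.mp (n * p).2, ?_, ?_⟩
    · show μM (n * p) = r
      rw [map_mul, hpe, ← map_mul, hm]
    · rintro _ ⟨x, hx, rfl⟩
      exact ⟨(n * p) * x * (n * p)⁻¹, (Subgroup.mem_normalizer_iff.mp hnp x).mp hx, rfl⟩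

/-- Lifts of the generators of the cube of `S₃`. -/
theorem exists_lifts (C : Ctx G q) (F : Frame C) : ∃ X J : Fin 3 → G,
    (∀ k, Commute (X k) C.z ∧ C.μ (X k) = xR k ∧ X k ^ 3 = 1) ∧
    (∀ k l, Commute (X k) (X l)) ∧
    (∀ k, Commute (J k) C.z ∧ C.μ (J k) = iR k ∧ J k * X k * (J k)⁻¹ = (X k)⁻¹) ∧
    (∀ k l, k ≠ l → Commute (J k) (X l)) ∧
    (∀ x ∈ C.Q, (∀ k, Commute (X k) x) → x = 1 ∨ x = C.z) := by
  obtain ⟨P0, hz, hinj, hsurj, hnorm⟩ := exists_normal C
  have hsign : ∀ k l : Fin 3, Equiv.Perm.sign (xR k l) = 1 := by decide +kernel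
  choose X hX hμX using fun k => hsurj (xR k) (hsign k)
  choose J hJz hμJ hJn using fun k => hnorm (iR k)
  have huniq : ∀ a ∈ P0, ∀ b ∈ P0, C.μ a = C.μ b → a = b := fun a ha b hb h =>
    mul_inv_eq_one.mp (hinj _ (mul_mem ha (inv_mem hb)) (by
      rw [C.μ_mul _ _ (hz a ha) (hz b hb).inv_left, C.μ_inv (hz b hb), h, mul_inv_cancel]))
  have hzX : ∀ k, Commute (X k) C.z := fun k => hz _ (hX k)
  refine ⟨X, J, fun k => ⟨hzX k, hμX k, huniq _ (pow_mem (hX k) 3) _ (one_mem _) ?_⟩, fun k l => ?_,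
    fun k => ⟨hJz k, hμJ k, huniq _ (hJn k _ (hX k)) _ (inv_mem (hX k)) ?_⟩, fun k l hkl => ?_, fun x hx hc => ?_⟩
  · rw [C.μ_pow (hzX k), hμX, C.μ_one, pow_succ, pow_two, (rel_xR k).1]
  · refine commute_iff_eq _ _ |>.mpr (huniq _ (mul_mem (hX k) (hX l)) _ (mul_mem (hX l) (hX k)) ?_)
    rw [C.μ_mul _ _ (hzX k) (hzX l), C.μ_mul _ _ (hzX l) (hzX k), hμX, hμX]
    by_cases h : k = l
    · rw [h]
    · exact (comm_xR h).1.eq
  · rw [C.μ_conj (hJz k) (hzX k), C.μ_inv (hzX k), hμX, hμJ, inv_eq_of_mul_eq_one_right (sylS_sq (iR_mem k)),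
      (rel_xR k).2.1, eq_comm, inv_eq_iff_mul_eq_one, ← mul_assoc, (rel_xR k).1]
  · have h := huniq _ (hJn k _ (hX l)) _ (hX l) (by
      rw [C.μ_conj (hJz k) (hzX l), hμX, hμJ, (comm_xR hkl).2.1.eq, mul_inv_cancel_right])
    exact mul_inv_eq_iff_eq_mul.mp h
  · refine (F.P_ker x hx).mp (congrArg Fin.val (fixX ⟨F.P x, F.lt x⟩ fun k => ?_))
    show act (xR k) (F.P x) = F.P x
    rw [← hμX, ← F.P_conj _ (hzX k) x hx, (hc k).eq, mul_inv_cancel_right]

/-- A complement with pure involutions in the extraspecial group of a conjugate, with a swap. -/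
structure Split (C : Ctx G q) where
  F : Frame C
  sw : G
  sw_z : sw * C.z * sw⁻¹ = F.g * C.z * F.g⁻¹
  sw_inv : sw⁻¹ * C.z * sw = F.g * C.z * F.g⁻¹
  s : RS →* G
  s_z : ∀ r, Commute (s r) C.z
  s_μ : ∀ r, C.μ (s r) = r
  s_mem : ∀ r ∈ sylS, s r ∈ C.cQ F.g
  s_fix : ∀ k, ∀ x ∈ C.Q, act (iR k) (F.P x) = F.P x → Commute (s (iR k)) x
  s_pure : ∀ k, C.Cl (s (iR k))

theorem exists_split (C : Ctx G q) (F₀ : Frame C) : Nonempty (Split C) := by
  classical
  obtain ⟨X, J₀, hX, hXX, hJ₀, hJX₀, hcX⟩ := exists_lifts C F₀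
  -- properties independent of the signs
  have hfix : ∀ (J : Fin 3 → G), (∀ k, Commute (J k) C.z ∧ C.μ (J k) = iR k) →
      (∀ k l, k ≠ l → Commute (J k) (X l)) →
      ∀ k, ∀ x ∈ C.Q, act (iR k) (F₀.P x) = F₀.P x → Commute (J k) x := by
    intro J hJ hJX k x hx hf
    obtain ⟨l, hl⟩ := (show ∀ k : Fin 3, ∃ l, l ≠ k by decide) k
    have hPJ : F₀.P (J k * x * (J k)⁻¹) = F₀.P x := by rw [F₀.P_conj _ (hJ k).1 x hx, (hJ k).2, hf]
    rcases F₀.eq_of_P hx (C.conj_mem (hJ k).1 hx) hPJ.symm with e | e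
    · exact mul_inv_eq_iff_eq_mul.mp e
    exfalso
    have hXz := C.z_conj (hX l).1
    set b := X l * x * (X l)⁻¹ with hb
    set c := X l * b * (X l)⁻¹ with hc
    have hbQ : b ∈ C.Q := C.conj_mem (hX l).1 hx
    have hcQ : c ∈ C.Q := C.conj_mem (hX l).1 hbQ
    have hJX := (hJX k l hl.symm)
    have conjX : ∀ y, J k * (X l * y * (X l)⁻¹) * (J k)⁻¹ = X l * (J k * y * (J k)⁻¹) * (X l)⁻¹ := fun y => by
      rw [show J k * (X l * y * (X l)⁻¹) * (J k)⁻¹ = (J k * X l) * y * (J k * X l)⁻¹ by group, hJX.eq]; group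
    have eb : J k * b * (J k)⁻¹ = C.z * b := by
      rw [hb, conjX, e]
      calc X l * (C.z * x) * (X l)⁻¹ = (X l * C.z * (X l)⁻¹) * (X l * x * (X l)⁻¹) := by group
        _ = _ := by rw [hXz]
    have ec : J k * c * (J k)⁻¹ = C.z * c := by
      rw [hc, conjX, eb]
      calc X l * (C.z * b) * (X l)⁻¹ = (X l * C.z * (X l)⁻¹) * (X l * b * (X l)⁻¹) := by group
        _ = _ := by rw [hXz]
    have hP : F₀.P (x * b * c) = 0 := by
      rw [F₀.P_mul _ (mul_mem hx hbQ) _ hcQ, F₀.P_mul _ hx _ hbQ, hc, F₀.P_conj _ (hX l).1 _ hbQ, hb,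
        F₀.P_conj _ (hX l).1 _ hx, (hX l).2.1]
      exact x_zero l ⟨F₀.P x, F₀.lt x⟩
    have habc : J k * (x * b * c) * (J k)⁻¹ = x * b * c := by
      rcases (F₀.P_ker _ (mul_mem (mul_mem hx hbQ) hcQ)).mp hP with e' | e' <;> rw [e']
      · group
      · exact C.z_conj (hJ k).1
    rw [show J k * (x * b * c) * (J k)⁻¹ = (J k * x * (J k)⁻¹) * (J k * b * (J k)⁻¹) * (J k * c * (J k)⁻¹) by
        group, e, eb, ec] at habc
    have : C.z * (x * b * c) = x * b * c := by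
      have h1 : x * C.z = C.z * x := (C.x2.central x hx).eq
      have h2 : b * C.z = C.z * b := (C.x2.central b hbQ).eq
      calc C.z * (x * b * c) = C.z * C.z * (C.z * x) * b * c := by rw [C.x2.zz]; group
        _ = C.z * C.z * (x * C.z) * b * c := by rw [h1]
        _ = C.z * (C.z * x) * (C.z * b) * c := by group
        _ = C.z * (x * C.z) * (b * C.z) * c := by rw [h1, h2]
        _ = C.z * x * (C.z * b) * (C.z * c) := by group
        _ = _ := habc
    exact C.x2.ne (mul_eq_right.mp this)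
  -- into the second extraspecial group
  obtain ⟨y, hy, hy'⟩ : ∃ y, ∃ hy : y ∈ C.Q, ∀ k, J₀ k ∈ C.cQ (F₀.move hy).g := by
    choose j hj hjz hμj using fun k => F₀.lift (iR k) (iR_mem k)
    let a : Fin 3 → G := fun k => J₀ k * (j k)⁻¹
    have ha : ∀ k, a k ∈ C.Q := fun k => (C.μ_ker _ ((hJ₀ k).1.mul_left (hjz k).inv_left)).mp (by
      rw [C.μ_mul _ _ (hJ₀ k).1 (hjz k).inv_left, C.μ_inv (hjz k), (hJ₀ k).2.1, hμj, mul_inv_cancel])
    have hJa : ∀ k, J₀ k = a k * j k := fun k => by simp [a]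
    set u := F₀.g * C.z * F₀.g⁻¹ with hu
    have hJfix := hfix J₀ (fun k => ⟨(hJ₀ k).1, (hJ₀ k).2.1⟩) hJX₀
    have hju : ∀ k, Commute (j k) u := fun k => (C.x2' F₀.g).central _ (hj k)
    have hau : ∀ k, pB (F₀.P (a k)) 1 = false := fun k => by
      rw [← F₀.P_u, F₀.P_comm _ (ha k) _ F₀.gQ]
      exact (hJfix k u F₀.gQ (by rw [F₀.P_u]; exact split_codes.2.2.1 k)).mul_left (hju k).inv_left
    have hab : ∀ k l, l ≠ k → pB (F₀.P (a k)) (bC l) = false := fun k l hl => by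
      obtain ⟨-, hlt, hin, -, -⟩ := split_codes.1 l
      have hact := (split_codes.1 k).2.2.2.2 l hl
      obtain ⟨w, hw, hPw⟩ := F₀.P_surj _ hlt
      rw [← hPw, F₀.P_comm _ (ha k) _ hw]
      refine (hJfix k w hw (by rw [hPw]; exact hact)).mul_left (Commute.inv_left ?_)
      have hwg : w ∈ C.cQ F₀.g := (F₀.mem_inter w hw).mpr (by rw [hPw]; exact hin)
      rcases (C.x2' F₀.g).conj_cases (hj k) hwg with e | e
      · exact mul_inv_eq_iff_eq_mul.mp e
      · exfalso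
        have h := F₀.P_conj _ (hjz k) w hw
        rw [e, F₀.P_mul _ F₀.gQ _ hw, F₀.P_u, hμj, hPw, hact] at h
        exact (show ∀ l : Fin 3, 1 ^^^ bC l ≠ bC l by decide +kernel) l h
    have hcase : ∀ k, inU (F₀.P (a k)) = true ∨ inU (F₀.P (a k) ^^^ cC k) = true := fun k =>
      coset_cases k ⟨_, F₀.lt _⟩ (hau k) (hab k)
    have hpair : ∀ k l, inU (F₀.P (a k)) = inU (F₀.P (a l)) := by
      intro k l
      by_cases hkl : k = l
      · rw [hkl]
      set c := J₀ k * J₀ l * (J₀ k)⁻¹ * (J₀ l)⁻¹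
      have hcz : Commute c C.z :=
        (((hJ₀ k).1.mul_left (hJ₀ l).1).mul_left (hJ₀ k).1.inv_left).mul_left (hJ₀ l).1.inv_left
      have hcQ : c ∈ C.Q := (C.μ_ker c hcz).mp (by
        rw [C.μ_mul _ _ (((hJ₀ k).1.mul_left (hJ₀ l).1).mul_left (hJ₀ k).1.inv_left) (hJ₀ l).1.inv_left,
          C.μ_conj (hJ₀ k).1 (hJ₀ l).1, C.μ_inv (hJ₀ l).1, (hJ₀ k).2.1, (hJ₀ l).2.1, (comm_xR hkl).2.2.eq]
        group)
      have hcX' : ∀ m, Commute (X m) c := by
        intro m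
        have act1 : ∀ n, J₀ n * X m * (J₀ n)⁻¹ = if n = m then (X m)⁻¹ else X m := fun n => by
          split_ifs with h
          · subst h; exact (hJ₀ n).2.2
          · rw [(hJX₀ n m h).eq, mul_inv_cancel_right]
        have act2 : ∀ n, (J₀ n)⁻¹ * X m * J₀ n = if n = m then (X m)⁻¹ else X m := fun n => by
          have h := act1 n
          split_ifs at h ⊢
          · have h' := congrArg Inv.inv h
            rw [inv_inv] at h'
            calc (J₀ n)⁻¹ * X m * J₀ n = (J₀ n)⁻¹ * (J₀ n * X m * (J₀ n)⁻¹)⁻¹ * J₀ n := by rw [h']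
              _ = _ := by group
          · calc (J₀ n)⁻¹ * X m * J₀ n = (J₀ n)⁻¹ * (J₀ n * X m * (J₀ n)⁻¹) * J₀ n := by rw [h]
              _ = _ := by group
        have : c * X m * c⁻¹ = X m := by
          calc c * X m * c⁻¹ = J₀ k * (J₀ l * ((J₀ k)⁻¹ * ((J₀ l)⁻¹ * X m * J₀ l) * J₀ k) * (J₀ l)⁻¹) *
                (J₀ k)⁻¹ := by simp only [c]; group
            _ = X m := by
              rw [act2 l]
              by_cases hlm : l = m
              · subst hlm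
                rw [if_pos rfl, show (J₀ k)⁻¹ * (X l)⁻¹ * J₀ k = ((J₀ k)⁻¹ * X l * J₀ k)⁻¹ by group, act2 k,
                  if_neg hkl, show J₀ l * (X l)⁻¹ * (J₀ l)⁻¹ = (J₀ l * X l * (J₀ l)⁻¹)⁻¹ by group, act1 l,
                  if_pos rfl, inv_inv, act1 k, if_neg hkl]
              · rw [if_neg hlm, act2 k]
                split_ifs with hkm
                · rw [show J₀ l * (X m)⁻¹ * (J₀ l)⁻¹ = (J₀ l * X m * (J₀ l)⁻¹)⁻¹ by group, act1 l, if_neg hlm,
                    show J₀ k * (X m)⁻¹ * (J₀ k)⁻¹ = (J₀ k * X m * (J₀ k)⁻¹)⁻¹ by group, act1 k, if_pos hkm,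
                    inv_inv]
                · rw [act1 l, if_neg hlm, act1 k, if_neg hkm]
        exact (mul_inv_eq_iff_eq_mul.mp this).symm
      have hPc : F₀.P c = 0 := (F₀.P_ker c hcQ).mpr (hcX c hcQ hcX')
      set d := j k * j l * (j k)⁻¹ * (j l)⁻¹ with hd
      have hdg : d ∈ C.cQ F₀.g := mul_mem (mul_mem (mul_mem (hj k) (hj l)) (inv_mem (hj k))) (inv_mem (hj l))
      have hdQ : d ∈ C.Q := (C.μ_ker d ((((hjz k).mul_left (hjz l)).mul_left (hjz k).inv_left).mul_left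
          (hjz l).inv_left)).mp (by
        rw [hd, C.μ_mul _ _ (((hjz k).mul_left (hjz l)).mul_left (hjz k).inv_left) (hjz l).inv_left,
          C.μ_conj (hjz k) (hjz l), C.μ_inv (hjz l), hμj, hμj, (comm_xR hkl).2.2.eq]
        group)
      have hPd : F₀.P d ≤ 1 := by
        have hdc : d = ⁅j k, j l⁆ := rfl
        rcases (C.x2' F₀.g).comm _ (hj k) _ (hj l) with e | e
        · rw [hdc, e, F₀.P_one]; exact Nat.zero_le 1
        · rw [hdc, e, F₀.P_u]
      have hq1 := C.conj_mem (hjz k) (ha l)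
      have hq2 := C.conj_mem (hjz l) (inv_mem (ha k))
      have heq : c = a k * (j k * a l * (j k)⁻¹) * d * (j l * (a k)⁻¹ * (j l)⁻¹) * (a l)⁻¹ := by
        simp only [c]; rw [hJa k, hJa l, hd]; group
      have hq3 := mul_mem (mul_mem (mul_mem (ha k) hq1) hdQ) hq2
      rw [heq, F₀.P_mul _ hq3 _ (inv_mem (ha l)), F₀.P_mul _ (mul_mem (mul_mem (ha k) hq1) hdQ) _ hq2,
        F₀.P_mul _ (mul_mem (ha k) hq1) _ hdQ, F₀.P_mul _ (ha k) _ hq1, F₀.P_conj _ (hjz k) _ (ha l),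
        F₀.P_conj _ (hjz l) _ (inv_mem (ha k)), F₀.P_inv (ha k), F₀.P_inv (ha l), hμj, hμj] at hPc
      have hle : F₀.P (a k) ^^^ act (iR k) (F₀.P (a l)) ^^^ act (iR l) (F₀.P (a k)) ^^^ F₀.P (a l) ≤ 1 := by
        have e : F₀.P (a k) ^^^ act (iR k) (F₀.P (a l)) ^^^ act (iR l) (F₀.P (a k)) ^^^ F₀.P (a l) = F₀.P d := by
          apply Nat.eq_of_testBit_eq
          intro i
          have h := congrArg (fun n => Nat.testBit n i) hPc
          simp only [Nat.testBit_xor, Nat.zero_testBit] at h ⊢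
          revert h
          generalize (F₀.P (a k)).testBit i = b1
          generalize (act (iR k) (F₀.P (a l))).testBit i = b2
          generalize (F₀.P d).testBit i = b3
          generalize (act (iR l) (F₀.P (a k))).testBit i = b4
          generalize (F₀.P (a l)).testBit i = b5
          revert b1 b2 b3 b4 b5
          decide
        rw [e]; exact hPd
      have hmem : ∀ m, F₀.P (a m) ∈ cands m := fun m =>
        List.mem_filter.mpr ⟨List.mem_range.2 (F₀.lt _), Bool.or_eq_true_iff.2 (hcase m)⟩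
      have h := List.all_eq_true.1 pair_cases (k, l)
        ((show ∀ k l : Fin 3, k ≠ l → (k, l) ∈ ([(0, 1), (0, 2), (1, 2), (1, 0), (2, 0), (2, 1)] :
          List (Fin 3 × Fin 3)) by decide) k l hkl)
      have h2 := List.all_eq_true.1 (List.all_eq_true.1 h _ (hmem k)) _ (hmem l)
      simp only [hle, decide_true, Bool.not_true, Bool.false_or, beq_iff_eq] at h2
      exact h2
    obtain ⟨y, hy, hPy⟩ : ∃ y ∈ C.Q, ∀ k, inU (F₀.P y ^^^ (F₀.P (a k) ^^^ act (iR k) (F₀.P y))) = true := by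
      by_cases h0 : inU (F₀.P (a 0)) = true
      · refine ⟨1, one_mem _, fun k => ?_⟩
        have : ∀ k, act (iR k) 0 = 0 := by decide +kernel
        rw [F₀.P_one, this, Nat.zero_xor, Nat.xor_zero]
        exact (hpair k 0).trans h0
      · obtain ⟨y, hy, hPy⟩ := F₀.P_surj 16 (by norm_num)
        refine ⟨y, hy, fun k => ?_⟩
        have e : F₀.P y ^^^ (F₀.P (a k) ^^^ act (iR k) (F₀.P y)) = F₀.P (a k) ^^^ cC k := by
          rw [hPy, ← (split_codes.1 k).2.2.2.1, Nat.xor_comm 16, Nat.xor_assoc]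
        rw [e]
        exact (hcase k).resolve_left fun h => h0 ((hpair 0 k).trans h)
    refine ⟨y, hy, fun k => C.mem_cQ.mpr ?_⟩
    show (y * F₀.g)⁻¹ * J₀ k * (y * F₀.g) ∈ C.Q
    rw [show (y * F₀.g)⁻¹ * J₀ k * (y * F₀.g) = F₀.g⁻¹ * (y⁻¹ * (a k * (j k * y * (j k)⁻¹)) * j k) * F₀.g by
      rw [hJa k]; group, ← C.mem_cQ]
    have hq := C.conj_mem (hjz k) hy
    refine mul_mem ((F₀.mem_inter _ (mul_mem (inv_mem hy) (mul_mem (ha k) hq))).mpr ?_) (hj k)
    rw [F₀.P_mul _ (inv_mem hy) _ (mul_mem (ha k) hq), F₀.P_mul _ (ha k) _ hq, F₀.P_conj _ (hjz k) _ hy,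
      F₀.P_inv hy, hμj]
    exact hPy k
  set F := F₀.move hy with hF
  set u := F.g * C.z * F.g⁻¹ with hu
  -- the swap
  obtain ⟨sw, hsw, hswi⟩ : ∃ sw : G, sw * C.z * sw⁻¹ = u ∧ sw⁻¹ * C.z * sw = u := by
    set x := F.g⁻¹ * C.z * F.g
    have hxQ : x ∈ C.Q := C.mem_cQ.mp F.z_mem
    have hxz : x ≠ C.z := fun e => F.gne (by
      conv_lhs => rw [← e]
      simp [x, mul_assoc])
    have hxcl : C.Cl x := by simpa using C.cl_conj C.cl_z F.g⁻¹
    obtain ⟨p, hp⟩ := pureB_iff.mp ((F.cl x hxQ hxz).mp hxcl)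
    have hr : ∀ p : Fin 3 → Fin 3, ∃ r : RS, act r 1 = pureC p := by decide +kernel
    obtain ⟨r, hr⟩ := hr p
    obtain ⟨m, hm, hmr⟩ := C.μ_surj r
    have hPm : F.P (m * u * m⁻¹) = F.P x := by rw [F.P_conj m hm u F.gQ, hmr, F.P_u, hr, hp]
    obtain ⟨m', hm', hmx⟩ : ∃ m', Commute m' C.z ∧ m' * u * m'⁻¹ = x := by
      rcases F.eq_of_P (C.conj_mem hm F.gQ) hxQ hPm with e | e
      · exact ⟨m, hm, e.symm⟩
      · obtain ⟨s, hs, hsx⟩ := C.q_conj_mem (C.conj_mem hm F.gQ) (F.π_ne (C.conj_mem hm F.gQ) (by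
          rw [hPm, ← hp]; exact (pureC_lt p).2))
        exact ⟨s * m, (C.x2.central s hs).mul_left hm, by
          rw [show s * m * u * (s * m)⁻¹ = s * (m * u * m⁻¹) * s⁻¹ by group, hsx, e]⟩
    refine ⟨F.g * m', ?_, ?_⟩
    · rw [show F.g * m' * C.z * (F.g * m')⁻¹ = F.g * (m' * C.z * m'⁻¹) * F.g⁻¹ by group, C.z_conj hm']
    · calc (F.g * m')⁻¹ * C.z * (F.g * m') = m'⁻¹ * x * m' := by simp only [x]; group
        _ = u := by rw [← hmx]; group
  have hcQ1 : C.cQ sw = C.cQ F.g := C.cQ_congr hsw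
  have hcQ2 : C.cQ sw⁻¹ = C.cQ F.g := C.cQ_congr (by rw [inv_inv]; exact hswi)
  have hT : ∀ {x : G}, x ∈ C.cQ F.g → sw⁻¹ * x * sw ∈ C.Q := fun {x} hx => C.mem_cQ.mp (hcQ1 ▸ hx)
  have hTQ : ∀ {x : G}, x ∈ C.Q → sw⁻¹ * x * sw ∈ C.cQ F.g := fun {x} hx => hcQ2 ▸ C.mem_cQ.mpr (by
    simpa [mul_assoc] using hx)
  have hTinv : ∀ {x : G}, sw⁻¹ * x * sw ∈ C.cQ F.g → x ∈ C.Q := fun {x} hx => by
    have := C.mem_cQ.mp (hcQ2.symm ▸ hx : sw⁻¹ * x * sw ∈ C.cQ sw⁻¹)
    simpa [mul_assoc] using this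
  have hTcl : ∀ x, C.Cl (sw⁻¹ * x * sw) ↔ C.Cl x := fun x => by
    refine ⟨fun h => ?_, fun h => by simpa using C.cl_conj h sw⁻¹⟩
    have := C.cl_conj h sw
    simpa [mul_assoc] using this
  -- the dual vectors
  let w : Fin 3 → G := fun l => X l * u * (X l)⁻¹
  have hwQ : ∀ l, w l ∈ C.Q := fun l => C.conj_mem (hX l).1 F.gQ
  have hPw : ∀ l, F.P (w l) = bC l := fun l => by
    rw [F.P_conj _ (hX l).1 u F.gQ, (hX l).2.1, F.P_u]; exact (split_codes.1 l).1
  have hwg : ∀ l, w l ∈ C.cQ F.g := fun l => (F.mem_inter _ (hwQ l)).mpr (by rw [hPw]; exact (split_codes.1 l).2.2.1)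
  let a : Fin 3 → ℕ := fun l => F.P (sw⁻¹ * w l * sw)
  have hz1 : sw⁻¹ * C.z * sw = u := hswi
  have hne0 : ∀ x ∈ C.Q, x ∈ C.cQ F.g → F.P x ≠ 0 → F.P x ≠ 1 →
      F.P (sw⁻¹ * x * sw) ≠ 0 ∧ sw⁻¹ * x * sw ≠ C.z := by
    intro x hx hxg h0 h1
    have hxu : sw⁻¹ * x * sw ≠ C.z := fun e => h1 (by
      rw [← F.P_u, ← hu, ← hsw, ← e]; congr 1; group)
    refine ⟨fun h => ?_, hxu⟩
    rcases (F.P_ker _ (hT hxg)).mp h with e | e
    · exact h0 (by
        have : x = 1 := by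
          calc x = sw * (sw⁻¹ * x * sw) * sw⁻¹ := by group
            _ = 1 := by rw [e]; group
        rw [this, F.P_one])
    · exact hxu e
  have ha_pure : ∀ l, pureB (a l) = true ∧ inU (a l) = true ∧ a l ≠ 1 := by
    intro l
    have hb : ∀ l : Fin 3, bC l ≠ 0 ∧ bC l ≠ 1 ∧ pureB (bC l) = true := by decide +kernel
    obtain ⟨b0, b1, b2⟩ := hb l
    obtain ⟨-, hne⟩ := hne0 _ (hwQ l) (hwg l) (by rw [hPw]; exact b0) (by rw [hPw]; exact b1)
    refine ⟨(F.cl _ (hT (hwg l)) hne).mp ((hTcl _).mpr ?_), (F.mem_inter _ (hT (hwg l))).mp (hTQ (hwQ l)), fun e => ?_⟩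
    · exact C.cl_conj (C.cl_conj C.cl_z F.g) (X l)
    · have hwz : w l ≠ C.z := fun h => b0 (by rw [← hPw, h, F.P_z])
      have hwzu : w l ≠ C.z * u := fun h => b1 (by rw [← hPw, h, F.P_zmul F.gQ, F.P_u])
      have hswu : sw * u * sw⁻¹ = C.z := by rw [← hswi]; group
      have hcases : sw⁻¹ * w l * sw = u ∨ sw⁻¹ * w l * sw = C.z * u :=
        F.eq_of_P F.gQ (hT (hwg l)) (F.P_u.trans e.symm)
      have hwl : w l = sw * (sw⁻¹ * w l * sw) * sw⁻¹ := by group
      rcases hcases with e' | e'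
      · exact hwz (by rw [hwl, e', hswu])
      · refine hwzu ?_
        rw [hwl, e', show sw * (C.z * u) * sw⁻¹ = (sw * C.z * sw⁻¹) * (sw * u * sw⁻¹) by group, hsw, hswu]
        exact (C.x2.central u F.gQ).eq
  have ha_pair : ∀ k l, k ≠ l → a k ≠ a l ∧ pureB (a k ^^^ a l) = false := by
    intro k l hkl
    obtain ⟨p0, p1, p2⟩ := split_codes.2.1 k l hkl
    have hq : w k * w l ∈ C.Q := mul_mem (hwQ k) (hwQ l)
    have hg : w k * w l ∈ C.cQ F.g := mul_mem (hwg k) (hwg l)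
    have hP : F.P (w k * w l) = bC k ^^^ bC l := by rw [F.P_mul _ (hwQ k) _ (hwQ l), hPw, hPw]
    obtain ⟨n0, n1⟩ := hne0 _ hq hg (hP ▸ p0) (hP ▸ p1)
    have e : F.P (sw⁻¹ * (w k * w l) * sw) = a k ^^^ a l := by
      rw [show sw⁻¹ * (w k * w l) * sw = (sw⁻¹ * w k * sw) * (sw⁻¹ * w l * sw) by group,
        F.P_mul _ (hT (hwg k)) _ (hT (hwg l))]
    refine ⟨fun h => n0 (by rw [e, h, Nat.xor_self]), ?_⟩
    rw [← e, ← Bool.not_eq_true, ← F.cl _ (hT hg) n1, hTcl, F.cl _ hq (fun h => p0 (by rw [← hP, h, F.P_z])), hP, p2]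
    exact Bool.false_ne_true
  -- pure involutions
  have hzJ : ∀ k, ∃ J : G, (J = J₀ k ∨ J = J₀ k * C.z) ∧ C.Cl J := by
    intro k
    have hJg : J₀ k ∈ C.cQ F.g := hy' k
    set j := sw⁻¹ * J₀ k * sw with hj
    have hjQ : j ∈ C.Q := hT hJg
    have hJJ : J₀ k * J₀ k = 1 := by
      rcases (C.x2' F.g).sq _ hJg with e | e
      · exact e
      · exfalso
        have hmem : J₀ k * J₀ k ∈ C.Q := e ▸ F.gQ
        have hc : ∀ m, Commute (X m) (J₀ k * J₀ k) := by
          intro m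
          by_cases h : k = m
          · subst h
            have h' : J₀ k * J₀ k * X k * (J₀ k * J₀ k)⁻¹ = X k := by
              rw [show J₀ k * J₀ k * X k * (J₀ k * J₀ k)⁻¹ = J₀ k * (J₀ k * X k * (J₀ k)⁻¹) * (J₀ k)⁻¹ by group,
                (hJ₀ k).2.2, show J₀ k * (X k)⁻¹ * (J₀ k)⁻¹ = (J₀ k * X k * (J₀ k)⁻¹)⁻¹ by group, (hJ₀ k).2.2,
                inv_inv]
            exact (mul_inv_eq_iff_eq_mul.mp h').symm
          · exact ((hJX₀ k m h).symm).mul_right ((hJX₀ k m h).symm)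
        rcases hcX _ hmem hc with e' | e'
        · exact (C.x2' F.g).ne (e.symm.trans e')
        · exact F.gne (e.symm.trans e')
    obtain ⟨l, m, hlk, hmk, hlm⟩ := (show ∀ k : Fin 3, ∃ l m, l ≠ k ∧ m ≠ k ∧ l ≠ m by decide) k
    have hcomm : ∀ l, l ≠ k → pB (F.P j) (a l) = false := fun l hl => by
      rw [F.P_comm _ hjQ _ (hT (hwg l))]
      have h := hfix J₀ (fun k => ⟨(hJ₀ k).1, (hJ₀ k).2.1⟩) hJX₀ k (w l) (hwQ l) (by
        show act (iR k) (F.P (w l)) = F.P (w l)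
        rw [hPw]; exact (split_codes.1 k).2.2.2.2 l hl)
      have := h.map (MulAut.conj sw⁻¹).toMonoidHom
      simpa [MulAut.conj_apply, hj, mul_assoc] using this
    have hj1 : pB (F.P j) 1 = false := by
      rw [← F.P_u, F.P_comm _ hjQ _ F.gQ]
      have := (hJ₀ k).1.map (MulAut.conj sw⁻¹).toMonoidHom
      simp only [MulEquiv.coe_toMonoidHom, MulAut.conj_apply, inv_inv] at this
      rwa [hswi, ← hj] at this
    have hjq : qB (F.P j) = false := (F.P_sq _ hjQ).mpr (by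
      rw [hj, show sw⁻¹ * J₀ k * sw * (sw⁻¹ * J₀ k * sw) = sw⁻¹ * (J₀ k * J₀ k) * sw by group, hJJ]; group)
    have hjU : inU (F.P j) = false := by
      rw [← Bool.not_eq_true, ← F.mem_inter _ hjQ]
      intro h
      have := C.μ_mem (hTinv h)
      rw [(hJ₀ k).2.1] at this
      exact (show ∀ k : Fin 3, iR k ≠ 1 by decide +kernel) k this
    have h := List.all_eq_true.1 (List.all_eq_true.1 (List.all_eq_true.1 purity (F.P j) (List.mem_range.2 (F.lt _)))
      (a l) (List.mem_range.2 (F.lt _))) (a m) (List.mem_range.2 (F.lt _))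
    obtain ⟨l1, l2, l3⟩ := ha_pure l
    obtain ⟨m1, m2, m3⟩ := ha_pure m
    obtain ⟨d1, d2⟩ := ha_pair l m hlm
    simp only [l1, l2, m1, m2, bne_iff_ne.mpr l3, bne_iff_ne.mpr m3, bne_iff_ne.mpr d1, d2, hjq, hj1, hjU,
      hcomm l hlk, hcomm m hmk, Bool.and_true, Bool.not_true, Bool.not_false, Bool.false_or, Bool.or_eq_true] at h
    rcases h with h | h
    · refine ⟨J₀ k, Or.inl rfl, (hTcl _).mp ((F.cl _ hjQ fun e => ?_).mpr h)⟩
      have h0 : pureB (F.P j) ≠ true := by rw [e, F.P_z, split_codes.2.2.2]; exact Bool.false_ne_true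
      exact h0 h
    · refine ⟨J₀ k * C.z, Or.inr rfl, (hTcl _).mp ?_⟩
      rw [show sw⁻¹ * (J₀ k * C.z) * sw = j * (sw⁻¹ * C.z * sw) by rw [hj]; group, hswi]
      refine (F.cl _ (mul_mem hjQ F.gQ) fun e => ?_).mpr (by rw [F.P_mul _ hjQ _ F.gQ, F.P_u]; exact h)
      have h0 : F.P (j * u) = 0 := by rw [e, F.P_z]
      rw [F.P_mul _ hjQ _ F.gQ, F.P_u] at h0
      rw [h0, split_codes.2.2.2] at h
      exact Bool.false_ne_true h
  choose J hJc hJcl using hzJ
  have hJz : ∀ k, Commute (J k) C.z ∧ C.μ (J k) = iR k := fun k => by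
    rcases hJc k with e | e <;> rw [e]
    · exact ⟨(hJ₀ k).1, (hJ₀ k).2.1⟩
    · exact ⟨(hJ₀ k).1.mul_left (Commute.refl _), by
        rw [C.μ_mul _ _ (hJ₀ k).1 (Commute.refl _), C.μ_mem C.x2.mem, mul_one, (hJ₀ k).2.1]⟩
  have hJX : ∀ k l, k ≠ l → Commute (J k) (X l) := fun k l h => by
    rcases hJc k with e | e <;> rw [e]
    · exact hJX₀ k l h
    · exact (hJX₀ k l h).mul_left (hX l).1.symm
  have hJinv : ∀ k, J k * X k * (J k)⁻¹ = (X k)⁻¹ := fun k => by
    rcases hJc k with e | e <;> rw [e]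
    · exact (hJ₀ k).2.2
    · rw [show J₀ k * C.z * X k * (J₀ k * C.z)⁻¹ = J₀ k * (C.z * X k * C.z⁻¹) * (J₀ k)⁻¹ by group,
        (hX k).1.symm.eq, mul_inv_cancel_right, (hJ₀ k).2.2]
  have hJg : ∀ k, J k ∈ C.cQ F.g := fun k => by
    rcases hJc k with e | e <;> rw [e]
    · exact hy' k
    · exact mul_mem (hy' k) F.z_mem
  have hJJ : ∀ k, J k * J k = 1 := fun k => C.cl_sq (hJcl k)
  have hJX' : ∀ k, Commute (J k) (J k) := fun k => Commute.refl _
  have hJcomm : ∀ k l, Commute (J k) (J l) := by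
    intro k l
    by_cases hkl : k = l
    · rw [hkl]
    have hJi : ∀ k, (J k)⁻¹ = J k := fun k => inv_eq_of_mul_eq_one_right (hJJ k)
    rcases (C.x2' F.g).comm _ (hJg k) _ (hJg l) with e | e
    · exact commutatorElement_eq_one_iff_commute.mp e
    exfalso
    have hc : ∀ m, Commute (X m) ⁅J k, J l⁆ := by
      intro m
      have conj1 : ∀ n, J n * X m * J n = if n = m then (X m)⁻¹ else X m := fun n => by
        split_ifs with h
        · subst h; conv_lhs => arg 2; rw [← hJi]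
          exact hJinv n
        · rw [(hJX n m h).eq, mul_assoc, hJJ, mul_one]
      have conj2 : ∀ n, J n * (X m)⁻¹ * J n = if n = m then X m else (X m)⁻¹ := fun n => by
        have := congrArg Inv.inv (conj1 n)
        rw [mul_inv_rev, mul_inv_rev, hJi, ← mul_assoc] at this
        rw [this]; split_ifs <;> simp
      have : ⁅J k, J l⁆ * X m * ⁅J k, J l⁆⁻¹ = X m := by
        calc ⁅J k, J l⁆ * X m * ⁅J k, J l⁆⁻¹ = J k * (J l * (J k * (J l * X m * J l) * J k) * J l) * J k := by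
              rw [commutatorElement_def, hJi, hJi, mul_inv_rev, mul_inv_rev, mul_inv_rev, hJi, hJi]; group
          _ = X m := by
            rw [conj1 l]
            by_cases hlm : l = m
            · subst hlm
              rw [if_pos rfl, conj2 k, if_neg hkl, conj2 l, if_pos rfl, conj1 k, if_neg hkl]
            · rw [if_neg hlm, conj1 k]
              split_ifs with hkm
              · rw [conj2 l, if_neg hlm, conj2 k, if_pos hkm]
              · rw [conj1 l, if_neg hlm, conj1 k, if_neg hkm]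
      exact (mul_inv_eq_iff_eq_mul.mp this).symm
    rcases hcX _ (e ▸ F.gQ : ⁅J k, J l⁆ ∈ C.Q) hc with e' | e'
    · exact (C.x2' F.g).ne (e.symm.trans e')
    · exact F.gne (e.symm.trans e')
  -- the homomorphism
  let f : Fin 3 → Equiv.Perm (Fin 3) →* G := fun k => MonoidHom.mk'
    (fun σ => X k ^ (σ 0 : ℕ) * J k ^ (if σ = cyc ^ (σ 0 : ℕ) then 0 else 1 : ℕ)) fun σ τ => by
      obtain ⟨e1, e2⟩ := perm_coords σ τ
      rw [pow_eq_pow_mod ((σ * τ) 0 : ℕ) (hX k).2.2, e1, ← pow_eq_pow_mod _ (hX k).2.2, e2,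
        ← pow_eq_pow_mod _ ((pow_two (J k)).trans (hJJ k)), pow_add, pow_add]
      have hmul : ∀ a b c d : ℕ, c ≤ 1 →
          X k ^ a * X k ^ ((c + 1) * b) * (J k ^ c * J k ^ d) = X k ^ a * J k ^ c * (X k ^ b * J k ^ d) := by
        intro a b c d hc
        rcases Nat.le_one_iff_eq_zero_or_eq_one.mp hc with rfl | rfl
        · simp [mul_assoc]
        · have hconj : J k * X k ^ b = X k ^ (2 * b) * J k := by
            have h2 : J k * X k ^ b * (J k)⁻¹ = X k ^ (2 * b) := by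
              rw [← conj_pow, hJinv, pow_mul]
              congr 1
              exact inv_eq_of_mul_eq_one_right (by rw [← pow_succ', show 2 + 1 = 3 from rfl, (hX k).2.2])
            exact mul_inv_eq_iff_eq_mul.mp h2
          rw [pow_one, mul_assoc (X k ^ a) (J k), ← mul_assoc (J k), hconj]
          simp [mul_assoc]
      exact hmul _ _ _ _ (by split_ifs <;> norm_num)
  have hcommf : Pairwise fun i j => ∀ σ τ, Commute (f i σ) (f j τ) := by
    intro i j hij σ τ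
    refine ((Commute.mul_right ?_ ?_).mul_left (Commute.mul_right ?_ ?_))
    · exact (hXX i j).pow_pow _ _
    · exact ((hJX j i hij.symm).symm).pow_pow _ _
    · exact (hJX i j hij).pow_pow _ _
    · exact (hJcomm i j).pow_pow _ _
  let s := MonoidHom.noncommPiCoprod f hcommf
  have hzf : ∀ k σ, Commute (f k σ) C.z := fun k σ => ((hX k).1.pow_left _).mul_left ((hJz k).1.pow_left _)
  have hμf : ∀ k σ, C.μ (f k σ) = Pi.mulSingle k σ := by
    intro k σ
    show C.μ (X k ^ _ * J k ^ _) = _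
    rw [C.μ_mul _ _ ((hX k).1.pow_left _) ((hJz k).1.pow_left _), C.μ_pow (hX k).1, C.μ_pow (hJz k).1,
      (hX k).2.1, (hJz k).2]
    exact (show ∀ (k : Fin 3) (σ : Equiv.Perm (Fin 3)),
      xR k ^ ((σ 0 : Fin 3) : ℕ) * iR k ^ (if σ = cyc ^ ((σ 0 : Fin 3) : ℕ) then 0 else 1 : ℕ) = Pi.mulSingle k σ
      by decide +kernel) k σ
  have hsplit : ∀ r : RS, r = Pi.mulSingle 0 (r 0) * Pi.mulSingle 1 (r 1) * Pi.mulSingle 2 (r 2) := fun r => by
    funext l; fin_cases l <;> simp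
  have hsr : ∀ r, s r = f 0 (r 0) * f 1 (r 1) * f 2 (r 2) := fun r => by
    conv_lhs => rw [hsplit r]
    rw [map_mul, map_mul]
    simp only [s, MonoidHom.noncommPiCoprod_mulSingle]
  have hsJ : ∀ k, s (iR k) = J k := fun k => by
    show MonoidHom.noncommPiCoprod f hcommf (Pi.mulSingle k tau) = _
    rw [MonoidHom.noncommPiCoprod_mulSingle]
    show X k ^ ((tau 0 : Fin 3) : ℕ) * J k ^ _ = _
    rw [if_neg (show tau ≠ cyc ^ ((tau 0 : Fin 3) : ℕ) by decide +kernel), pow_one]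
    simp [show tau 0 = 0 by decide +kernel]
  refine ⟨{
    F := F, sw := sw, sw_z := hsw, sw_inv := hswi, s := s
    s_z := fun r => by
      rw [hsr]; exact ((hzf 0 _).mul_left (hzf 1 _)).mul_left (hzf 2 _)
    s_μ := fun r => by
      rw [hsr, C.μ_mul _ _ ((hzf 0 _).mul_left (hzf 1 _)) (hzf 2 _), C.μ_mul _ _ (hzf 0 _) (hzf 1 _), hμf, hμf, hμf,
        ← hsplit]
    s_mem := fun r hr => by
      rw [hsr]
      have : ∀ k, f k (r k) ∈ C.cQ F.g := fun k => by
        show X k ^ ((r k 0 : Fin 3) : ℕ) * J k ^ _ ∈ _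
        rw [hr k, Fin.val_zero, pow_zero, one_mul]
        exact pow_mem (hJg k) _
      exact mul_mem (mul_mem (this 0) (this 1)) (this 2)
    s_fix := fun k x hx h => hsJ k ▸ hfix J hJz hJX k x hx h
    s_pure := fun k => hsJ k ▸ hJcl k }⟩

end Cfsg.Lib.OEightTwo
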