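import Cfsg.Agent.OEightTwo.Pairs
import Cfsg.Agent.ConwayType.Code

/-!
Coded tensor product of three natural modules of the symmetric group of degree three.
-/

set_option autoImplicit false
set_option linter.style.haveILetI false
set_option maxRecDepth 100000

namespace Cfsg.Lib.OEightTwo

open Cfsg.Lib.ConwayType.Code (qB pB)

/-- The points of a pure tensor belonging to a basis vector. -/
def eps (i : ℕ) : Fin 3 → Fin 3 :=
  [![0, 0, 0], ![1, 0, 0], ![0, 1, 0], ![1, 1, 0], ![1, 1, 1], ![0, 1, 1], ![1, 0, 1], ![0, 0, 1]].getD i ![0, 0, 0]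

/-- The coefficient of a point at a basis point. -/
def coef (p e : Fin 3) : Bool := p == 2 || p == e

/-- The code of a pure tensor. -/
def pureC (p : Fin 3 → Fin 3) : ℕ :=
  (List.range 8).foldr (fun i s => (bif coef (p 0) (eps i 0) && coef (p 1) (eps i 1) && coef (p 2) (eps i 2) then 2 ^ i
    else 0) ^^^ s) 0

/-- The action on codes. -/
def act (r : RS) (x : ℕ) : ℕ :=
  (List.range 8).foldr (fun i s => (bif x.testBit i then pureC (fun k => r k (eps i k)) else 0) ^^^ s) 0

/-- All triples of points. -/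
def pts : List (Fin 3 → Fin 3) :=
  (List.range 27).map fun n => ![Fin.ofNat 3 n, Fin.ofNat 3 (n / 3), Fin.ofNat 3 (n / 9)]

/-- The pure codes. -/
def pureB (x : ℕ) : Bool := pts.any fun p => pureC p == x

/-- The code lies in the standard totally singular subspace. -/
def inU (x : ℕ) : Bool := x &&& 120 == 0

theorem pureC_lt : ∀ p : Fin 3 → Fin 3, pureC p < 256 ∧ pureC p ≠ 0 := by decide +kernel

theorem pureC_eps : ∀ i : Fin 8, pureC (eps i) = 2 ^ (i : ℕ) := by decide +kernel

theorem pureC_two : ∀ (k : Fin 3) (p : Fin 3 → Fin 3), p k = 2 →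
    pureC p = pureC (Function.update p k 0) ^^^ pureC (Function.update p k 1) := by decide +kernel

theorem eps_surj : ∀ p : Fin 3 → Fin 3, (∀ k, p k ≠ 2) → ∃ i : Fin 8, eps i = p := by decide +kernel

theorem eps_ne_two : ∀ (i : Fin 8) (k : Fin 3), eps i k ≠ 2 := by decide +kernel

theorem eps_opp : ∀ i j : Fin 8, (∀ k, eps i k ≠ eps j k) ↔ ((i : ℕ) + 4) % 8 = j := by decide +kernel

theorem pureB_iff {x : ℕ} : pureB x = true ↔ ∃ p, pureC p = x := by
  have h : ∀ p : Fin 3 → Fin 3, p ∈ pts := by decide +kernel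
  simp only [pureB, List.any_eq_true, beq_iff_eq]
  exact ⟨fun ⟨p, _, e⟩ => ⟨p, e⟩, fun ⟨p, e⟩ => ⟨p, h p, e⟩⟩

theorem act_lt (r : RS) (x : ℕ) : act r x < 256 := by
  unfold act
  induction List.range 8 with
  | nil => norm_num
  | cons i l ih =>
    rw [List.foldr_cons]
    refine Nat.xor_lt_two_pow (n := 8) ?_ ih
    cases x.testBit i
    · norm_num
    · simpa using (pureC_lt fun k => r k (eps i k)).1

theorem qB_step : ((List.range 8).all fun n => (List.range (2 ^ n)).all fun y =>
    qB (y ^^^ 2 ^ n) == (qB y ^^ y.testBit ((n + 4) % 8))) = true := by decide +kernel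

theorem wdual : ((List.range 256).all fun x => [0, 1, 2].all fun k : Fin 3 =>
    !([0, 1, 2].all fun l : Fin 3 => act (iR l) x == bif k == l then x ^^^ 1 else x) ||
      ([2, 4, 128].getD k 0 == x || [3, 5, 129].getD k 0 == x)) = true := by decide +kernel

theorem fixed_code : ((List.range 256).all fun x =>
    !([0, 1, 2].all fun l : Fin 3 => act (iR l) x == x) || x == 0 || x == 1) = true := by decide +kernel

end Cfsg.Lib.OEightTwo
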